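import Mathlib
import Cfsg.Agent.H686.CharKit
import Cfsg.Agent.Characters.GaloisBasic

/-!
# Elements at which no irreducible character vanishes

If no irreducible character vanishes at `g` then `k(G) ≤ |C_G(g)|`.
-/

set_option autoImplicit false

namespace Cfsg.Agent.H598.NoZero

open Cfsg Cfsg.Agent.Characters Cfsg.Agent.H686.CharKit
open scoped ComplexConjugate

universe u

variable {G : Type u} [Group G] [Finite G]

omit [Finite G] in
theorem pow_unit_mul (g : G) {n : ℕ} (hn : g ^ n = 1) (m : (ZMod n)ˣ) (k : ℕ) (hk : k.Coprime n) :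
    (g ^ k) ^ (m : ZMod n).val = g ^ ((m * ZMod.unitOfCoprime k hk : (ZMod n)ˣ) : ZMod n).val := by
  rw [← pow_mul, Units.val_mul, ZMod.coe_unitOfCoprime, ZMod.val_mul, ← pow_eq_pow_mod _ hn,
    mul_comm (m : ZMod n).val, ZMod.val_natCast, pow_mul, pow_mul, ← pow_eq_pow_mod _ hn]

/-- The mean of the squared absolute values of the conjugates of a nonzero character value. -/
theorem le_sum_norm_sq (χ : IrrCharacter G) {g : G} (hg : (χ : G → ℂ) g ≠ 0) [NeZero (Nat.card G)] :
    (Fintype.card (ZMod (Nat.card G))ˣ : ℝ)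
      ≤ ∑ m : (ZMod (Nat.card G))ˣ, Complex.normSq ((χ : G → ℂ) (g ^ (m : ZMod (Nat.card G)).val)) := by
  classical
  have hχ := Core.isIrr_isCharacter χ.2
  set P : ℂ := ∏ m : (ZMod (Nat.card G))ˣ, (χ : G → ℂ) (g ^ (m : ZMod (Nat.card G)).val) with hP
  have hne : ∀ m : (ZMod (Nat.card G))ˣ, (χ : G → ℂ) (g ^ (m : ZMod (Nat.card G)).val) ≠ 0 := by
    intro m
    obtain ⟨σ, hσ⟩ := GaloisBasic.exists_ringEquiv_of_coprime (G := G)
      (m := (m : ZMod (Nat.card G)).val) (ZMod.val_coe_unit_coprime m)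
    rw [← hσ _ hχ g]
    intro h
    exact hg (by simpa using h)
  have hP0 : P ≠ 0 := Finset.prod_ne_zero_iff.mpr fun m _ => hne m
  have hPint : IsIntegral ℤ P :=
    IsIntegral.prod _ fun m _ => GaloisBasic.isIntegral_apply hχ _
  have hfix : ∀ σ : ℂ ≃+* ℂ, σ P = P := by
    intro σ
    obtain ⟨k, hk, hσ⟩ := GaloisBasic.exists_pow_of_ringEquiv (G := G) σ
    rw [hP, map_prod]
    conv_rhs => rw [← Equiv.prod_comp (Equiv.mulRight (ZMod.unitOfCoprime k hk))]
    refine Finset.prod_congr rfl fun m _ => ?_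
    rw [hσ _ hχ]
    rw [Equiv.coe_mulRight, ← pow_unit_mul g pow_card_eq_one' m k hk, ← pow_mul, ← pow_mul,
      mul_comm]
  obtain ⟨q, hq⟩ := GaloisBasic.exists_rat_of_forall_ringEquiv hPint.tower_top hfix
  obtain ⟨k, hk⟩ := GaloisBasic.exists_int_of_isIntegral hPint ⟨q, hq⟩
  have hk0 : k ≠ 0 := by
    rintro rfl
    exact hP0 (by rw [hk]; simp)
  have hPnorm : 1 ≤ Complex.normSq P := by
    rw [hk, Complex.normSq_intCast]
    have : (1 : ℤ) ≤ k * k := by
      rcases lt_or_gt_of_ne hk0 with h | h <;> nlinarith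
    exact_mod_cast this
  have hpos : ∀ m : (ZMod (Nat.card G))ˣ,
      0 < Complex.normSq ((χ : G → ℂ) (g ^ (m : ZMod (Nat.card G)).val)) := fun m =>
    Complex.normSq_pos.2 (hne m)
  have h1 : ∑ m : (ZMod (Nat.card G))ˣ,
      (Real.log (Complex.normSq ((χ : G → ℂ) (g ^ (m : ZMod (Nat.card G)).val))) + 1)
      ≤ ∑ m : (ZMod (Nat.card G))ˣ,
        Complex.normSq ((χ : G → ℂ) (g ^ (m : ZMod (Nat.card G)).val)) := by
    refine Finset.sum_le_sum fun m _ => ?_
    have := Real.log_le_sub_one_of_pos (hpos m)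
    linarith
  have h2 : 0 ≤ ∑ m : (ZMod (Nat.card G))ˣ,
      Real.log (Complex.normSq ((χ : G → ℂ) (g ^ (m : ZMod (Nat.card G)).val))) := by
    rw [← Real.log_prod (fun m _ => (hpos m).ne'), ← map_prod]
    exact Real.log_nonneg hPnorm
  rw [Finset.sum_add_distrib, Finset.sum_const, nsmul_eq_mul, mul_one, Finset.card_univ] at h1
  linarith

/-- **No zeros**: if no irreducible character vanishes at `g` then the order of the centralizer of
`g` is at least the number of irreducible characters. -/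
theorem card_irr_le {g : G} (h : ∀ χ : IrrCharacter G, (χ : G → ℂ) g ≠ 0) :
    Nat.card (IrrCharacter G) ≤ Nat.card (Subgroup.centralizer ({g} : Set G)) := by
  classical
  have : Finite (IrrCharacter G) := Core.finite_irr
  have : Fintype (IrrCharacter G) := Fintype.ofFinite _
  have : NeZero (Nat.card G) := ⟨Nat.card_pos.ne'⟩
  have hcent : ∀ m : (ZMod (Nat.card G))ˣ,
      Subgroup.centralizer ({g ^ (m : ZMod (Nat.card G)).val} : Set G)
        = Subgroup.centralizer ({g} : Set G) := by
    intro m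
    ext x
    rw [Subgroup.mem_centralizer_singleton_iff, Subgroup.mem_centralizer_singleton_iff]
    constructor
    · intro hx
      have h1 : Commute x (g ^ (m : ZMod (Nat.card G)).val) := hx
      have h2 := h1.pow_right ((m⁻¹ : (ZMod (Nat.card G))ˣ) : ZMod (Nat.card G)).val
      rw [← pow_mul, pow_eq_pow_mod _ (pow_card_eq_one' (G := G) (x := g)), ← ZMod.val_mul,
        ← Units.val_mul, mul_inv_cancel, Units.val_one] at h2
      rcases Nat.lt_or_ge 1 (Nat.card G) with h3 | h3
      · have : Fact (1 < Nat.card G) := ⟨h3⟩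
        rw [ZMod.val_one, pow_one] at h2
        exact h2
      · have : Subsingleton G := Finite.card_le_one_iff_subsingleton.1 h3
        exact Subsingleton.elim _ _
    · intro hx
      have h1 : Commute x g := hx
      exact h1.pow_right _
  have h1 : (Fintype.card (ZMod (Nat.card G))ˣ : ℝ) * Nat.card (IrrCharacter G)
      ≤ (Fintype.card (ZMod (Nat.card G))ˣ : ℝ)
        * Nat.card (Subgroup.centralizer ({g} : Set G)) := by
    calc (Fintype.card (ZMod (Nat.card G))ˣ : ℝ) * Nat.card (IrrCharacter G)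
        = ∑ _χ : IrrCharacter G, (Fintype.card (ZMod (Nat.card G))ˣ : ℝ) := by
          rw [Finset.sum_const, Finset.card_univ, nsmul_eq_mul, mul_comm,
            Nat.card_eq_fintype_card (α := IrrCharacter G)]
      _ ≤ ∑ χ : IrrCharacter G, ∑ m : (ZMod (Nat.card G))ˣ,
          Complex.normSq ((χ : G → ℂ) (g ^ (m : ZMod (Nat.card G)).val)) :=
          Finset.sum_le_sum fun χ _ => le_sum_norm_sq χ (h χ)
      _ = ∑ m : (ZMod (Nat.card G))ˣ, ∑ χ : IrrCharacter G,
          Complex.normSq ((χ : G → ℂ) (g ^ (m : ZMod (Nat.card G)).val)) := Finset.sum_comm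
      _ = ∑ _m : (ZMod (Nat.card G))ˣ, (Nat.card (Subgroup.centralizer ({g} : Set G)) : ℝ) := by
          refine Finset.sum_congr rfl fun m _ => ?_
          rw [sum_normSq, hcent m]
      _ = _ := by
          rw [Finset.sum_const, Finset.card_univ, nsmul_eq_mul]
  have h2 : (0 : ℝ) < Fintype.card (ZMod (Nat.card G))ˣ := by
    exact_mod_cast Fintype.card_pos
  exact_mod_cast le_of_mul_le_mul_left h1 h2

/-- All degrees at most `b`: the group order is less than `k(G) b²` unless the group is trivial or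
`b ≤ 1`. -/
theorem card_lt {b : ℕ} (hb : 1 < b) (h : ∀ χ : IrrCharacter G, charDegree (χ : G → ℂ) ≤ b) :
    Nat.card G < Nat.card (IrrCharacter G) * b ^ 2 := by
  classical
  have : Finite (IrrCharacter G) := Core.finite_irr
  have : Fintype (IrrCharacter G) := Fintype.ofFinite _
  rw [← sum_deg_sq, Nat.card_eq_fintype_card, ← smul_eq_mul, ← Finset.card_univ, ← Finset.sum_const]
  refine Finset.sum_lt_sum (fun χ _ => Nat.pow_le_pow_left (h χ) 2)
    ⟨⟨1, Core.isIrr_one⟩, Finset.mem_univ _, ?_⟩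
  have h1 : charDegree (1 : G → ℂ) = 1 := by
    unfold charDegree
    simp
  show charDegree (1 : G → ℂ) ^ 2 < b ^ 2
  rw [h1]
  exact Nat.pow_lt_pow_left hb (by norm_num)

/-- If no irreducible character vanishes at `g` and all degrees are at most `b`, then the class of
`g` has fewer than `b²` elements. -/
theorem index_lt {b : ℕ} (hb : 1 < b) (hdeg : ∀ χ : IrrCharacter G, charDegree (χ : G → ℂ) ≤ b)
    {g : G} (h : ∀ χ : IrrCharacter G, (χ : G → ℂ) g ≠ 0) :
    (Subgroup.centralizer ({g} : Set G)).index < b ^ 2 := by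
  have h1 := card_irr_le h
  have h2 := card_lt hb hdeg
  have h3 := (Subgroup.centralizer ({g} : Set G)).card_mul_index
  by_contra hc
  push Not at hc
  have h4 : Nat.card (IrrCharacter G) * b ^ 2
      ≤ Nat.card (Subgroup.centralizer ({g} : Set G)) * (Subgroup.centralizer ({g} : Set G)).index :=
    Nat.mul_le_mul h1 hc
  omega

end Cfsg.Agent.H598.NoZero
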