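import Cfsg.Agent.H290.ElReg
import Cfsg.Agent.H915.GNDefs
import Cfsg.Agent.H436.Names

/-!
# The exceptional groups have faithful representations of degree at most 248 in their own characteristic
-/

set_option autoImplicit false

namespace Cfsg.Agent.H598.ExcFth

open Cfsg Cfsg.Lie Cfsg.Agent.OrdDiv Cfsg.Agent.H290.ElReg
open Cfsg.Agent.H436 (IsNamed)
open Cfsg.Agent.H915.GN (HasChar)

/-- names of the exceptional groups of Lie type -/
def IsExc : Grp → Prop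
  | .g2 _ => True
  | .f4 _ => True
  | .e6 _ => True
  | .e7 _ => True
  | .e8 _ => True
  | .te6 _ => True
  | .td4 _ => True
  | .sz _ => True
  | .ree _ => True
  | .tf4 _ => True
  | _ => False

theorem fth_le {ι : Type} [Fintype ι] [DecidableEq ι] {F : Type} [Field F]
    {G : Subgroup (Matrix.GeneralLinearGroup ι F)} {T : Type} [Group T] (e : T ≃* ↥G) (hn : Fintype.card ι ≤ 248) :
    ∃ n ≤ 248, Fth n F T := ⟨_, hn, (Fth.of G.subtype_injective).congr e.symm⟩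

theorem char_data (F : Type) [Field F] [Fintype F] {q k : ℕ} (hk : k ≠ 0) (hF : Fintype.card F = q ^ k) :
    ∃ p : ℕ, ∃ _ : CharP F p, p.Prime ∧ ∃ f, q = p ^ f := by
  obtain ⟨p, hp⟩ := CharP.exists F
  obtain ⟨n, hp1, hn⟩ := FiniteField.card F p
  have h1 : q ∣ p ^ (n : ℕ) := hn ▸ hF ▸ dvd_pow_self q hk
  obtain ⟨f, -, hf⟩ := (Nat.dvd_prime_pow hp1).1 h1
  exact ⟨p, hp, hp1, f, hf⟩

/-- **Exceptional groups**: a faithful representation of degree at most 248 over a finite field in the own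
characteristic. -/
theorem exc_fth' {T : Type} [Group T] {g : Grp} (h : Real g T) (hg : IsExc g) :
    ∃ (p : ℕ) (F : Type) (_ : Field F) (_ : Fintype F) (_ : CharP F p), p.Prime ∧ HasChar p g ∧
      ∃ n ≤ 248, Fth n F T := by
  cases g with
  | g2 q =>
    obtain ⟨F, i1, i2, hF, ⟨e⟩⟩ := h
    obtain ⟨p, hc, hp, hq⟩ := char_data F one_ne_zero (hF.trans (pow_one q).symm)
    exact ⟨p, F, i1, i2, hc, hp, hq, fth_le e (by decide +kernel)⟩
  | f4 q =>
    obtain ⟨F, i1, i2, hF, ⟨e⟩⟩ := h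
    obtain ⟨p, hc, hp, hq⟩ := char_data F one_ne_zero (hF.trans (pow_one q).symm)
    exact ⟨p, F, i1, i2, hc, hp, hq, fth_le e (by decide +kernel)⟩
  | e6 q =>
    obtain ⟨F, i1, i2, hF, ⟨e⟩⟩ := h
    obtain ⟨p, hc, hp, hq⟩ := char_data F one_ne_zero (hF.trans (pow_one q).symm)
    exact ⟨p, F, i1, i2, hc, hp, hq, fth_le e (by decide +kernel)⟩
  | e7 q =>
    obtain ⟨F, i1, i2, hF, ⟨e⟩⟩ := h
    obtain ⟨p, hc, hp, hq⟩ := char_data F one_ne_zero (hF.trans (pow_one q).symm)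
    exact ⟨p, F, i1, i2, hc, hp, hq, fth_le e (by decide +kernel)⟩
  | e8 q =>
    obtain ⟨F, i1, i2, hF, ⟨e⟩⟩ := h
    obtain ⟨p, hc, hp, hq⟩ := char_data F one_ne_zero (hF.trans (pow_one q).symm)
    exact ⟨p, F, i1, i2, hc, hp, hq, fth_le e (by decide +kernel)⟩
  | te6 q =>
    obtain ⟨F, i1, i2, hF, ⟨e⟩⟩ := h
    obtain ⟨p, hc, hp, hq⟩ := char_data F two_ne_zero hF
    exact ⟨p, F, i1, i2, hc, hp, hq, fth_le e (by decide +kernel)⟩
  | td4 q =>
    obtain ⟨F, i1, i2, hF, ⟨e⟩⟩ := h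
    obtain ⟨p, hc, hp, hq⟩ := char_data F three_ne_zero hF
    exact ⟨p, F, i1, i2, hc, hp, hq, fth_le e (by decide +kernel)⟩
  | sz q =>
    obtain ⟨F, i1, i2, m, hm, hF, hq', ⟨e⟩⟩ := h
    obtain ⟨p, hc, hp, hq⟩ := char_data F one_ne_zero (hF.trans (pow_one q).symm)
    exact ⟨p, F, i1, i2, hc, hp, hq, fth_le e (by decide +kernel)⟩
  | ree q =>
    obtain ⟨F, i1, i2, m, hm, hF, hq', ⟨e⟩⟩ := h
    obtain ⟨p, hc, hp, hq⟩ := char_data F one_ne_zero (hF.trans (pow_one q).symm)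
    exact ⟨p, F, i1, i2, hc, hp, hq, fth_le e (by decide +kernel)⟩
  | tf4 q =>
    obtain ⟨F, i1, i2, m, hm, hF, hq', ⟨e⟩⟩ := h
    obtain ⟨p, hc, hp, hq⟩ := char_data F one_ne_zero (hF.trans (pow_one q).symm)
    exact ⟨p, F, i1, i2, hc, hp, hq, fth_le e (by decide +kernel)⟩
  | _ => exact hg.elim

/-- the form asked for by TEAM Dg (S5734) -/
theorem exc_fth {T : Type} [Group T] [Finite T] {g : Grp} (h : IsNamed g T) (hg : IsExc g) :
    ∃ (p : ℕ) (F : Type) (_ : Field F) (_ : CharP F p), p.Prime ∧ HasChar p g ∧ ∃ n ≤ 248, Fth n F T := by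
  obtain ⟨p, F, h1, -, h2, h3⟩ := exc_fth' h.real hg
  exact ⟨p, F, h1, h2, h3⟩

end Cfsg.Agent.H598.ExcFth
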