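import Mathlib
import Cfsg.Agent.H686.CharKit
import Cfsg.Agent.Characters.GaloisBasic
import Cfsg.Agent.Characters.DegreeBounds
import Cfsg.Agent.Characters.ExceptionalIsometry

/-!
# Multiplicities of the eigenvalues of an element of prime order

For `y` of order `p` and an irreducible character `χ` let `a χ j` be the multiplicity of the
eigenvalue `ζ ^ j` of `y`.  The Gram matrix of the vectors `(a χ j)_χ`.
-/

set_option autoImplicit false

namespace Cfsg.Agent.H598.Gram

open Cfsg Cfsg.Agent.Characters Cfsg.Agent.H686.CharKit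
open scoped ComplexConjugate

universe u

section mult

variable {G : Type u} [Group G] {p : ℕ} [hp : Fact p.Prime]

theorem exists_stdAddChar {z : ℂ} (hz : z ^ p = 1) : ∃ c : ZMod p, z = ZMod.stdAddChar c := by
  have h1 : IsPrimitiveRoot (ZMod.stdAddChar (1 : ZMod p)) p := by
    have h := Complex.isPrimitiveRoot_exp p hp.out.ne_zero
    have h2 : ZMod.stdAddChar (1 : ZMod p) = Complex.exp (2 * Real.pi * Complex.I / p) := by
      have := ZMod.stdAddChar_coe (N := p) 1
      simpa using this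
    rw [h2]
    exact h
  obtain ⟨i, _, hi⟩ := h1.eq_pow_of_pow_eq_one hz
  refine ⟨(i : ZMod p), ?_⟩
  rw [← hi, ← AddChar.map_nsmul_eq_pow, nsmul_eq_mul, mul_one]

theorem stdAddChar_pow_val (c k : ZMod p) :
    (ZMod.stdAddChar c : ℂ) ^ k.val = ZMod.stdAddChar (c * k) := by
  rw [← AddChar.map_nsmul_eq_pow, nsmul_eq_mul, ZMod.natCast_zmod_val, mul_comm]

/-- The multiplicities of the eigenvalues of an element of order `p`. -/
theorem exists_mult {χ : G → ℂ} (hχ : IsCharacter G χ) {y : G} (hy : y ^ p = 1) :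
    ∃ a : ZMod p → ℕ,
      (∀ k : ZMod p, χ (y ^ k.val) = ∑ j, (a j : ℂ) * ZMod.stdAddChar (j * k)) ∧
      χ 1 = ∑ j, (a j : ℂ) := by
  classical
  obtain ⟨d, μ, h1, h2, h3⟩ := GaloisBasic.isCharacter_exists_fin_pow hχ y hp.out.ne_zero hy
  have hc : ∀ i, ∃ c : ZMod p, μ i = ZMod.stdAddChar c := fun i => exists_stdAddChar (h2 i)
  choose c hc using hc
  refine ⟨fun j => (Finset.univ.filter fun i => c i = j).card, ?_, ?_⟩
  · intro k
    rw [h3 k.val, ← Finset.sum_fiberwise Finset.univ c]
    refine Finset.sum_congr rfl fun j _ => ?_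
    rw [← nsmul_eq_mul, ← Finset.sum_const]
    refine Finset.sum_congr rfl fun i hi => ?_
    rw [hc i, stdAddChar_pow_val, (Finset.mem_filter.1 hi).2]
  · rw [h1]
    have : d = ∑ j : ZMod p, (Finset.univ.filter fun i => c i = j).card := by
      rw [← Finset.card_eq_sum_card_fiberwise (f := c) (s := Finset.univ) (t := Finset.univ)]
      · simp
      · intro i _
        exact Finset.mem_coe.2 (Finset.mem_univ _)
    exact_mod_cast this

theorem sum_stdAddChar_mul (b : ZMod p) :
    ∑ k : ZMod p, (ZMod.stdAddChar (b * k) : ℂ) = if b = 0 then (p : ℂ) else 0 := by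
  have h := AddChar.sum_mulShift (R := ZMod p) (R' := ℂ) (ψ := ZMod.stdAddChar) b
    (ZMod.isPrimitive_stdAddChar p)
  simp only [mul_comm _ b] at h
  rw [h, ZMod.card]
  simp

/-- Inversion formula. -/
theorem mult_eq {f : ZMod p → ℂ} {a : ZMod p → ℂ}
    (h : ∀ k : ZMod p, f k = ∑ j, a j * ZMod.stdAddChar (j * k)) (j : ZMod p) :
    (p : ℂ) * a j = ∑ k, f k * ZMod.stdAddChar (-(j * k)) := by
  have h1 : ∀ k, f k * ZMod.stdAddChar (-(j * k))
      = ∑ l, a l * ZMod.stdAddChar ((l - j) * k) := by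
    intro k
    rw [h k, Finset.sum_mul]
    refine Finset.sum_congr rfl fun l _ => ?_
    rw [mul_assoc, ← AddChar.map_add_eq_mul]
    congr 2
    ring
  rw [Finset.sum_congr rfl fun k _ => h1 k, Finset.sum_comm]
  simp only [← Finset.mul_sum, sum_stdAddChar_mul, sub_eq_zero]
  rw [Finset.sum_eq_single j]
  · simp [mul_comm]
  · intro l _ hl
    rw [if_neg hl, mul_zero]
  · intro h
    exact absurd (Finset.mem_univ j) h

end mult

section gram

variable {G : Type u} [Group G] [Finite G] {p : ℕ} [hp : Fact p.Prime]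

/-- A family of multiplicities of the eigenvalues of `y` for the irreducible characters. -/
def IsMult (y : G) (a : IrrCharacter G → ZMod p → ℕ) : Prop :=
  ∀ χ : IrrCharacter G,
    (∀ k : ZMod p, (χ : G → ℂ) (y ^ k.val) = ∑ j, (a χ j : ℂ) * ZMod.stdAddChar (j * k)) ∧
      (χ : G → ℂ) 1 = ∑ j, (a χ j : ℂ)

omit [Finite G] in
theorem exists_isMult {y : G} (hy : y ^ p = 1) :
    ∃ a : IrrCharacter G → ZMod p → ℕ, IsMult y a := by
  choose a ha using fun χ : IrrCharacter G => exists_mult (Core.isIrr_isCharacter χ.2) hy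
  exact ⟨a, ha⟩

omit [Finite G] in
theorem IsMult.inv {y : G} {a : IrrCharacter G → ZMod p → ℕ} (ha : IsMult y a)
    (χ : IrrCharacter G) (j : ZMod p) :
    (p : ℂ) * a χ j = ∑ k : ZMod p, (χ : G → ℂ) (y ^ k.val) * ZMod.stdAddChar (-(j * k)) :=
  mult_eq (f := fun k : ZMod p => (χ : G → ℂ) (y ^ k.val)) (a := fun j => (a χ j : ℂ))
    (ha χ).1 j

theorem conj_stdAddChar (x : ZMod p) :
    conj (ZMod.stdAddChar x : ℂ) = ZMod.stdAddChar (-x) := by
  rw [AddChar.map_neg_eq_conj]

/-- The character induced from a linear character of `⟨y⟩`. -/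
theorem IsMult.col [Fintype (IrrCharacter G)] {y : G} {a : IrrCharacter G → ZMod p → ℕ}
    (ha : IsMult y a) (g : G) (l : ZMod p) [∀ h : G, Decidable (IsConj g h)] :
    (p : ℂ) * ∑ χ : IrrCharacter G, (χ : G → ℂ) g * a χ l
      = ∑ k : ZMod p, ZMod.stdAddChar (l * k) *
        (if IsConj g (y ^ k.val) then
          (Nat.card (Subgroup.centralizer ({y ^ k.val} : Set G)) : ℂ) else 0) := by
  have h1 : ∀ χ : IrrCharacter G, (p : ℂ) * ((χ : G → ℂ) g * a χ l)
      = ∑ k : ZMod p, ZMod.stdAddChar (l * k) *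
        ((χ : G → ℂ) g * conj ((χ : G → ℂ) (y ^ k.val))) := by
    intro χ
    have h2 : (p : ℂ) * a χ l
        = ∑ k : ZMod p, conj ((χ : G → ℂ) (y ^ k.val)) * ZMod.stdAddChar (l * k) := by
      have h3 := congrArg conj (ha.inv χ l)
      rw [map_mul, Complex.conj_natCast, Complex.conj_natCast, map_sum] at h3
      rw [h3]
      refine Finset.sum_congr rfl fun k _ => ?_
      rw [map_mul, conj_stdAddChar, neg_neg]
    rw [mul_left_comm, h2, Finset.mul_sum]
    refine Finset.sum_congr rfl fun k _ => ?_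
    ring
  rw [Finset.mul_sum, Finset.sum_congr rfl fun χ _ => h1 χ, Finset.sum_comm]
  refine Finset.sum_congr rfl fun k _ => ?_
  rw [← Finset.mul_sum, col_orth g (y ^ k.val)]

/-- The exponents `t` with `y ^ t` conjugate to `y`. -/
noncomputable def expo (p : ℕ) [Fact p.Prime] (y : G) : Finset (ZMod p) :=
  haveI := Classical.decPred fun t : ZMod p => t ≠ 0 ∧ IsConj y (y ^ t.val)
  Finset.univ.filter fun t : ZMod p => t ≠ 0 ∧ IsConj y (y ^ t.val)

omit [Finite G] in
theorem mem_expo {y : G} {t : ZMod p} : t ∈ expo p y ↔ t ≠ 0 ∧ IsConj y (y ^ t.val) := by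
  unfold expo
  simp

omit [Finite G] in
theorem pow_val_mul {y : G} (hy : y ^ p = 1) (k t : ZMod p) :
    y ^ (k * t).val = (y ^ k.val) ^ t.val := by
  rw [ZMod.val_mul, ← pow_mul, ← pow_eq_pow_mod _ hy]

omit [Finite G] in
theorem pow_val_inv {y : G} (hy : y ^ p = 1) {k : ZMod p} (hk : k ≠ 0) :
    (y ^ k.val) ^ (k⁻¹).val = y := by
  rw [← pow_val_mul hy, mul_inv_cancel₀ hk]
  have : Fact (1 < p) := ⟨hp.out.one_lt⟩
  rw [ZMod.val_one, pow_one]

omit [Finite G] in
theorem centralizer_pow_val {y : G} (hy : y ^ p = 1) {k : ZMod p} (hk : k ≠ 0) :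
    Subgroup.centralizer ({y ^ k.val} : Set G) = Subgroup.centralizer ({y} : Set G) := by
  ext g
  rw [Subgroup.mem_centralizer_singleton_iff, Subgroup.mem_centralizer_singleton_iff]
  constructor
  · intro h
    have h1 : Commute g (y ^ k.val) := h
    have h2 := h1.pow_right (k⁻¹).val
    rw [pow_val_inv hy hk] at h2
    exact h2
  · intro h
    have h1 : Commute g y := h
    exact h1.pow_right k.val

omit [Finite G] in
theorem isConj_pow_val_iff {y : G} (hy : y ^ p = 1) {k : ZMod p} (hk : k ≠ 0) (t : ZMod p) :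
    IsConj (y ^ k.val) (y ^ (k * t).val) ↔ IsConj y (y ^ t.val) := by
  constructor
  · intro h
    have h1 := h.pow (k⁻¹).val
    rw [pow_val_inv hy hk, ← pow_val_mul hy, mul_comm (k * t), inv_mul_cancel_left₀ hk] at h1
    exact h1
  · intro h
    have h1 := h.pow k.val
    rwa [← pow_val_mul hy, mul_comm t k] at h1

theorem IsMult.col_one [Fintype (IrrCharacter G)] {y : G} (hy : y ^ p = 1) (hy1 : y ≠ 1)
    {a : IrrCharacter G → ZMod p → ℕ}
    (ha : IsMult y a) (l : ZMod p) :
    (p : ℂ) * ∑ χ : IrrCharacter G, (χ : G → ℂ) 1 * a χ l = Nat.card G := by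
  classical
  rw [ha.col 1 l, Finset.sum_eq_single 0]
  · rw [ZMod.val_zero, pow_zero, if_pos (IsConj.refl _), mul_zero, AddChar.map_zero_eq_one, one_mul]
    have : Subgroup.centralizer ({(1 : G)} : Set G) = ⊤ := by
      rw [eq_top_iff]
      intro x _
      rw [Subgroup.mem_centralizer_singleton_iff, one_mul, mul_one]
    rw [this, Nat.card_congr Subgroup.topEquiv.toEquiv]
  · intro k _ hk
    rw [if_neg, mul_zero]
    intro h
    rw [isConj_one_right] at h
    apply hy1
    rw [← pow_val_inv hy hk, h, one_pow]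
  · intro h
    exact absurd (Finset.mem_univ _) h

theorem IsMult.col_pow [Fintype (IrrCharacter G)] {y : G} (hy : y ^ p = 1) (hy1 : y ≠ 1)
    {a : IrrCharacter G → ZMod p → ℕ}
    (ha : IsMult y a) (l : ZMod p) {k : ZMod p} (hk : k ≠ 0) :
    (p : ℂ) * ∑ χ : IrrCharacter G, (χ : G → ℂ) (y ^ k.val) * a χ l
      = Nat.card (Subgroup.centralizer ({y} : Set G)) *
        ∑ t ∈ expo p y, ZMod.stdAddChar (l * t * k) := by
  classical
  rw [ha.col _ l, ← Equiv.sum_comp (Equiv.mulLeft₀ k hk)]
  rw [Finset.mul_sum, ← Finset.sum_subset (Finset.subset_univ (expo p y))]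
  · refine Finset.sum_congr rfl fun t ht => ?_
    rw [mem_expo] at ht
    have h1 : (Equiv.mulLeft₀ k hk) t = k * t := rfl
    rw [h1, if_pos ((isConj_pow_val_iff hy hk t).2 ht.2),
      centralizer_pow_val hy (mul_ne_zero hk ht.1), mul_comm (k : ZMod p) t, ← mul_assoc, mul_comm]
  · intro t _ ht
    have h1 : (Equiv.mulLeft₀ k hk) t = k * t := rfl
    rw [h1]
    by_cases ht0 : t = 0
    · subst ht0
      rw [if_neg, mul_zero]
      rw [mul_zero, ZMod.val_zero, pow_zero, isConj_one_left]
      intro h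
      apply hy1
      rw [← pow_val_inv hy hk, h, one_pow]
    · rw [if_neg, mul_zero]
      rw [isConj_pow_val_iff hy hk]
      intro h
      exact ht (mem_expo.2 ⟨ht0, h⟩)

/-- Orthogonality with an element not conjugate to a power of `y`. -/
theorem IsMult.col_zero [Fintype (IrrCharacter G)] {y : G}
    {a : IrrCharacter G → ZMod p → ℕ}
    (ha : IsMult y a) (l : ZMod p) {g : G} (hg : ∀ k : ℕ, ¬ IsConj g (y ^ k)) :
    ∑ χ : IrrCharacter G, (χ : G → ℂ) g * a χ l = 0 := by
  classical
  have h := ha.col g l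
  have h0 : ∑ k : ZMod p, (ZMod.stdAddChar (l * k) : ℂ) *
        (if IsConj g (y ^ k.val) then
          (Nat.card (Subgroup.centralizer ({y ^ k.val} : Set G)) : ℂ) else 0) = 0 :=
    Finset.sum_eq_zero fun k _ => by rw [if_neg (hg _), mul_zero]
  rw [h0] at h
  rcases mul_eq_zero.1 h with h | h
  · exact absurd h (by exact_mod_cast hp.out.ne_zero)
  · exact h

theorem gram_aux [Fintype (IrrCharacter G)] {y : G} (hy : y ^ p = 1) (hy1 : y ≠ 1)
    {a : IrrCharacter G → ZMod p → ℕ} (ha : IsMult y a) (j l : ZMod p) :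
    (p : ℂ) * ((p : ℂ) * ∑ χ : IrrCharacter G, (a χ j : ℂ) * a χ l)
      + Nat.card (Subgroup.centralizer ({y} : Set G)) * (expo p y).card
      = Nat.card G + Nat.card (Subgroup.centralizer ({y} : Set G)) *
        ((p : ℂ) * ((expo p y).filter fun t => l * t = j).card) := by
  classical
  have h1 : (p : ℂ) * ((p : ℂ) * ∑ χ : IrrCharacter G, (a χ j : ℂ) * a χ l)
      = ∑ k : ZMod p, ZMod.stdAddChar (-(j * k)) *
        ((p : ℂ) * ∑ χ : IrrCharacter G, (χ : G → ℂ) (y ^ k.val) * a χ l) := by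
    have h2 : ∀ χ : IrrCharacter G, (p : ℂ) * ((a χ j : ℂ) * a χ l)
        = ∑ k : ZMod p, ZMod.stdAddChar (-(j * k)) * ((χ : G → ℂ) (y ^ k.val) * a χ l) := by
      intro χ
      rw [← mul_assoc, ha.inv χ j, Finset.sum_mul]
      refine Finset.sum_congr rfl fun k _ => ?_
      ring
    rw [Finset.mul_sum (a := (p : ℂ)), Finset.sum_congr rfl fun χ _ => h2 χ, Finset.sum_comm,
      Finset.mul_sum]
    refine Finset.sum_congr rfl fun k _ => ?_
    rw [← Finset.mul_sum]
    ring
  rw [h1, ← Finset.add_sum_erase _ _ (Finset.mem_univ (0 : ZMod p))]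
  have h0 : (ZMod.stdAddChar (-(j * 0)) : ℂ) *
      ((p : ℂ) * ∑ χ : IrrCharacter G, (χ : G → ℂ) (y ^ (0 : ZMod p).val) * a χ l) = Nat.card G := by
    rw [mul_zero, neg_zero, AddChar.map_zero_eq_one, one_mul, ZMod.val_zero, pow_zero,
      ha.col_one hy hy1]
  rw [h0]
  have h3 : ∀ k ∈ (Finset.univ : Finset (ZMod p)).erase 0, (ZMod.stdAddChar (-(j * k)) : ℂ) *
      ((p : ℂ) * ∑ χ : IrrCharacter G, (χ : G → ℂ) (y ^ k.val) * a χ l)
      = Nat.card (Subgroup.centralizer ({y} : Set G)) *
        ∑ t ∈ expo p y, ZMod.stdAddChar ((l * t - j) * k) := by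
    intro k hk
    rw [ha.col_pow hy hy1 l (Finset.ne_of_mem_erase hk), mul_left_comm, Finset.mul_sum]
    congr 1
    refine Finset.sum_congr rfl fun t _ => ?_
    rw [← AddChar.map_add_eq_mul]
    congr 1
    ring
  rw [Finset.sum_congr rfl h3, ← Finset.mul_sum, Finset.sum_comm]
  have h4 : ∀ t ∈ expo p y, ∑ k ∈ (Finset.univ : Finset (ZMod p)).erase 0,
      (ZMod.stdAddChar ((l * t - j) * k) : ℂ) = (if l * t = j then (p : ℂ) else 0) - 1 := by
    intro t _
    have h5 := Finset.add_sum_erase (Finset.univ : Finset (ZMod p))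
      (fun k => (ZMod.stdAddChar ((l * t - j) * k) : ℂ)) (Finset.mem_univ (0 : ZMod p))
    rw [sum_stdAddChar_mul] at h5
    simp only [mul_zero, AddChar.map_zero_eq_one, sub_eq_zero] at h5
    rw [← h5]
    ring
  rw [Finset.sum_congr rfl h4, Finset.sum_sub_distrib, ← Finset.sum_filter, Finset.sum_const,
    Finset.sum_const, nsmul_eq_mul, nsmul_eq_mul]
  ring

/-- The Gram matrix when `⟨y⟩` is its own centralizer. -/
theorem gram [Fintype (IrrCharacter G)] {y : G} (hy : y ^ p = 1) (hy1 : y ≠ 1)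
    (hc : Nat.card (Subgroup.centralizer ({y} : Set G)) = p)
    {a : IrrCharacter G → ZMod p → ℕ} (ha : IsMult y a) :
    ∃ n : ℕ, ∀ j l : ZMod p, ∑ χ : IrrCharacter G, a χ j * a χ l
      = n + ((expo p y).filter fun t => l * t = j).card := by
  have hp0 : (p : ℂ) ≠ 0 := by exact_mod_cast hp.out.ne_zero
  refine ⟨∑ χ : IrrCharacter G, a χ 1 * a χ 0, fun j l => ?_⟩
  have h1 := gram_aux hy hy1 ha 1 0
  have h2 := gram_aux hy hy1 ha j l
  rw [hc] at h1 h2
  have h3 : ((expo p y).filter fun t => (0 : ZMod p) * t = 1).card = 0 := by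
    rw [Finset.card_eq_zero, Finset.filter_eq_empty_iff]
    intro t _ h
    rw [zero_mul] at h
    exact zero_ne_one h
  rw [h3, Nat.cast_zero, mul_zero, mul_zero, add_zero] at h1
  have h4 : (p : ℂ) * ((p : ℂ) * ∑ χ : IrrCharacter G, (a χ j : ℂ) * a χ l)
      = (p : ℂ) * ((p : ℂ) * ((∑ χ : IrrCharacter G, (a χ 1 : ℂ) * a χ 0)
        + ((expo p y).filter fun t => l * t = j).card)) := by
    linear_combination h2 - h1
  have h5 := mul_left_cancel₀ hp0 (mul_left_cancel₀ hp0 h4)
  exact_mod_cast h5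

end gram

section comb

variable {X : Type*} [Fintype X] {p : ℕ} [hp : Fact p.Prime]

/-- The combinatorial hypothesis. -/
structure Data (E : Finset (ZMod p)) (n : ℕ) (a : X → ZMod p → ℕ) : Prop where
  zero_notMem : (0 : ZMod p) ∉ E
  one_mem : (1 : ZMod p) ∈ E
  gram : ∀ j l : ZMod p, ∑ x, a x j * a x l = n + (E.filter fun t => l * t = j).card
  pos : ∀ x, 0 < ∑ j, a x j

variable {E : Finset (ZMod p)} {n : ℕ} {a : X → ZMod p → ℕ}

theorem Data.self (h : Data E n a) {i : ZMod p} (hi : i ≠ 0) : ∑ x, a x i * a x i = n + 1 := by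
  rw [h.gram i i]
  congr 1
  have : (E.filter fun t => i * t = i) = {1} := by
    ext t
    rw [Finset.mem_filter, Finset.mem_singleton]
    constructor
    · rintro ⟨_, h2⟩
      exact mul_left_cancel₀ hi (by rw [h2, mul_one])
    · rintro rfl
      exact ⟨h.one_mem, mul_one i⟩
  rw [this, Finset.card_singleton]

theorem Data.sq_sub (h : Data E n a) {i j : ZMod p} (hi : i ≠ 0) (hj : j ≠ 0) :
    ∑ x, ((a x i : ℤ) - a x j) * ((a x i : ℤ) - a x j)
      = 2 - 2 * (E.filter fun t => j * t = i).card := by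
  have h1 := h.self hi
  have h2 := h.self hj
  have h3 := h.gram i j
  have h1' : ∑ x, (a x i : ℤ) * a x i = n + 1 := by exact_mod_cast h1
  have h2' : ∑ x, (a x j : ℤ) * a x j = n + 1 := by exact_mod_cast h2
  have h3' : ∑ x, (a x i : ℤ) * a x j = n + (E.filter fun t => j * t = i).card := by
    exact_mod_cast h3
  have h4 : ∀ x, ((a x i : ℤ) - a x j) * ((a x i : ℤ) - a x j)
      = (a x i : ℤ) * a x i + (a x j : ℤ) * a x j - 2 * ((a x i : ℤ) * a x j) := by
    intro x; ring
  rw [Finset.sum_congr rfl fun x _ => h4 x, Finset.sum_sub_distrib, Finset.sum_add_distrib,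
    ← Finset.mul_sum, h1', h2', h3']
  ring

/-- The multiplicities of nontrivial eigenvalues differ by at most one. -/
theorem Data.sub_le (h : Data E n a) {i j : ZMod p} (hi : i ≠ 0) (hj : j ≠ 0) (x : X) :
    a x i ≤ a x j + 1 := by
  have h1 := h.sq_sub hi hj
  have h2 : ((a x i : ℤ) - a x j) * ((a x i : ℤ) - a x j) ≤ 2 := by
    have h3 := Finset.single_le_sum (f := fun x => ((a x i : ℤ) - a x j) * ((a x i : ℤ) - a x j))
      (fun x _ => mul_self_nonneg _) (Finset.mem_univ x)
    have h4 : (0 : ℤ) ≤ (E.filter fun t => j * t = i).card := Int.natCast_nonneg _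
    rw [h1] at h3
    linarith
  by_contra hc
  push Not at hc
  have h5 : (2 : ℤ) ≤ (a x i : ℤ) - a x j := by
    have : (a x j : ℤ) + 1 < a x i := by exact_mod_cast hc
    linarith
  nlinarith

/-- Invariance of the multiplicities under `E`. -/
theorem Data.inv (h : Data E n a) {j t : ZMod p} (hj : j ≠ 0) (ht : t ∈ E) (x : X) :
    a x (j * t) = a x j := by
  have ht0 : t ≠ 0 := fun h0 => h.zero_notMem (h0 ▸ ht)
  have h1 := h.sq_sub (mul_ne_zero hj ht0) hj
  have h2 : (E.filter fun s => j * s = j * t).card = 1 := by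
    rw [Finset.card_eq_one]
    refine ⟨t, ?_⟩
    ext s
    rw [Finset.mem_filter, Finset.mem_singleton]
    constructor
    · rintro ⟨_, h2⟩
      exact mul_left_cancel₀ hj h2
    · rintro rfl
      exact ⟨ht, rfl⟩
  rw [h2] at h1
  norm_num at h1
  have h3 := (Finset.sum_eq_zero_iff_of_nonneg (fun x _ => mul_self_nonneg _)).1 h1 x
    (Finset.mem_univ x)
  have h4 := mul_self_eq_zero.1 h3
  have h5 : (a x (j * t) : ℤ) = a x j := by linarith
  exact_mod_cast h5

/-- `x` is not constant on the nonzero elements. -/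
def NC (a : X → ZMod p → ℕ) (x : X) : Prop := ∃ j : ZMod p, j ≠ 0 ∧ a x j ≠ a x 1

omit [Fintype X] in
theorem eq_of_not_NC {x : X} (h : ¬ NC a x) {j : ZMod p} (hj : j ≠ 0) : a x j = a x 1 := by
  by_contra hc
  exact h ⟨j, hj, hc⟩

theorem Data.exists_pair [DecidableEq X] (h : Data E n a) {i : ZMod p} (hi : i ≠ 0) (hiE : i ∉ E) :
    ∃ x y : X, x ≠ y ∧ ∀ z, (a z i : ℤ) - a z 1 = (if z = x then 1 else 0) - (if z = y then 1 else 0) := by
  have h1 := h.sq_sub hi (one_ne_zero)
  have h2 : (E.filter fun t => 1 * t = i).card = 0 := by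
    rw [Finset.card_eq_zero, Finset.filter_eq_empty_iff]
    intro t ht hti
    rw [one_mul] at hti
    exact hiE (hti ▸ ht)
  rw [h2] at h1
  norm_num at h1
  have h3 : ∀ l : ZMod p, l ≠ 0 →
      ∑ x, a x l * (∑ j, a x j) = p * n + E.card := by
    intro l hl
    simp only [Finset.mul_sum]
    rw [Finset.sum_comm]
    have h4 : ∀ j : ZMod p, ∑ x, a x l * a x j = n + (E.filter fun t => l * t = j).card := by
      intro j
      rw [← h.gram j l]
      exact Finset.sum_congr rfl fun x _ => mul_comm _ _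
    rw [Finset.sum_congr rfl fun j _ => h4 j, Finset.sum_add_distrib, Finset.sum_const,
      Finset.card_univ, ZMod.card, smul_eq_mul]
    congr 1
    rw [Finset.card_eq_sum_card_fiberwise (f := fun t => l * t) (s := E) (t := Finset.univ)]
    intro t _
    exact Finset.mem_coe.2 (Finset.mem_univ _)
  have h5 : ∑ x, ((a x i : ℤ) - a x 1) * ((∑ j, a x j : ℕ) : ℤ) = 0 := by
    simp only [sub_mul, Finset.sum_sub_distrib]
    have h6 := h3 i hi
    have h7 := h3 1 one_ne_zero
    have h6' : ∑ x, (a x i : ℤ) * ((∑ j, a x j : ℕ) : ℤ) = p * n + E.card := by exact_mod_cast h6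
    have h7' : ∑ x, (a x 1 : ℤ) * ((∑ j, a x j : ℕ) : ℤ) = p * n + E.card := by exact_mod_cast h7
    rw [h6', h7', sub_self]
  obtain ⟨x, y, hxy, hD⟩ := ExceptionalIsometry.exists_single_sub_single
    (fun x => (a x i : ℤ) - a x 1) (fun x => ((∑ j, a x j : ℕ) : ℤ))
    (fun x => by exact_mod_cast h.pos x) h1 h5
  refine ⟨x, y, hxy, fun z => ?_⟩
  have := congrFun hD z
  rw [this, Pi.sub_apply, Pi.single_apply, Pi.single_apply]

/-- **Constancy on the exceptional set.** -/
theorem Data.const (h : Data E n a) (f : X → ℂ)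
    (hf : ∀ i : ZMod p, i ≠ 0 → ∑ x, f x * a x i = ∑ x, f x * a x 1) {x x' : X}
    (hx : NC a x) (hx' : NC a x') : f x = f x' := by
  classical
  -- the pair attached to an index
  have key : ∀ i : ZMod p, i ≠ 0 → ∀ z : X, a z i ≠ a z 1 →
      ∃ u v : X, u ≠ v ∧ (∀ z, (a z i : ℤ) - a z 1
        = (if z = u then 1 else 0) - (if z = v then 1 else 0)) ∧ f u = f v ∧ (z = u ∨ z = v) := by
    intro i hi z hz
    have hiE : i ∉ E := by
      intro hiE
      apply hz
      have := h.inv (one_ne_zero (α := ZMod p)) hiE z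
      rwa [one_mul] at this
    obtain ⟨u, v, huv, hD⟩ := h.exists_pair hi hiE
    refine ⟨u, v, huv, hD, ?_, ?_⟩
    · have h1 := hf i hi
      have h2 : ∑ w, f w * (((a w i : ℤ) - a w 1 : ℤ) : ℂ) = 0 := by
        push_cast
        simp only [mul_sub, Finset.sum_sub_distrib]
        rw [h1, sub_self]
      simp only [hD] at h2
      push_cast at h2
      simp only [mul_sub, Finset.sum_sub_distrib, mul_ite, mul_one, mul_zero,
        Finset.sum_ite_eq', Finset.mem_univ, if_true] at h2
      exact sub_eq_zero.1 h2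
    · by_contra hc
      push Not at hc
      have := hD z
      rw [if_neg hc.1, if_neg hc.2, sub_self, sub_eq_zero] at this
      exact hz (by exact_mod_cast this)
  obtain ⟨i, hi, hxi⟩ := hx
  obtain ⟨j, hj, hxj⟩ := hx'
  obtain ⟨u, v, huv, hD, hfuv, hxuv⟩ := key i hi x hxi
  obtain ⟨u', v', huv', hD', hfuv', hxuv'⟩ := key j hj x' hxj
  have hiE : i ∉ E := by
    intro hiE
    apply hxi
    have := h.inv (one_ne_zero (α := ZMod p)) hiE x
    rwa [one_mul] at this
  have hjE : j ∉ E := by
    intro hjE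
    apply hxj
    have := h.inv (one_ne_zero (α := ZMod p)) hjE x'
    rwa [one_mul] at this
  -- the Gram product
  have hg : ∑ z, ((a z i : ℤ) - a z 1) * ((a z j : ℤ) - a z 1)
      = 1 + (E.filter fun t => j * t = i).card := by
    have e1 : ∑ z, (a z i : ℤ) * a z j = n + (E.filter fun t => j * t = i).card := by
      exact_mod_cast h.gram i j
    have c0 : ∀ k : ZMod p, k ∉ E → (E.filter fun t => 1 * t = k).card = 0 := by
      intro k hk
      rw [Finset.card_eq_zero, Finset.filter_eq_empty_iff]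
      intro t ht hti
      rw [one_mul] at hti
      exact hk (hti ▸ ht)
    have e2 : ∑ z, (a z i : ℤ) * a z 1 = n := by
      have := h.gram i 1
      rw [c0 i hiE, add_zero] at this
      exact_mod_cast this
    have e3 : ∑ z, (a z j : ℤ) * a z 1 = n := by
      have := h.gram j 1
      rw [c0 j hjE, add_zero] at this
      exact_mod_cast this
    have e4 : ∑ z, (a z 1 : ℤ) * a z 1 = n + 1 := by
      exact_mod_cast h.self (one_ne_zero (α := ZMod p))
    have e5 : ∀ z, ((a z i : ℤ) - a z 1) * ((a z j : ℤ) - a z 1)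
        = (a z i : ℤ) * a z j - (a z i : ℤ) * a z 1 - (a z j : ℤ) * a z 1
          + (a z 1 : ℤ) * a z 1 := fun z => by ring
    rw [Finset.sum_congr rfl fun z _ => e5 z, Finset.sum_add_distrib, Finset.sum_sub_distrib,
      Finset.sum_sub_distrib, e1, e2, e3, e4]
    ring
  have hcommon : u = u' ∨ v = v' := by
    by_contra hc
    push Not at hc
    have h1 : ∀ z, ((a z i : ℤ) - a z 1) * ((a z j : ℤ) - a z 1) ≤ 0 := by
      intro z
      rw [hD z, hD' z]
      by_cases h1 : z = u
      · subst h1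
        rw [if_pos rfl, if_neg huv, if_neg hc.1]
        split_ifs <;> norm_num
      · rw [if_neg h1]
        by_cases h2 : z = v
        · subst h2
          rw [if_pos rfl, if_neg hc.2]
          split_ifs <;> norm_num
        · rw [if_neg h2]
          norm_num
    have h2 : ∑ z, ((a z i : ℤ) - a z 1) * ((a z j : ℤ) - a z 1) ≤ 0 :=
      Finset.sum_nonpos fun z _ => h1 z
    rw [hg] at h2
    have h3 : (0 : ℤ) ≤ (E.filter fun t => j * t = i).card := Int.natCast_nonneg _
    linarith
  have hfx : f x = f u := by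
    rcases hxuv with rfl | rfl
    · rfl
    · exact hfuv.symm
  have hfx' : f x' = f u' := by
    rcases hxuv' with rfl | rfl
    · rfl
    · exact hfuv'.symm
  rw [hfx, hfx']
  rcases hcommon with rfl | rfl
  · rfl
  · rw [hfuv, hfuv']

/-- The exceptional set does not consist of one element. -/
theorem Data.exists_other (h : Data E n a) {x : X} (hx : NC a x) : ∃ x' : X, x' ≠ x ∧ NC a x' := by
  classical
  obtain ⟨i, hi, hxi⟩ := hx
  have hiE : i ∉ E := by
    intro hiE
    apply hxi
    have := h.inv (one_ne_zero (α := ZMod p)) hiE x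
    rwa [one_mul] at this
  obtain ⟨u, v, huv, hD⟩ := h.exists_pair hi hiE
  have hu : NC a u := ⟨i, hi, fun h1 => by
    have := hD u
    rw [h1, if_pos rfl, if_neg huv, sub_self] at this
    norm_num at this⟩
  have hv : NC a v := ⟨i, hi, fun h1 => by
    have := hD v
    rw [h1, if_pos rfl, if_neg (Ne.symm huv), sub_self] at this
    norm_num at this⟩
  by_cases hxu : u = x
  · exact ⟨v, fun h1 => huv (hxu.trans h1.symm), hv⟩
  · exact ⟨u, hxu, hu⟩

/-- First conclusion: all degrees at most `p - 1`. -/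
theorem Data.small (h : Data E n a) (x0 : X) (h0 : a x0 0 = 1)
    (h0' : ∀ j : ZMod p, j ≠ 0 → a x0 j = 0)
    (hne : ∀ x, x ≠ x0 → ∃ j : ZMod p, j ≠ 0 ∧ a x j ≠ 0)
    (hdeg : ∀ x, ∑ j, a x j + 1 ≤ p) (g : X → ℂ) (hg0 : g x0 = 1)
    (hg : ∀ j : ZMod p, ∑ x, g x * a x j = 0) :
    ∃ (m : ℕ) (x : X), m ≠ 1 ∧ 1 + m * g x = 0 := by
  classical
  have hconst : ∀ x, x ≠ x0 → ¬ NC a x → a x 0 = 0 := by
    intro x hx hn
    obtain ⟨j, hj, hxj⟩ := hne x hx
    have h1 : a x 1 ≠ 0 := by rwa [← eq_of_not_NC hn hj]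
    have h2 : ∑ j : ZMod p, a x j = a x 0 + (p - 1) * a x 1 := by
      rw [← Finset.add_sum_erase _ _ (Finset.mem_univ (0 : ZMod p))]
      congr 1
      rw [Finset.sum_congr rfl fun j hj => eq_of_not_NC hn (Finset.ne_of_mem_erase hj),
        Finset.sum_const, Finset.card_erase_of_mem (Finset.mem_univ _), Finset.card_univ,
        ZMod.card, smul_eq_mul]
    have h3 := hdeg x
    rw [h2] at h3
    have h4 : (p - 1) * 1 ≤ (p - 1) * a x 1 := Nat.mul_le_mul_left _ (Nat.one_le_iff_ne_zero.2 h1)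
    have := hp.out.one_lt
    omega
  have hNC0 : ¬ NC a x0 := by
    rintro ⟨j, hj, h1⟩
    exact h1 (by rw [h0' j hj, h0' 1 one_ne_zero])
  have hsum := hg 0
  by_cases hex : ∃ x, NC a x
  · obtain ⟨x1, hx1⟩ := hex
    have ht : ∀ x, NC a x → a x 0 = a x1 0 := by
      intro x hx
      have := h.const (fun x => (a x 0 : ℂ)) (fun i hi => by
        have e1 := h.gram 0 i
        have e2 := h.gram 0 1
        have c0 : ∀ k : ZMod p, k ≠ 0 → (E.filter fun t => k * t = 0).card = 0 := by
          intro k hk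
          rw [Finset.card_eq_zero, Finset.filter_eq_empty_iff]
          intro t ht hti
          rcases mul_eq_zero.1 hti with h1 | h1
          · exact hk h1
          · exact h.zero_notMem (h1 ▸ ht)
        rw [c0 i hi] at e1
        rw [c0 1 one_ne_zero] at e2
        have e3 : ∑ x, a x 0 * a x i = ∑ x, a x 0 * a x 1 := by rw [e1, e2]
        exact_mod_cast e3) hx hx1
      exact_mod_cast this
    have hc : ∀ x, NC a x → g x = g x1 := fun x hx =>
      h.const g (fun i _ => by rw [hg i, hg 1]) hx hx1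
    refine ⟨(Finset.univ.filter fun x => NC a x).card * a x1 0, x1, ?_, ?_⟩
    · intro h1
      have h2 := Nat.eq_one_of_dvd_one (Dvd.intro _ h1)
      obtain ⟨w, hw⟩ := Finset.card_eq_one.1 h2
      obtain ⟨x', hx', hNx'⟩ := h.exists_other hx1
      have e1 : x1 ∈ ({w} : Finset X) := by rw [← hw]; exact Finset.mem_filter.2 ⟨Finset.mem_univ _, hx1⟩
      have e2 : x' ∈ ({w} : Finset X) := by rw [← hw]; exact Finset.mem_filter.2 ⟨Finset.mem_univ _, hNx'⟩
      rw [Finset.mem_singleton] at e1 e2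
      exact hx' (e2.trans e1.symm)
    · rw [← hsum, ← Finset.sum_filter_add_sum_filter_not Finset.univ (fun x => NC a x), add_comm]
      congr 1
      · rw [Finset.sum_congr rfl (g := fun _ => g x1 * (a x1 0 : ℂ))]
        · rw [Finset.sum_const, nsmul_eq_mul]
          push_cast
          ring
        · intro x hx
          have := (Finset.mem_filter.1 hx).2
          rw [ht x this, hc x this]
      · rw [Finset.sum_eq_single x0]
        · rw [h0, hg0]; norm_num
        · intro x hx hx0
          rw [hconst x hx0 (Finset.mem_filter.1 hx).2, Nat.cast_zero, mul_zero]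
        · intro hx
          exact absurd ((Finset.mem_filter (p := fun x => ¬ NC a x)).2
            ⟨Finset.mem_univ _, hNC0⟩) hx
  · exfalso
    push Not at hex
    rw [Finset.sum_eq_single x0] at hsum
    · rw [h0, hg0] at hsum
      norm_num at hsum
    · intro x _ hx
      rw [hconst x hx (hex x), Nat.cast_zero, mul_zero]
    · intro hx
      exact absurd (Finset.mem_univ _) hx

/-- Second conclusion: all degrees at most `p`, none equal to `p - 1`. -/
theorem Data.noPredDegree (h : Data E n a) (hE : 2 ≤ E.card) (x0 : X) (h0 : a x0 0 = 1)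
    (h0' : ∀ j : ZMod p, j ≠ 0 → a x0 j = 0)
    (hne : ∀ x, x ≠ x0 → ∃ j : ZMod p, j ≠ 0 ∧ a x j ≠ 0)
    (hdeg : ∀ x, ∑ j, a x j ≤ p) (hdeg' : ∀ x, ∑ j, a x j + 1 ≠ p) : False := by
  classical
  -- the multiplicities are at most one
  have hle : ∀ x, ∀ j : ZMod p, j ≠ 0 → a x j ≤ 1 := by
    intro x j hj
    by_contra hc
    push Not at hc
    have h1 : ∀ i : ZMod p, i ≠ 0 → 1 + (if i ∈ E.image (fun t => j * t) then 1 else 0) ≤ a x i := by
      intro i hi
      split_ifs with h2
      · obtain ⟨t, ht, rfl⟩ := Finset.mem_image.1 h2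
        rw [h.inv hj ht x]
        exact hc
      · have := h.sub_le hj hi x
        omega
    have h2 : (p - 1) + E.card ≤ ∑ i, a x i := by
      rw [← Finset.add_sum_erase _ _ (Finset.mem_univ (0 : ZMod p))]
      refine le_trans ?_ (Nat.le_add_left _ _)
      refine le_trans ?_ (Finset.sum_le_sum fun i hi => h1 i (Finset.ne_of_mem_erase hi))
      rw [Finset.sum_add_distrib, Finset.sum_const, Finset.card_erase_of_mem (Finset.mem_univ _),
        Finset.card_univ, ZMod.card, smul_eq_mul, mul_one]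
      apply Nat.add_le_add_left
      rw [← Finset.sum_filter, Finset.sum_const, smul_eq_mul, mul_one]
      rw [← Finset.card_image_of_injective E (mul_right_injective₀ hj)]
      apply Finset.card_le_card
      intro i hi
      rw [Finset.mem_filter]
      refine ⟨Finset.mem_erase.2 ⟨?_, Finset.mem_univ _⟩, hi⟩
      obtain ⟨t, ht, rfl⟩ := Finset.mem_image.1 hi
      exact mul_ne_zero hj fun h3 => h.zero_notMem (h3 ▸ ht)
    have := hdeg x
    have := hp.out.one_lt
    omega
  have hp3 : 3 ≤ p := by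
    have h1 : E.card ≤ p - 1 := by
      have : E ⊆ (Finset.univ : Finset (ZMod p)).erase 0 := fun t ht =>
        Finset.mem_erase.2 ⟨fun h2 => h.zero_notMem (h2 ▸ ht), Finset.mem_univ _⟩
      have h2 := Finset.card_le_card this
      rwa [Finset.card_erase_of_mem (Finset.mem_univ _), Finset.card_univ, ZMod.card] at h2
    omega
  -- the constant characters
  have hconst : ∀ x, x ≠ x0 → ¬ NC a x → a x 0 = 1 ∧ a x 1 = 1 := by
    intro x hx hn
    obtain ⟨j, hj, hxj⟩ := hne x hx
    have h1 : a x 1 ≠ 0 := by rwa [← eq_of_not_NC hn hj]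
    have h1' := hle x 1 one_ne_zero
    have h2 : ∑ j : ZMod p, a x j = a x 0 + (p - 1) * a x 1 := by
      rw [← Finset.add_sum_erase _ _ (Finset.mem_univ (0 : ZMod p))]
      congr 1
      rw [Finset.sum_congr rfl fun j hj => eq_of_not_NC hn (Finset.ne_of_mem_erase hj),
        Finset.sum_const, Finset.card_erase_of_mem (Finset.mem_univ _), Finset.card_univ,
        ZMod.card, smul_eq_mul]
    have h4 : a x 1 = 1 := by omega
    have h3 := hdeg x
    have h3' := hdeg' x
    rw [h2, h4, mul_one] at h3 h3'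
    omega
  have hNC0 : ¬ NC a x0 := by
    rintro ⟨j, hj, h1⟩
    exact h1 (by rw [h0' j hj, h0' 1 one_ne_zero])
  have e2 := h.gram 0 1
  have c0 : ∀ k : ZMod p, k ≠ 0 → (E.filter fun t => k * t = 0).card = 0 := by
    intro k hk
    rw [Finset.card_eq_zero, Finset.filter_eq_empty_iff]
    intro t ht hti
    rcases mul_eq_zero.1 hti with h1 | h1
    · exact hk h1
    · exact h.zero_notMem (h1 ▸ ht)
  rw [c0 1 one_ne_zero, add_zero] at e2
  obtain ⟨t, ht⟩ : ∃ t : ℕ, ∀ x, NC a x → a x 0 = t := by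
    by_cases hex : ∃ x, NC a x
    · obtain ⟨x1, hx1⟩ := hex
      refine ⟨a x1 0, fun x hx => ?_⟩
      have := h.const (fun x => (a x 0 : ℂ)) (fun i hi => by
        have e1 := h.gram 0 i
        rw [c0 i hi, add_zero] at e1
        have e3 : ∑ x, a x 0 * a x i = ∑ x, a x 0 * a x 1 := by rw [e1, e2]
        exact_mod_cast e3) hx hx1
      exact_mod_cast this
    · push Not at hex
      exact ⟨0, fun x hx => absurd hx (hex x)⟩
  -- the three sets
  set Z : Finset X := (Finset.univ.filter fun x => ¬ NC a x).erase x0 with hZ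
  have hsplit : ∀ f : X → ℕ, ∑ x, f x = f x0 + ∑ x ∈ Z, f x
      + ∑ x ∈ Finset.univ.filter (fun x => NC a x), f x := by
    intro f
    rw [hZ, Finset.add_sum_erase _ _ ((Finset.mem_filter (p := fun x => ¬ NC a x)).2
      ⟨Finset.mem_univ _, hNC0⟩), add_comm, Finset.sum_filter_add_sum_filter_not]
  have hZ1 : ∀ x ∈ Z, a x 0 = 1 ∧ a x 1 = 1 := by
    intro x hx
    rw [hZ, Finset.mem_erase, Finset.mem_filter] at hx
    exact hconst x hx.1 hx.2.2
  set w : ℕ := ∑ x ∈ Finset.univ.filter (fun x => NC a x), a x 1 with hw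
  have E1 : Z.card + w = n + 1 := by
    rw [← h.self (one_ne_zero (α := ZMod p)), hsplit, h0' 1 one_ne_zero, mul_zero, zero_add]
    congr 1
    · rw [Finset.card_eq_sum_ones]
      exact Finset.sum_congr rfl fun x hx => by rw [(hZ1 x hx).2]
    · refine Finset.sum_congr rfl fun x _ => ?_
      have := hle x 1 one_ne_zero
      interval_cases a x 1 <;> rfl
  have E2 : Z.card + t * w = n := by
    rw [← e2, hsplit, h0' 1 one_ne_zero, mul_zero, zero_add]
    congr 1
    · rw [Finset.card_eq_sum_ones]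
      exact Finset.sum_congr rfl fun x hx => by rw [(hZ1 x hx).2, (hZ1 x hx).1]
    · rw [hw, Finset.mul_sum]
      exact Finset.sum_congr rfl fun x hx => by rw [ht x (Finset.mem_filter.1 hx).2]
  have ht0 : t = 0 := by
    by_contra h1
    have : 1 * w ≤ t * w := Nat.mul_le_mul_right _ (Nat.one_le_iff_ne_zero.2 h1)
    omega
  subst ht0
  have E3 := h.gram 0 0
  have c1 : (E.filter fun t => (0 : ZMod p) * t = 0).card = E.card := by
    congr 1
    exact Finset.filter_true_of_mem fun t _ => zero_mul t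
  rw [c1, hsplit, h0] at E3
  have E4 : ∑ x ∈ Z, a x 0 * a x 0 = Z.card := by
    rw [Finset.card_eq_sum_ones]
    exact Finset.sum_congr rfl fun x hx => by rw [(hZ1 x hx).1]
  have E5 : ∑ x ∈ Finset.univ.filter (fun x => NC a x), a x 0 * a x 0 = 0 :=
    Finset.sum_eq_zero fun x hx => by simp [ht x (Finset.mem_filter.1 hx).2]
  rw [E4, E5] at E3
  omega

end comb

section final

variable {G : Type u} [Group G] [Finite G] {p : ℕ} [hp : Fact p.Prime]

/-- The principal character. -/
def prin (G : Type u) [Group G] : IrrCharacter G := ⟨1, Core.isIrr_one⟩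

theorem sum_mult_eq {y : G} {a : IrrCharacter G → ZMod p → ℕ} (ha : IsMult y a)
    (χ : IrrCharacter G) : ∑ j, a χ j = charDegree (χ : G → ℂ) := by
  have h1 := (ha χ).2
  rw [← charDegree_irr χ] at h1
  exact_mod_cast h1.symm

theorem data_of_centralizer [Fintype (IrrCharacter G)] {y : G} (hy : y ^ p = 1) (hy1 : y ≠ 1)
    (hc : Nat.card (Subgroup.centralizer ({y} : Set G)) = p)
    {a : IrrCharacter G → ZMod p → ℕ} (ha : IsMult y a) :
    ∃ n, Data (expo p y) n a := by
  obtain ⟨n, hn⟩ := gram hy hy1 hc ha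
  refine ⟨n, ⟨fun h => (mem_expo.1 h).1 rfl, mem_expo.2 ⟨one_ne_zero, ?_⟩, hn, fun χ => ?_⟩⟩
  · have : Fact (1 < p) := ⟨hp.out.one_lt⟩
    rw [ZMod.val_one, pow_one]
  · rw [sum_mult_eq ha]
    exact charDegree_pos χ

omit [Finite G] in
theorem prin_mult {y : G} {a : IrrCharacter G → ZMod p → ℕ} (ha : IsMult y a) :
    a (prin G) 0 = 1 ∧ ∀ j : ZMod p, j ≠ 0 → a (prin G) j = 0 := by
  have hp0 : (p : ℂ) ≠ 0 := by exact_mod_cast hp.out.ne_zero
  have key : ∀ j : ZMod p, (p : ℂ) * a (prin G) j = if -j = 0 then (p : ℂ) else 0 := by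
    intro j
    rw [ha.inv (prin G) j, ← sum_stdAddChar_mul (-j)]
    refine Finset.sum_congr rfl fun k _ => ?_
    show (1 : ℂ) * _ = _
    rw [one_mul, neg_mul]
  constructor
  · have := key 0
    rw [neg_zero, if_pos rfl] at this
    have h2 : (p : ℂ) * a (prin G) 0 = (p : ℂ) * 1 := by rw [this, mul_one]
    exact_mod_cast mul_left_cancel₀ hp0 h2
  · intro j hj
    have := key j
    rw [if_neg (neg_ne_zero.2 hj)] at this
    rcases mul_eq_zero.1 this with h | h
    · exact absurd h hp0
    · exact_mod_cast h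

omit [Finite G] in
theorem exists_ne_zero {y : G} {a : IrrCharacter G → ZMod p → ℕ} (ha : IsMult y a)
    {χ : IrrCharacter G} (h : (χ : G → ℂ) y ≠ (χ : G → ℂ) 1) : ∃ j : ZMod p, j ≠ 0 ∧ a χ j ≠ 0 := by
  by_contra hc
  push Not at hc
  apply h
  have h1 := (ha χ).1 1
  have : Fact (1 < p) := ⟨hp.out.one_lt⟩
  rw [ZMod.val_one, pow_one] at h1
  rw [h1, (ha χ).2]
  refine Finset.sum_congr rfl fun j _ => ?_
  by_cases hj : j = 0
  · subst hj
    rw [zero_mul, AddChar.map_zero_eq_one, mul_one]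
  · rw [hc j hj, Nat.cast_zero, zero_mul]

/-- A group with an element `y` of prime order `p` generating its own centralizer, not in the
kernel of a nonprincipal irreducible character, and a nonidentity `p`-regular element, has an
irreducible character of degree at least `p`. -/
theorem exists_le_degree {y : G} (hy : y ^ p = 1) (hy1 : y ≠ 1)
    (hc : Nat.card (Subgroup.centralizer ({y} : Set G)) = p)
    (hker : ∀ χ : IrrCharacter G, (χ : G → ℂ) y = (χ : G → ℂ) 1 → χ = prin G)
    {u : G} (hu : ∀ k : ℕ, ¬ IsConj u (y ^ k)) :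
    ∃ χ : IrrCharacter G, p ≤ charDegree (χ : G → ℂ) := by
  classical
  by_contra hcon
  push Not at hcon
  have : Finite (IrrCharacter G) := Core.finite_irr
  have : Fintype (IrrCharacter G) := Fintype.ofFinite _
  obtain ⟨a, ha⟩ := exists_isMult hy
  obtain ⟨n, hD⟩ := data_of_centralizer hy hy1 hc ha
  obtain ⟨m, χ, hm, h⟩ := hD.small (prin G) (prin_mult ha).1 (prin_mult ha).2
    (fun χ hχ => exists_ne_zero ha fun h => hχ (hker χ h))
    (fun χ => by rw [sum_mult_eq ha]; exact hcon χ) (fun χ => (χ : G → ℂ) u) rfl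
    (fun j => ha.col_zero j hu)
  have hm0 : m ≠ 0 := by
    rintro rfl
    norm_num at h
  apply hm
  apply Nat.eq_one_of_dvd_one
  apply DegreeBounds.nat_dvd_of_isIntegral_div hm0
  have h1 : ((1 : ℕ) : ℂ) / (m : ℂ) = -(χ : G → ℂ) u := by
    have hm0' : (m : ℂ) ≠ 0 := by exact_mod_cast hm0
    rw [div_eq_iff hm0', Nat.cast_one]
    linear_combination h
  rw [h1]
  exact (GaloisBasic.isIntegral_apply (Core.isIrr_isCharacter χ.2) u).neg

/-- A group with an element `y` of prime order `p` generating its own centralizer, conjugate to a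
different power of itself, and not in the kernel of a nonprincipal irreducible character, has an
irreducible character of degree `p - 1` or of degree greater than `p`. -/
theorem exists_degree {y : G} (hy : y ^ p = 1) (hy1 : y ≠ 1)
    (hc : Nat.card (Subgroup.centralizer ({y} : Set G)) = p)
    (hker : ∀ χ : IrrCharacter G, (χ : G → ℂ) y = (χ : G → ℂ) 1 → χ = prin G)
    {k : ℕ} (hk : y ^ k ≠ y) (hk' : IsConj y (y ^ k)) :
    ∃ χ : IrrCharacter G, charDegree (χ : G → ℂ) + 1 = p ∨ p < charDegree (χ : G → ℂ) := by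
  classical
  by_contra hcon
  push Not at hcon
  have : Finite (IrrCharacter G) := Core.finite_irr
  have : Fintype (IrrCharacter G) := Fintype.ofFinite _
  obtain ⟨a, ha⟩ := exists_isMult hy
  obtain ⟨n, hD⟩ := data_of_centralizer hy hy1 hc ha
  refine hD.noPredDegree ?_ (prin G) (prin_mult ha).1 (prin_mult ha).2
    (fun χ hχ => exists_ne_zero ha fun h => hχ (hker χ h))
    (fun χ => by rw [sum_mult_eq ha]; exact (hcon χ).2)
    (fun χ => by rw [sum_mult_eq ha]; exact (hcon χ).1)
  have hpow : y ^ (k : ZMod p).val = y ^ k := by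
    rw [ZMod.val_natCast, ← pow_eq_pow_mod _ hy]
  have h1 : (k : ZMod p) ∈ expo p y := by
    rw [mem_expo, hpow]
    refine ⟨fun h0 => ?_, hk'⟩
    rw [h0, ZMod.val_zero, pow_zero] at hpow
    rw [← hpow, isConj_one_left] at hk'
    exact hy1 hk'
  have h2 : (1 : ZMod p) ≠ (k : ZMod p) := by
    intro h
    apply hk
    have : Fact (1 < p) := ⟨hp.out.one_lt⟩
    rw [← hpow, ← h, ZMod.val_one, pow_one]
  have h3 : ({1, (k : ZMod p)} : Finset (ZMod p)) ⊆ expo p y := by
    intro t ht
    rw [Finset.mem_insert, Finset.mem_singleton] at ht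
    rcases ht with rfl | rfl
    · exact hD.one_mem
    · exact h1
  rw [← Finset.card_pair h2]
  exact Finset.card_le_card h3

end final

end Cfsg.Agent.H598.Gram
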