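import Mathlib
import Cfsg.Agent.H598.Gram
import Cfsg.Agent.H598.NoZero
import Cfsg.Agent.H596.Degree
import Cfsg.Agent.MTwelve.SmallDegree
import Cfsg.Agent.Involutions.IndexFive
import Cfsg.Agent.PLocal.CyclicIndexP
import Cfsg.Agent.Characters.CNBasic
import Cfsg.Agent.CharactersDeep.FeitOddAux
import Cfsg.Agent.S4604
import Cfsg.Agent.S0142

/-!
# Simple groups all of whose nonlinear degrees are primes

There is no nonabelian finite simple group of even order all of whose nonprincipal irreducible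
characters have prime degree.
-/

set_option autoImplicit false

namespace Cfsg.Agent.H598.PrimeDegrees

open Cfsg Cfsg.Agent Cfsg.Agent.Characters Cfsg.Agent.H686.CharKit
open Cfsg.Agent.H598.Gram (prin)

universe u

section simple

variable {G : Type u} [Group G] [Finite G] [IsSimpleGroup G]

omit [Finite G] in
theorem commutator_eq_top (hnc : ¬ ∀ x y : G, x * y = y * x) : commutator G = ⊤ := by
  rcases (inferInstance : (commutator G).Normal).eq_bot_or_eq_top with h | h
  · exfalso
    apply hnc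
    rw [commutator_def, Subgroup.commutator_eq_bot_iff_le_centralizer] at h
    intro x y
    have := Subgroup.mem_centralizer_iff.1 (h (Subgroup.mem_top x)) y (Subgroup.mem_top y)
    exact this.symm
  · exact h

omit [Finite G] [IsSimpleGroup G] in
theorem ne_one_of_ne_prin {χ : IrrCharacter G} (h : χ ≠ prin G) : (χ : G → ℂ) ≠ 1 :=
  fun h1 => h (Subtype.ext h1)

/-- nonprincipal characters of nonabelian simple groups are not linear -/
theorem charDegree_ne_one (hG : commutator G = ⊤) {χ : IrrCharacter G} (h : χ ≠ prin G) :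
    charDegree (χ : G → ℂ) ≠ 1 := by
  intro h1
  rw [charDegree_eq_one_iff] at h1
  obtain ⟨f, hf⟩ := Linear.exists_hom_of_isIrrCharacter χ.2 h1
  apply ne_one_of_ne_prin h
  rw [hf]
  funext g
  have h2 : commutator G ≤ f.ker := Abelianization.commutator_subset_ker f
  rw [hG] at h2
  have h3 : f g = 1 := h2 (Subgroup.mem_top g)
  rw [h3]
  rfl

theorem norm_ne (hG : commutator G = ⊤) {χ : IrrCharacter G} (h : χ ≠ prin G) {g : G}
    (hg : g ≠ 1) : ‖(χ : G → ℂ) g‖ ≠ charDegree (χ : G → ℂ) := by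
  intro h1
  apply hg
  apply MTwelve.SmallDegree.eq_one_of_norm_eq hG χ.2 (ne_one_of_ne_prin h)
  rw [h1, ← charDegree_irr χ, Complex.norm_natCast]

theorem apply_ne (hG : commutator G = ⊤) {χ : IrrCharacter G} (h : χ ≠ prin G) {g : G}
    (hg : g ≠ 1) : (χ : G → ℂ) g ≠ (χ : G → ℂ) 1 := by
  intro h1
  apply norm_ne hG h hg
  rw [h1, ← charDegree_irr χ, Complex.norm_natCast]

/-- no irreducible character of degree two -/
theorem charDegree_ne_two (hG : commutator G = ⊤) (χ : IrrCharacter G) :
    charDegree (χ : G → ℂ) ≠ 2 := by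
  intro h2
  have hne : χ ≠ prin G := by
    rintro rfl
    have : charDegree ((prin G : IrrCharacter G) : G → ℂ) = 1 := by
      rw [charDegree_eq_one_iff]; rfl
    omega
  have hdvd : 2 ∣ Nat.card G := by
    rw [← h2]
    exact Cfsg.Agent.H596.charDegree_dvd_card χ.2
  have := Fact.mk Nat.prime_two
  obtain ⟨t, ht⟩ := exists_prime_orderOf_dvd_card' 2 hdvd
  have ht1 : t ≠ 1 := by
    rintro rfl
    rw [orderOf_one] at ht
    norm_num at ht
  obtain ⟨k, hk⟩ := MTwelve.SmallDegree.character_eq_add_four_mul hG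
    (Core.isIrr_isCharacter χ.2) (g := t) (by rw [← ht, pow_orderOf_eq_one])
  rw [← charDegree_irr χ, h2] at hk
  have h3 : (χ : G → ℂ) t = ((2 - 4 * k : ℤ) : ℂ) := by
    push_cast
    push_cast at hk
    linear_combination -hk
  obtain ⟨n, ρ, hρ, hρχ⟩ := χ.2
  have h4 : ‖(χ : G → ℂ) t‖ ≤ (charDegree (χ : G → ℂ) : ℝ) := by
    have h5 := Values.norm_character_le ρ t
    rw [hρχ] at h5
    have h6 : ρ.character 1 = (Module.finrank ℂ (Fin n → ℂ) : ℂ) := Representation.char_one ρ
    rw [hρχ, ← charDegree_irr χ] at h6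
    have h7 : charDegree (χ : G → ℂ) = Module.finrank ℂ (Fin n → ℂ) := by exact_mod_cast h6
    rw [h7]
    exact h5
  apply norm_ne hG hne ht1
  rw [h2] at h4 ⊢
  rw [h3, Complex.norm_intCast] at h4 ⊢
  have h8 : |(2 - 4 * (k : ℤ))| ≤ 2 := by exact_mod_cast h4
  rw [abs_le] at h8
  have hk1 : k = 0 ∨ k = 1 := by omega
  rcases hk1 with rfl | rfl <;> norm_num

/-- Burnside: nonvanishing at `g ≠ 1` for a character of prime degree `q` forces `q` to divide the
class size. -/
theorem dvd_index_of_ne_zero (hG : commutator G = ⊤) {χ : IrrCharacter G} {q : ℕ} (hq : q.Prime)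
    (hχ : charDegree (χ : G → ℂ) = q) {g : G} (hg : g ≠ 1) (h0 : (χ : G → ℂ) g ≠ 0) :
    q ∣ (Subgroup.centralizer ({g} : Set G)).index := by
  have hne : χ ≠ prin G := by
    rintro rfl
    have : charDegree ((prin G : IrrCharacter G) : G → ℂ) = 1 := by
      rw [charDegree_eq_one_iff]; rfl
    exact hq.one_lt.ne' (by omega)
  by_contra hc
  have hcop := (Nat.Prime.coprime_iff_not_dvd hq).2 hc
  obtain ⟨n, ρ, hρ, hρχ⟩ := χ.2
  have h6 : ρ.character 1 = (Module.finrank ℂ (Fin n → ℂ) : ℂ) := Representation.char_one ρ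
  rw [hρχ, ← charDegree_irr χ] at h6
  have h7 : charDegree (χ : G → ℂ) = Module.finrank ℂ (Fin n → ℂ) := by exact_mod_cast h6
  have := S0142.result ρ g (by rw [← h7, hχ]; exact hcop)
  rw [hρχ] at this
  rcases this with h | h
  · exact h0 h
  · apply norm_ne hG hne hg
    rw [h, h7]

end simple

end Cfsg.Agent.H598.PrimeDegrees
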