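import Mathlib
import Cfsg.Agent.H591.Cliff
import Cfsg.Agent.H597.Taketa
import Cfsg.Agent.H597.Norm
import Cfsg.Agent.H597.FrobC
import Cfsg.Agent.H597.ThreeDegC
import Cfsg.Agent.H598.PElem
import Cfsg.Agent.Characters.CNBasic

/-!
# Characters attached to a noncentral section of the kernel quotient

`ψ` an irreducible character of the solvable group `G`, `N` a normal subgroup such that all normal
subgroups of `G` inside `N` that are abelian modulo `ker ψ` are central modulo `ker ψ`. Then there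
is a section `E / Z` of `N`, of order `D`, a power of a prime `q`, and for `x ∈ E \ Z` the function
`y ↦ ψ([x, y])` gives a linear character of the stabiliser of `x Z`, inducing an irreducible
character of `G` of degree the orbit size.
-/

set_option autoImplicit false

namespace Cfsg.Agent.H598.FourCore

open Cfsg Cfsg.Agent Cfsg.Agent.Characters Cfsg.Agent.Characters.Core
open Cfsg.Agent.H597.Base Subgroup
open scoped ComplexConjugate

universe u

variable {G : Type u} [Group G]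

/-- The function `χ` is nontrivial on `M`. -/
def Ov (M : Subgroup G) (χ : G → ℂ) : Prop := ∃ x ∈ M, χ x ≠ χ 1

/-- `z` is central modulo the kernel of `ψ`. -/
def Cen (ψ : G → ℂ) (z : G) : Prop := ∀ g : G, ψ (g * z * g⁻¹ * z⁻¹) = ψ 1

theorem apply_mul_of_cen [Finite G] {ψ : G → ℂ} (hψ : IsIrrCharacter G ψ) {z : G}
    (hz : Cen ψ z) (g : G) : ψ (g * z) = ψ g * (ψ z / ψ 1) := by
  have h0 := isIrr_apply_one_ne_zero hψ
  obtain ⟨n, ρ, hρ, hc⟩ := hψ
  have h1 : ∀ g, ρ g * ρ z = ρ z * ρ g := by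
    intro g
    have h2 := Cfsg.Agent.S0139.result ρ (g * z * g⁻¹ * z⁻¹)
    have h3 := h2.1 (by rw [hc, hz g, ← hc, Representation.char_one])
    have h4 : ρ (g * z) = ρ ((g * z * g⁻¹ * z⁻¹) * (z * g)) := by congr 1; group
    rw [map_mul, map_mul, h3] at h4
    rw [h4, map_mul]
    rfl
  obtain ⟨w, hw⟩ := CharDeep.SameChar.exists_smul_of_commute ρ hρ (ρ z) (fun g v => by
    have := congrArg (fun T : Module.End ℂ (Fin n → ℂ) => T v) (h1 g)
    exact this.symm)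
  have h5 : ∀ x, ψ (x * z) = w * ψ x := by
    intro x
    rw [← hc]
    show LinearMap.trace ℂ _ (ρ (x * z)) = w * LinearMap.trace ℂ _ (ρ x)
    rw [map_mul, hw, ← smul_eq_mul w, ← map_smul]
    congr 1
    ext v
    simp
  have h6 := h5 1
  rw [one_mul] at h6
  rw [h5, h6]
  field_simp

theorem Cen.mul [Finite G] {ψ : G → ℂ} (hψ : IsIrrCharacter G ψ) {a b : G} (ha : Cen ψ a)
    (hb : Cen ψ b) : Cen ψ (a * b) := by
  intro g
  have hχ := isIrr_isCharacter hψ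
  have e : g * (a * b) * g⁻¹ * (a * b)⁻¹ =
      (g * a * g⁻¹ * a⁻¹) * (a * (g * b * g⁻¹ * b⁻¹) * a⁻¹) := by group
  rw [e, apply_mul_of_ker hχ (by rw [isCharacter_isClassFunction hχ]; exact hb g)]
  exact ha g

theorem Cen.inv [Finite G] {ψ : G → ℂ} (hψ : IsIrrCharacter G ψ) {a : G} (ha : Cen ψ a) :
    Cen ψ a⁻¹ := by
  intro g
  have hχ := isIrr_isCharacter hψ
  have e : g * a⁻¹ * g⁻¹ * a⁻¹⁻¹ = a⁻¹ * (g * a * g⁻¹ * a⁻¹)⁻¹ * a⁻¹⁻¹ := by
    group
  rw [e, isCharacter_isClassFunction hχ]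
  exact (ker hχ).inv_mem (show _ ∈ ker hχ from ha g)

theorem Cen.conj [Finite G] {ψ : G → ℂ} (hψ : IsIrrCharacter G ψ) {a : G} (ha : Cen ψ a)
    (x : G) : Cen ψ (x * a * x⁻¹) := by
  intro g
  have hχ := isIrr_isCharacter hψ
  have e : g * (x * a * x⁻¹) * g⁻¹ * (x * a * x⁻¹)⁻¹ =
      x * ((x⁻¹ * g * x) * a * (x⁻¹ * g * x)⁻¹ * a⁻¹) * x⁻¹ := by group
  rw [e, isCharacter_isClassFunction hχ]
  exact ha _

theorem cen_one [Finite G] (ψ : G → ℂ) : Cen ψ (1 : G) := by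
  intro g
  congr 1
  group

/-- The elements of `N` that are central modulo the kernel. -/
def Zc [Finite G] (N : Subgroup G) {ψ : G → ℂ} (hψ : IsIrrCharacter G ψ) : Subgroup G where
  carrier := {z | z ∈ N ∧ Cen ψ z}
  mul_mem' := fun ha hb => ⟨N.mul_mem ha.1 hb.1, ha.2.mul hψ hb.2⟩
  one_mem' := ⟨N.one_mem, cen_one ψ⟩
  inv_mem' := fun ha => ⟨N.inv_mem ha.1, ha.2.inv hψ⟩

theorem mem_Zc [Finite G] {N : Subgroup G} {ψ : G → ℂ} (hψ : IsIrrCharacter G ψ) {z : G} :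
    z ∈ Zc N hψ ↔ z ∈ N ∧ Cen ψ z := Iff.rfl

instance Zc_normal [Finite G] (N : Subgroup G) [N.Normal] {ψ : G → ℂ} (hψ : IsIrrCharacter G ψ) :
    (Zc N hψ).Normal :=
  ⟨fun z hz g => ⟨‹N.Normal›.conj_mem z hz.1 g, hz.2.conj hψ g⟩⟩

theorem Zc_le [Finite G] (N : Subgroup G) {ψ : G → ℂ} (hψ : IsIrrCharacter G ψ) : Zc N hψ ≤ N :=
  fun _ h => h.1

/-- The scalar by which a central element acts. -/
noncomputable def sc (ψ : G → ℂ) (z : G) : ℂ := ψ z / ψ 1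

theorem sc_mul [Finite G] {ψ : G → ℂ} (hψ : IsIrrCharacter G ψ) {a b : G} (hb : Cen ψ b) :
    sc ψ (a * b) = sc ψ a * sc ψ b := by
  rw [sc, apply_mul_of_cen hψ hb, sc, sc]
  ring

theorem sc_conj [Finite G] {ψ : G → ℂ} (hψ : IsIrrCharacter G ψ) (x a : G) :
    sc ψ (x * a * x⁻¹) = sc ψ a := by
  rw [sc, sc, isCharacter_isClassFunction (isIrr_isCharacter hψ)]

theorem sc_one [Finite G] {ψ : G → ℂ} (hψ : IsIrrCharacter G ψ) : sc ψ 1 = 1 :=
  div_self (isIrr_apply_one_ne_zero hψ)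

theorem sc_eq_one [Finite G] {ψ : G → ℂ} (hψ : IsIrrCharacter G ψ) {a : G} :
    sc ψ a = 1 ↔ ψ a = ψ 1 := by
  rw [sc, div_eq_one_iff_eq (isIrr_apply_one_ne_zero hψ)]

theorem sc_pow [Finite G] {ψ : G → ℂ} (hψ : IsIrrCharacter G ψ) {a : G} (ha : Cen ψ a) (n : ℕ) :
    sc ψ (a ^ n) = sc ψ a ^ n := by
  induction n with
  | zero => rw [pow_zero, pow_zero, sc_one hψ]
  | succ n ih => rw [pow_succ, sc_mul hψ ha, ih, pow_succ]

/-- The stabiliser of `x` modulo central elements. -/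
def Tx [Finite G] {ψ : G → ℂ} (hψ : IsIrrCharacter G ψ) (x : G) : Subgroup G where
  carrier := {y | Cen ψ (x * y * x⁻¹ * y⁻¹)}
  mul_mem' := fun {a b} ha hb => by
    show Cen ψ _
    have e : x * (a * b) * x⁻¹ * (a * b)⁻¹ =
      (x * a * x⁻¹ * a⁻¹) * (a * (x * b * x⁻¹ * b⁻¹) * a⁻¹) := by group
    rw [e]
    exact Cen.mul hψ ha (Cen.conj hψ hb a)
  one_mem' := by
    show Cen ψ _
    have e : x * 1 * x⁻¹ * 1⁻¹ = 1 := by group
    rw [e]
    exact cen_one ψ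
  inv_mem' := fun {a} ha => by
    show Cen ψ _
    have e : x * a⁻¹ * x⁻¹ * a⁻¹⁻¹ = a⁻¹ * (x * a * x⁻¹ * a⁻¹)⁻¹ * a⁻¹⁻¹ := by group
    rw [e]
    exact Cen.conj hψ (Cen.inv hψ ha) a⁻¹

theorem mem_Tx [Finite G] {ψ : G → ℂ} (hψ : IsIrrCharacter G ψ) {x y : G} :
    y ∈ Tx hψ x ↔ Cen ψ (x * y * x⁻¹ * y⁻¹) := Iff.rfl

/-- The linear character of `Tx`. -/
noncomputable def lamx [Finite G] {ψ : G → ℂ} (hψ : IsIrrCharacter G ψ) (x : G) :
    Tx hψ x →* ℂˣ :=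
  MonoidHom.toHomUnits
    { toFun := fun y => sc ψ (x * y * x⁻¹ * (y : G)⁻¹)
      map_one' := by
        have e : x * ((1 : Tx hψ x) : G) * x⁻¹ * ((1 : Tx hψ x) : G)⁻¹ = 1 := by
          rw [OneMemClass.coe_one]; group
        rw [e, sc_one hψ]
      map_mul' := fun a b => by
        have e : x * ((a * b : Tx hψ x) : G) * x⁻¹ * ((a * b : Tx hψ x) : G)⁻¹ =
            (x * a * x⁻¹ * (a : G)⁻¹) * (a * (x * b * x⁻¹ * (b : G)⁻¹) * (a : G)⁻¹) := by
          rw [Subgroup.coe_mul]; group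
        rw [e, sc_mul hψ (Cen.conj hψ b.2 a), sc_conj hψ] }

theorem lamx_apply [Finite G] {ψ : G → ℂ} (hψ : IsIrrCharacter G ψ) (x : G) (y : Tx hψ x) :
    ((lamx hψ x y : ℂˣ) : ℂ) = sc ψ (x * y * x⁻¹ * (y : G)⁻¹) := rfl

theorem sc_inv_ne_one [Finite G] {ψ : G → ℂ} (hψ : IsIrrCharacter G ψ) {a : G}
    (h : ψ a ≠ ψ 1) : sc ψ a⁻¹ ≠ 1 := by
  intro h1
  have h2 := (ker (isIrr_isCharacter hψ)).inv_mem
    (show a⁻¹ ∈ ker (isIrr_isCharacter hψ) from (sc_eq_one hψ).1 h1)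
  rw [inv_inv] at h2
  exact h h2

/-- The kernel of an irreducible induced character, on the subgroup. -/
theorem ker_of_indFun [Fintype G] (T : Subgroup G) {η : T → ℂ} (hη : IsIrrCharacter T η)
    (hind : IsIrrCharacter G (indFun T η)) (t : T) (ht : indFun T η t = indFun T η 1) :
    η t = η 1 := by
  classical
  have := Fintype.ofFinite T
  have h1 : classInner (indFun T η) (indFun T η) = 1 := classInner_irr_self hind
  rw [OddOrderCharacters.IndRes.classInner_indFun_right T η (isIrr_isClassFunction hind)] at h1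
  exact ker_of_constituent (Clifford.isCharacter_restrict T (isIrr_isCharacter hind)) hη
    (by rw [show (fun x : T => indFun T η x) = OddOrderCharacters.IndRes.res T (indFun T η) from rfl,
          h1]
        exact one_ne_zero) ht

section section_E

variable [Finite G] {ψ : G → ℂ} (hψ : IsIrrCharacter G ψ) {N E : Subgroup G}

theorem le_Tx (hcomm : ∀ a ∈ E, ∀ b ∈ E, Cen ψ (a * b * a⁻¹ * b⁻¹)) {x : G} (hx : x ∈ E) :
    E ≤ Tx hψ x := fun y hy => hcomm x hx y hy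

/-- Irreducibility of the induced character. -/
theorem irr_eta [Fintype G] [hEn : E.Normal]
    (hcomm : ∀ a ∈ E, ∀ b ∈ E, Cen ψ (a * b * a⁻¹ * b⁻¹))
    (hcen : ∀ a ∈ E, (∀ e ∈ E, ψ (a * e * a⁻¹ * e⁻¹) = ψ 1) → Cen ψ a) {x : G} (hx : x ∈ E) :
    IsIrrCharacter G (indFun (Tx hψ x) (fun y => (lamx hψ x y : ℂ))) := by
  classical
  have := Fintype.ofFinite E
  have := Fintype.ofFinite (Tx hψ x)
  have hET : E ≤ Tx hψ x := le_Tx hψ hcomm hx
  set θ : E → ℂ := fun e => (((lamx hψ x).comp (Subgroup.inclusion hET) e : ℂˣ) : ℂ) with hθ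
  have hθi : IsIrrCharacter E θ := Linear.isIrrCharacter_hom _
  have hθa : ∀ e : E, θ e = sc ψ (x * e * x⁻¹ * (e : G)⁻¹) := fun e => rfl
  refine H591.Cliff.irr_ind (N := E) (θ := θ) hθi ?_ hET (Linear.isIrrCharacter_hom _) ?_
  · intro g hg
    have h1 : ∀ e ∈ E, sc ψ ((g⁻¹ * x * g) * e * (g⁻¹ * x * g)⁻¹ * e⁻¹) =
        sc ψ (x * e * x⁻¹ * e⁻¹) := by
      intro e he
      have h2 := congrFun hg ⟨e, he⟩
      have h3 : θ ⟨g * e * g⁻¹, hEn.conj_mem e he g⟩ = θ ⟨e, he⟩ := h2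
      rw [hθa, hθa] at h3
      rw [← h3, ← sc_conj hψ g]
      congr 1
      simp only
      group
    have h4 : Cen ψ ((g⁻¹ * x * g) * x⁻¹) := by
      have hx' : g⁻¹ * x * g ∈ E := by
        have := hEn.conj_mem x hx g⁻¹
        rwa [inv_inv] at this
      refine hcen _ (E.mul_mem hx' (E.inv_mem hx)) fun e he => ?_
      rw [← sc_eq_one hψ]
      have e1 : (g⁻¹ * x * g) * x⁻¹ * e * ((g⁻¹ * x * g) * x⁻¹)⁻¹ * e⁻¹ =
          ((g⁻¹ * x * g) * (x⁻¹ * (e * x * e⁻¹ * x⁻¹) * x⁻¹⁻¹) * (g⁻¹ * x * g)⁻¹) *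
            ((g⁻¹ * x * g) * e * (g⁻¹ * x * g)⁻¹ * e⁻¹) := by group
      rw [e1, sc_mul hψ (hcomm _ hx' e he), h1 e he, sc_conj hψ, sc_conj hψ,
        ← sc_mul hψ (hcomm x hx e he)]
      have e2 : e * x * e⁻¹ * x⁻¹ * (x * e * x⁻¹ * e⁻¹) = 1 := by group
      rw [e2, sc_one hψ]
    rw [mem_Tx]
    have e3 : x * g * x⁻¹ * g⁻¹ = g * ((g⁻¹ * x * g) * x⁻¹) * g⁻¹ := by group
    rw [e3]
    exact Cen.conj hψ h4 g
  · have h5 : OddOrderCharacters.PF9.CliffGen.resTo hET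
        (fun y => ((lamx hψ x y : ℂˣ) : ℂ)) = θ := rfl
    rw [h5, classInner_irr_self hθi]
    exact one_ne_zero

theorem charDegree_eta [Fintype G] (x : G) :
    charDegree (indFun (Tx hψ x) (fun y => (lamx hψ x y : ℂ))) = (Tx hψ x).index := by
  apply Blocks.Basic.charDegree_of_eq
  rw [OddOrderCharacters.IndRes.indFun_apply_one, map_one]
  simp

theorem ov_eta [Fintype G] [hEn : E.Normal] (hEN : E ≤ N)
    (hcomm : ∀ a ∈ E, ∀ b ∈ E, Cen ψ (a * b * a⁻¹ * b⁻¹))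
    (hcen : ∀ a ∈ E, (∀ e ∈ E, ψ (a * e * a⁻¹ * e⁻¹) = ψ 1) → Cen ψ a) {x : G} (hx : x ∈ E)
    (hxc : ¬ Cen ψ x) : Ov N (indFun (Tx hψ x) (fun y => (lamx hψ x y : ℂ))) := by
  by_contra hcon
  unfold Ov at hcon
  push Not at hcon
  apply hxc
  refine hcen x hx fun e he => ?_
  have h1 := ker_of_indFun (Tx hψ x) (Linear.isIrrCharacter_hom (lamx hψ x))
    (irr_eta hψ hcomm hcen hx) ⟨e, le_Tx hψ hcomm hx he⟩ (hcon e (hEN he))
  rw [← sc_eq_one hψ]
  have h2 : ((lamx hψ x ⟨e, le_Tx hψ hcomm hx he⟩ : ℂˣ) : ℂ) = sc ψ (x * e * x⁻¹ * e⁻¹) := rfl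
  rw [← h2]
  refine h1.trans ?_
  rw [map_one, Units.val_one]

/-- A vector fixed by a Sylow subgroup. -/
theorem exists_fixed [hNn : N.Normal] [hEn : E.Normal] (hEN : E ≤ N) {q : ℕ} (hq : q.Prime)
    (hpow : ∀ e ∈ E, ∃ k : ℕ, e ^ q ^ k ∈ Zc N hψ) (hne : ∃ e ∈ E, ¬ Cen ψ e) :
    ∃ x ∈ E, ¬ Cen ψ x ∧ ¬ q ∣ (Tx hψ x).index := by
  classical
  have := Fact.mk hq
  set Z := Zc N hψ with hZ
  set π := QuotientGroup.mk' Z with hπ
  obtain ⟨S⟩ : Nonempty (Sylow q G) := inferInstance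
  obtain ⟨e₀, he₀, he₀c⟩ := hne
  have hS : IsPGroup q ((S : Subgroup G).map π) := S.2.map π
  have hE : IsPGroup q (E.map π) := by
    rintro ⟨_, e, he, rfl⟩
    obtain ⟨k, hk⟩ := hpow e he
    refine ⟨k, Subtype.ext ?_⟩
    rw [Subgroup.coe_pow, OneMemClass.coe_one, ← map_pow]
    exact (QuotientGroup.eq_one_iff _).2 hk
  have hE1 : E.map π ≠ ⊥ := by
    intro h
    have h1 : π e₀ ∈ E.map π := ⟨e₀, he₀, rfl⟩
    rw [h, Subgroup.mem_bot] at h1
    exact he₀c ((QuotientGroup.eq_one_iff _).1 h1).2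
  have hEm : (E.map π).Normal := hEn.map π (QuotientGroup.mk'_surjective Z)
  obtain ⟨w, hw, hw1, hcomm⟩ := CNBasic.exists_mem_center_of_normal _ hS _ hE hE1
    (fun t _ d hd => hEm.conj_mem d hd t)
  obtain ⟨x, hx, rfl⟩ := hw
  refine ⟨x, hx, fun hxc => hw1 ((QuotientGroup.eq_one_iff _).2 ⟨hEN hx, hxc⟩), ?_⟩
  have hST : (S : Subgroup G) ≤ Tx hψ x := by
    intro s hs
    rw [mem_Tx]
    have h1 := hcomm (π s) ⟨s, hs, rfl⟩
    have h2 : π (x * s * x⁻¹ * s⁻¹) = 1 := by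
      rw [map_mul, map_mul, map_mul, map_inv, map_inv, ← h1]
      group
    exact ((QuotientGroup.eq_one_iff _).1 h2).2
  intro hd
  exact S.not_dvd_index (hd.trans (Subgroup.index_dvd_of_le hST))

/-- The orbit bound. -/
theorem index_Tx_lt [hNn : N.Normal] [hEn : E.Normal] {x : G} (hx : x ∈ E)
    (hxc : ¬ Cen ψ x) : (Tx hψ x).index < (Zc N hψ).relIndex E := by
  classical
  set Z := Zc N hψ with hZ
  set π := QuotientGroup.mk' Z with hπ
  have hker : π.ker = Z := QuotientGroup.ker_mk' Z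
  have hD : Z.relIndex E = Nat.card (E.map π) :=
    (congrArg (fun A : Subgroup G => A.relIndex E) hker).symm.trans (Subgroup.relIndex_ker E π)
  rw [hD]
  have key : ∀ a b : G, π (a * x * a⁻¹) = π (b * x * b⁻¹) → a⁻¹ * b ∈ Tx hψ x := by
    intro a b h
    rw [mem_Tx]
    have h1 : π ((a * x * a⁻¹)⁻¹ * (b * x * b⁻¹)) = 1 := by
      rw [map_mul, map_inv, h, inv_mul_cancel]
    have h2 := ((QuotientGroup.eq_one_iff _).1 h1).2
    have e1 : x * (a⁻¹ * b) * x⁻¹ * (a⁻¹ * b)⁻¹ =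
        (x * a⁻¹) * ((a * x * a⁻¹)⁻¹ * (b * x * b⁻¹))⁻¹ * (x * a⁻¹)⁻¹ := by group
    rw [e1]
    exact Cen.conj hψ (Cen.inv hψ h2) _
  let f : G ⧸ Tx hψ x → {w : E.map π // w ≠ 1} := fun y =>
    ⟨⟨π (y.out * x * (y.out)⁻¹), _, hEn.conj_mem x hx _, rfl⟩, by
      intro h
      have h1 := congrArg Subtype.val h
      have h2 := ((QuotientGroup.eq_one_iff _).1 h1).2
      apply hxc
      have h3 := Cen.conj hψ h2 (y.out)⁻¹
      have e1 : (y.out)⁻¹ * (y.out * x * (y.out)⁻¹) * (y.out)⁻¹⁻¹ = x := by group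
      rwa [e1] at h3⟩
  have hf : Function.Injective f := by
    intro y z h
    have h1 := congrArg (fun w => ((w : {w : E.map π // w ≠ 1}) : G ⧸ Z)) h
    have h2 := key _ _ h1
    have h3 := QuotientGroup.eq.2 h2
    simpa using h3
  have h1 := Nat.card_le_card_of_injective f hf
  have h2 : Nat.card {w : E.map π // w ≠ 1} < Nat.card (E.map π) := by
    apply Finite.card_subtype_lt (x := (1 : E.map π))
    simp
  rw [Subgroup.index]
  exact lt_of_le_of_lt h1 h2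

include hψ in
/-- Vanishing off the centre. -/
theorem vanish (hcomm : ∀ a ∈ E, ∀ b ∈ E, Cen ψ (a * b * a⁻¹ * b⁻¹))
    (hcen : ∀ a ∈ E, (∀ e ∈ E, ψ (a * e * a⁻¹ * e⁻¹) = ψ 1) → Cen ψ a) {e : G} (he : e ∈ E)
    (hc : ¬ Cen ψ e) : ψ e = 0 := by
  have h1 : ∃ b ∈ E, ψ (e * b * e⁻¹ * b⁻¹) ≠ ψ 1 := by
    by_contra hcon
    push Not at hcon
    exact hc (hcen e he hcon)
  obtain ⟨b, hb, hne⟩ := h1
  have h2 := sc_inv_ne_one hψ hne
  have h3 : ψ (b * e * b⁻¹) = ψ e := isCharacter_isClassFunction (isIrr_isCharacter hψ) _ _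
  have h4 := apply_mul_of_cen hψ (Cen.inv hψ (hcomm e he b hb)) e
  have h5 : ψ (e * (e * b * e⁻¹ * b⁻¹)⁻¹) = ψ (b * e * b⁻¹) := by
    rw [← isCharacter_isClassFunction (isIrr_isCharacter hψ) (e * (e * b * e⁻¹ * b⁻¹)⁻¹) e⁻¹]
    congr 1
    group
  rw [h5, h3] at h4
  have h6 : ψ e * (sc ψ (e * b * e⁻¹ * b⁻¹)⁻¹ - 1) = 0 := by
    rw [mul_sub, mul_one, sc, ← h4, sub_self]
  rcases mul_eq_zero.1 h6 with h | h
  · exact h
  · exact absurd (sub_eq_zero.1 h) h2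

/-- The inner product of the restrictions to `E`. -/
theorem inner_E [Fintype G] [Fintype E] (hEN : E ≤ N) (hZE : Zc N hψ ≤ E)
    (hcomm : ∀ a ∈ E, ∀ b ∈ E, Cen ψ (a * b * a⁻¹ * b⁻¹))
    (hcen : ∀ a ∈ E, (∀ e ∈ E, ψ (a * e * a⁻¹ * e⁻¹) = ψ 1) → Cen ψ a) {χ χ' : G → ℂ}
    (hχ : IsIrrCharacter G χ) (hp : ∀ n ∈ N, χ n * ψ 1 = χ 1 * ψ n)
    (hχ' : IsIrrCharacter G χ') (hp' : ∀ n ∈ N, χ' n * ψ 1 = χ' 1 * ψ n) :
    ((Zc N hψ).relIndex E : ℂ) * classInner (fun e : E => χ e) (fun e : E => χ' e) =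
      charDegree χ * charDegree χ' := by
  classical
  set Z := Zc N hψ with hZ
  have h0 := isIrr_apply_one_ne_zero hψ
  have h0c : conj (ψ 1) = ψ 1 := by
    rw [Blocks.Basic.irr_one_eq_charDegree hψ, Complex.conj_natCast]
  have h0c' : conj (χ' 1) = χ' 1 := by
    rw [Blocks.Basic.irr_one_eq_charDegree hχ', Complex.conj_natCast]
  have hsum : ∑ e : E, χ e * conj (χ' e) = (Nat.card Z : ℂ) * (χ 1 * χ' 1) := by
    have hterm : ∀ e : E, χ e * conj (χ' e) = if (e : G) ∈ Z then χ 1 * χ' 1 else 0 := by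
      intro e
      have h3 := hp e (hEN e.2)
      have h4 : χ e = χ 1 * ψ e / ψ 1 := by rw [← h3]; field_simp
      have h3' := hp' e (hEN e.2)
      have h4' : χ' e = χ' 1 * ψ e / ψ 1 := by rw [← h3']; field_simp
      rw [h4, h4', map_div₀, map_mul, h0c, h0c']
      split_ifs with h
      · have h1 := H597.Norm.normSq_eq_of_central hψ h.2
        have h2 : ψ e * conj (ψ e) = ψ 1 * ψ 1 := by
          rw [Complex.mul_conj, h1, Blocks.Basic.irr_one_eq_charDegree hψ]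
          push_cast
          ring
        have h5 : χ 1 * ψ e / ψ 1 * (χ' 1 * conj (ψ e) / ψ 1) =
            χ 1 * χ' 1 * (ψ e * conj (ψ e)) / (ψ 1 * ψ 1) := by
          field_simp
        rw [h5, h2, mul_div_assoc, div_self (mul_ne_zero h0 h0), mul_one]
      · rw [vanish hψ hcomm hcen e.2 (fun hc => h ⟨hEN e.2, hc⟩), map_zero, mul_zero, mul_zero,
          zero_div, zero_mul]
    rw [Finset.sum_congr rfl fun e _ => hterm e, Finset.sum_ite, Finset.sum_const_zero, add_zero,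
      Finset.sum_const, nsmul_eq_mul]
    congr 1
    have h5 : (Finset.univ.filter fun e : E => (e : G) ∈ Z).card = Nat.card (Z.subgroupOf E) := by
      rw [← Fintype.card_subtype, ← Nat.card_eq_fintype_card]
      rfl
    rw [h5, Nat.card_congr (Subgroup.subgroupOfEquivOfLe hZE).toEquiv]
  rw [classInner_def, hsum]
  have h6 : (Nat.card E : ℂ) = Z.relIndex E * Nat.card Z := by
    have := Subgroup.card_mul_index (Z.subgroupOf E)
    rw [Nat.card_congr (Subgroup.subgroupOfEquivOfLe hZE).toEquiv] at this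
    rw [← this]
    push_cast
    rw [mul_comm]
    rfl
  have hE0 : (Nat.card E : ℂ) ≠ 0 := Nat.cast_ne_zero.2 Nat.card_pos.ne'
  rw [Blocks.Basic.irr_one_eq_charDegree hχ', Blocks.Basic.irr_one_eq_charDegree hχ]
  have h7 : (Z.relIndex E : ℂ) * ((Nat.card E : ℂ)⁻¹ *
      ((Nat.card Z : ℂ) * ((charDegree χ : ℂ) * (charDegree χ' : ℂ)))) =
      (Nat.card E : ℂ)⁻¹ * (Z.relIndex E * Nat.card Z) *
        ((charDegree χ : ℂ) * (charDegree χ' : ℂ)) := by ring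
  rw [h7, ← h6, inv_mul_cancel₀ hE0, one_mul]

end section_E

/-- The multiplicity of the principal character of `E` is at least the degree of a constituent
trivial on `E`. -/
theorem degree_le_inner [Fintype G] (E : Subgroup G) [Fintype E] {X β : G → ℂ}
    (hX : IsCharacter G X) (hβ : IsIrrCharacter G β) (hβE : ∀ e ∈ E, β e = β 1)
    (hc : classInner X β ≠ 0) {k : ℕ} (hk : classInner (fun e : E => X e) (1 : E → ℂ) = k) :
    charDegree β ≤ k := by
  classical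
  have := finite_irr (G := G)
  have := Fintype.ofFinite (IrrCharacter G)
  obtain ⟨c, hc1, hc2⟩ := CharDeep.CliffordCorr.exists_nat_coeffs hX
  choose d hd using fun η : IrrCharacter G => classInner_isNat
    (Clifford.isCharacter_restrict E (isIrr_isCharacter η.2)) (isCharacter_one (G := E))
  have h1 : (fun e : E => X e) = ∑ η : IrrCharacter G, (c η : ℂ) • (fun e : E => (η : G → ℂ) e) := by
    funext e
    rw [apply_eq_sum hc1 e, Finset.sum_apply]
    rfl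
  rw [h1, classInner_sum_left] at hk
  simp_rw [classInner_smul_left, hd] at hk
  have h2 : k = ∑ η : IrrCharacter G, c η * d η := by exact_mod_cast hk.symm
  have h3 : d ⟨β, hβ⟩ = charDegree β := by
    have h4 := hd ⟨β, hβ⟩
    rw [classInner_def] at h4
    have h5 : ∑ g : E, ((⟨β, hβ⟩ : IrrCharacter G) : G → ℂ) g * conj ((1 : E → ℂ) g) =
        Nat.card E * β 1 := by
      rw [Finset.sum_congr rfl (fun g _ => by
        show β g * conj 1 = β 1
        rw [hβE g g.2, map_one, mul_one]), Finset.sum_const, Finset.card_univ,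
        ← Nat.card_eq_fintype_card, nsmul_eq_mul]
    have h0 : (Nat.card E : ℂ) ≠ 0 := Nat.cast_ne_zero.2 Nat.card_pos.ne'
    rw [h5, ← mul_assoc, inv_mul_cancel₀ h0, one_mul, Blocks.Basic.irr_one_eq_charDegree hβ] at h4
    exact_mod_cast h4.symm
  have h4 : c ⟨β, hβ⟩ ≠ 0 := by
    intro h0
    apply hc
    rw [hc2 ⟨β, hβ⟩, h0, Nat.cast_zero]
  rw [h2, ← h3]
  calc d ⟨β, hβ⟩ ≤ c ⟨β, hβ⟩ * d ⟨β, hβ⟩ := Nat.le_mul_of_pos_left _ (Nat.pos_of_ne_zero h4)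
    _ ≤ _ := Finset.single_le_sum (f := fun η : IrrCharacter G => c η * d η)
        (fun _ _ => Nat.zero_le _) (Finset.mem_univ (⟨β, hβ⟩ : IrrCharacter G))

/-- The section `E / Z`. -/
theorem exists_section [Finite G] [Group.IsSolvable G] {ψ : G → ℂ} (hψ : IsIrrCharacter G ψ)
    {N : Subgroup G} [hNn : N.Normal]
    (hab : ∀ A : Subgroup G, A.Normal → A ≤ N → (∀ a ∈ A, ∀ b ∈ A, ψ (a * b * a⁻¹ * b⁻¹) = ψ 1) →
      ∀ a ∈ A, Cen ψ a) (hN : ∃ n ∈ N, ¬ Cen ψ n) :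
    ∃ (q : ℕ) (E : Subgroup G), q.Prime ∧ E.Normal ∧ E ≤ N ∧ Zc N hψ ≤ E ∧
      q ∣ (Zc N hψ).relIndex E ∧ (∀ e ∈ E, e ^ q ∈ Zc N hψ) ∧ (∃ e ∈ E, ¬ Cen ψ e) ∧
      (∀ a ∈ E, ∀ b ∈ E, Cen ψ (a * b * a⁻¹ * b⁻¹)) ∧
      (∀ a ∈ E, (∀ e ∈ E, ψ (a * e * a⁻¹ * e⁻¹) = ψ 1) → Cen ψ a) := by
  classical
  set Z := Zc N hψ with hZ
  have hZN : Z < N := by
    refine lt_of_le_of_ne (Zc_le N hψ) fun h => ?_
    obtain ⟨n, hn, hc⟩ := hN
    rw [← h] at hn
    exact hc hn.2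
  obtain ⟨E, hE⟩ := Set.Finite.exists_minimal
    (s := {E : Subgroup G | E.Normal ∧ Z < E ∧ E ≤ N}) (Set.toFinite _) ⟨N, hNn, hZN, le_rfl⟩
  obtain ⟨⟨hEn, hZE, hEN⟩, hmin⟩ := hE
  have hchief : ∀ A : Subgroup G, A.Normal → Z ≤ A → A ≤ E → A = Z ∨ A = E := by
    intro A hA hZA hAE
    rcases eq_or_lt_of_le hZA with h | h
    · exact Or.inl h.symm
    · exact Or.inr (le_antisymm hAE (hmin ⟨hA, h, hAE.trans hEN⟩ hAE))
  have hcE : ⁅E, E⁆ ≤ Z := PElem.commutator_le_of_chief E Z hZE hchief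
  have hcE' : ∀ a ∈ E, ∀ b ∈ E, a * b * a⁻¹ * b⁻¹ ∈ Z := fun a ha b hb =>
    hcE (Subgroup.commutator_mem_commutator ha hb)
  have hindex : Z.relIndex E ≠ 1 := by
    rw [Ne, Subgroup.relIndex_eq_one]
    exact hZE.not_ge
  obtain ⟨q, hq, hqd⟩ := Nat.exists_prime_and_dvd hindex
  have := Fact.mk hq
  -- the elements whose `q`-th power is in `Z`
  set π := QuotientGroup.mk' Z with hπ
  have hcomm' : ∀ a ∈ E, ∀ b ∈ E, Commute (π a) (π b) := by
    intro a ha b hb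
    have h1 : π (a * b * a⁻¹ * b⁻¹) = 1 := (QuotientGroup.eq_one_iff _).2 (hcE' a ha b hb)
    rw [map_mul, map_mul, map_mul, map_inv, map_inv, mul_inv_eq_one, mul_inv_eq_iff_eq_mul] at h1
    exact h1
  let A : Subgroup G :=
    { carrier := {a | a ∈ E ∧ a ^ q ∈ Z}
      mul_mem' := fun {a b} ha hb => by
        refine ⟨E.mul_mem ha.1 hb.1, ?_⟩
        have h2 : π (a ^ q) = 1 := (QuotientGroup.eq_one_iff _).2 ha.2
        have h3 : π (b ^ q) = 1 := (QuotientGroup.eq_one_iff _).2 hb.2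
        have h1 : π ((a * b) ^ q) = 1 := by
          rw [map_pow, map_mul, (hcomm' a ha.1 b hb.1).mul_pow, ← map_pow, ← map_pow, h2, h3,
            one_mul]
        exact (QuotientGroup.eq_one_iff _).1 h1
      one_mem' := ⟨E.one_mem, by rw [one_pow]; exact Z.one_mem⟩
      inv_mem' := fun {a} ha => ⟨E.inv_mem ha.1, by rw [inv_pow]; exact Z.inv_mem ha.2⟩ }
  have hAn : A.Normal := ⟨fun a ha g => ⟨hEn.conj_mem a ha.1 g, by
    rw [conj_pow]; exact (Zc_normal N hψ).conj_mem _ ha.2 g⟩⟩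
  have hZA : Z ≤ A := fun z hz => ⟨hZE.le hz, Z.pow_mem hz q⟩
  have hAE : A = E := by
    rcases hchief A hAn hZA (fun a ha => ha.1) with h | h
    · exfalso
      have h1 : q ∣ Nat.card (E.map π) := by
        have h2 : π.ker = Z := QuotientGroup.ker_mk' Z
        have h3 : Z.relIndex E = Nat.card (E.map π) :=
          (congrArg (fun A : Subgroup G => A.relIndex E) h2).symm.trans (Subgroup.relIndex_ker E π)
        rwa [← h3]
      obtain ⟨⟨w, hw⟩, ho⟩ := exists_prime_orderOf_dvd_card' q h1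
      obtain ⟨e, he, rfl⟩ := hw
      have h4 : π (e ^ q) = 1 := by
        have := pow_orderOf_eq_one (⟨π e, ⟨e, he, rfl⟩⟩ : E.map π)
        rw [ho] at this
        rw [map_pow]
        exact congrArg Subtype.val this
      have h5 : e ∈ A := ⟨he, (QuotientGroup.eq_one_iff _).1 h4⟩
      rw [h] at h5
      have h6 : π e = 1 := (QuotientGroup.eq_one_iff _).2 h5
      have h7 : orderOf (⟨π e, ⟨e, he, rfl⟩⟩ : E.map π) = 1 := by
        rw [orderOf_eq_one_iff]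
        exact Subtype.ext h6
      rw [h7] at ho
      exact hq.one_lt.ne ho
    · exact h
  have hnc : ∃ e ∈ E, ¬ Cen ψ e := by
    by_contra hcon
    push Not at hcon
    exact hZE.not_ge fun e he => ⟨hEN he, hcon e he⟩
  refine ⟨q, E, hq, hEn, hEN, hZE.le, hqd, fun e he => ?_, hnc, fun a ha b hb => (hcE' a ha b hb).2,
    ?_⟩
  · rw [← hAE] at he
    exact he.2
  · -- the elements commuting with `E` modulo the kernel
    have hχ := isIrr_isCharacter hψ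
    set R := ker hχ with hR
    have hRn : R.Normal := by
      refine ⟨fun a ha g => ?_⟩
      show ψ (g * a * g⁻¹) = ψ 1
      rw [isCharacter_isClassFunction hχ]
      exact ha
    let C : Subgroup G :=
      { carrier := {a | a ∈ E ∧ ∀ e ∈ E, a * e * a⁻¹ * e⁻¹ ∈ R}
        mul_mem' := fun {a b} ha hb => by
          refine ⟨E.mul_mem ha.1 hb.1, fun e he => ?_⟩
          have e1 : a * b * e * (a * b)⁻¹ * e⁻¹ =
              a * (b * e * b⁻¹ * e⁻¹) * a⁻¹ * (a * e * a⁻¹ * e⁻¹) := by group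
          rw [e1]
          exact R.mul_mem (hRn.conj_mem _ (hb.2 e he) a) (ha.2 e he)
        one_mem' := ⟨E.one_mem, fun e he => by
          have e1 : 1 * e * 1⁻¹ * e⁻¹ = (1 : G) := by group
          rw [e1]; exact R.one_mem⟩
        inv_mem' := fun {a} ha => by
          refine ⟨E.inv_mem ha.1, fun e he => ?_⟩
          have e1 : a⁻¹ * e * a⁻¹⁻¹ * e⁻¹ = a⁻¹ * (a * e * a⁻¹ * e⁻¹)⁻¹ * a⁻¹⁻¹ := by group
          rw [e1]
          exact hRn.conj_mem _ (R.inv_mem (ha.2 e he)) _ }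
    have hCn : C.Normal := by
      refine ⟨fun a ha g => ⟨hEn.conj_mem a ha.1 g, fun e he => ?_⟩⟩
      have h1 := ha.2 (g⁻¹ * e * g) (by
        have := hEn.conj_mem e he g⁻¹
        rwa [inv_inv] at this)
      have e1 : g * a * g⁻¹ * e * (g * a * g⁻¹)⁻¹ * e⁻¹ =
          g * (a * (g⁻¹ * e * g) * a⁻¹ * (g⁻¹ * e * g)⁻¹) * g⁻¹ := by group
      rw [e1]
      exact hRn.conj_mem _ h1 g
    have hC : ∀ a ∈ C, Cen ψ a :=
      hab C hCn (fun a ha => hEN ha.1) (fun a ha b hb => ha.2 b hb.1)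
    exact fun a ha h => hC a ⟨ha, h⟩

/-- The main construction. -/
theorem core [Fintype G] [Group.IsSolvable G] {ψ : G → ℂ} (hψ : IsIrrCharacter G ψ)
    {N : Subgroup G} [hNn : N.Normal]
    (hab : ∀ A : Subgroup G, A.Normal → A ≤ N → (∀ a ∈ A, ∀ b ∈ A, ψ (a * b * a⁻¹ * b⁻¹) = ψ 1) →
      ∀ a ∈ A, Cen ψ a) (hN : ∃ n ∈ N, ¬ Cen ψ n) :
    ∃ (q D : ℕ) (η : G → ℂ), q.Prime ∧ q ∣ D ∧ IsIrrCharacter G η ∧ Ov N η ∧
      ¬ q ∣ charDegree η ∧ charDegree η < D ∧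
      (∀ χ χ' : G → ℂ, IsIrrCharacter G χ → IsIrrCharacter G χ' →
        (∀ n ∈ N, χ n * ψ 1 = χ 1 * ψ n) → (∀ n ∈ N, χ' n * ψ 1 = χ' 1 * ψ n) →
        D ∣ charDegree χ * charDegree χ' ∧
        ∀ β : G → ℂ, IsIrrCharacter G β → (∀ n ∈ N, β n = β 1) →
          classInner χ (χ' * β) ≠ 0 → charDegree β * D ≤ charDegree χ * charDegree χ') ∧
      ∃ x ∈ N, ∃ y ∈ N, ψ (x * y * x⁻¹ * y⁻¹) ≠ ψ 1 ∧ ψ ((x * y * x⁻¹ * y⁻¹) ^ q) = ψ 1 := by
  classical
  obtain ⟨q, E, hq, hEn, hEN, hZE, hqd, hpow, hnc, hcomm, hcen⟩ := exists_section hψ hab hN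
  have := Fintype.ofFinite E
  obtain ⟨x, hx, hxc, hxq⟩ := exists_fixed hψ hEN hq
    (fun e he => ⟨1, by rw [pow_one]; exact hpow e he⟩) hnc
  refine ⟨q, (Zc N hψ).relIndex E, _, hq, hqd, irr_eta hψ hcomm hcen hx,
    ov_eta hψ hEN hcomm hcen hx hxc, ?_, ?_, ?_, ?_⟩
  · rw [charDegree_eta]
    exact hxq
  · rw [charDegree_eta]
    exact index_Tx_lt hψ hx hxc
  · intro χ χ' hχ hχ' hp hp'
    have h1 := inner_E hψ hEN hZE hcomm hcen hχ hp hχ' hp'
    obtain ⟨k, hk⟩ := classInner_isNat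
      (Clifford.isCharacter_restrict E (isIrr_isCharacter hχ))
      (Clifford.isCharacter_restrict E (isIrr_isCharacter hχ'))
    rw [hk] at h1
    have h2 : (Zc N hψ).relIndex E * k = charDegree χ * charDegree χ' := by exact_mod_cast h1
    refine ⟨⟨k, h2.symm⟩, fun β hβ hβN hc => ?_⟩
    have h3 : charDegree β ≤ k := by
      refine degree_le_inner E (X := χ * H597.ThreeDegC.cc χ')
        (isCharacter_mul (isIrr_isCharacter hχ) (isIrr_isCharacter (H597.ThreeDegC.isIrr_cc hχ')))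
        hβ (fun e he => hβN e (hEN he)) ?_ ?_
      · rw [H597.ThreeDegC.classInner_mul, H597.ThreeDegC.cc_cc]
        exact hc
      · rw [← hk, classInner_def, classInner_def]
        congr 1
        refine Finset.sum_congr rfl fun e _ => ?_
        rw [Pi.one_apply, map_one, mul_one]
        rfl
    rw [← h2, mul_comm]
    exact Nat.mul_le_mul_left _ h3
  · obtain ⟨e, he, hec⟩ := hnc
    have h1 : ∃ b ∈ E, ψ (e * b * e⁻¹ * b⁻¹) ≠ ψ 1 := by
      by_contra hcon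
      push Not at hcon
      exact hec (hcen e he hcon)
    obtain ⟨b, hb, hne⟩ := h1
    refine ⟨e, hEN he, b, hEN hb, hne, ?_⟩
    have hbT : b ∈ Tx hψ e := hcomm e he b hb
    have h2 : sc ψ ((e * b * e⁻¹ * b⁻¹) ^ q) = 1 := by
      rw [sc_pow hψ (hcomm e he b hb)]
      have h3 := congrArg (fun u : ℂˣ => (u : ℂ)) (map_pow (lamx hψ e) ⟨b, hbT⟩ q)
      simp only [Units.val_pow_eq_pow_val] at h3
      rw [lamx_apply, lamx_apply] at h3
      rw [← h3, sc_eq_one hψ, Subgroup.coe_pow]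
      exact (hpow b hb).2 e
    exact (sc_eq_one hψ).1 h2

end Cfsg.Agent.H598.FourCore
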