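import Mathlib
import Cfsg.Agent.H598.FourCore
import Cfsg.Agent.H597.ThreeDegB

/-!
# Degrees of the irreducible characters nontrivial on a normal subgroup: tools
-/

set_option autoImplicit false

namespace Cfsg.Agent.H598.FourUtil

open Cfsg Cfsg.Agent Cfsg.Agent.Characters Cfsg.Agent.Characters.Core
open Cfsg.Agent.H597.Base Cfsg.Agent.H598.FourCore Subgroup
open Cfsg.Agent.OddOrderCharacters.IndRes (res)
open Cfsg.Agent.OddOrderCharacters.NormalInduced (conjFn)
open Cfsg.Agent.OddOrderCharacters.PF9.CliffGen (inertia mem_inertia le_inertia resTo down)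
open Cfsg.Agent.Blocks.Basic (charDegree_of_eq irr_one_eq_charDegree charDegree_pos)
open scoped ComplexConjugate

universe u

variable {G : Type u} [Group G]

theorem classInner_ne_symm [Fintype G] {a b : G → ℂ} (h : classInner a b ≠ 0) :
    classInner b a ≠ 0 := by
  intro h0
  apply h
  have := classInner_conj_symm a b
  rw [h0] at this
  exact (map_eq_zero _).1 this

theorem dvd_of_forall [Fintype G] {X : G → ℂ} (hX : IsCharacter G X) {n d : ℕ} (hn : X 1 = n)
    (h : ∀ κ : G → ℂ, IsIrrCharacter G κ → classInner X κ ≠ 0 → d ∣ charDegree κ) : d ∣ n := by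
  classical
  have := finite_irr (G := G)
  have := Fintype.ofFinite (IrrCharacter G)
  obtain ⟨c, hc, hc'⟩ := CharDeep.CliffordCorr.exists_nat_coeffs hX
  have h1 := degree_eq_sum hc
  rw [hn, Nat.cast_inj] at h1
  rw [h1]
  refine Finset.dvd_sum fun η _ => ?_
  by_cases h0 : c η = 0
  · rw [h0, zero_mul]; exact dvd_zero _
  · exact Dvd.dvd.mul_left (h η η.2 (by rw [hc']; exact_mod_cast h0)) _

/-- Constituents of an induced character lie over the character. -/
theorem over_of_ind [Fintype G] (T : Subgroup G) [Fintype T] {η : T → ℂ} {κ : G → ℂ}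
    (hκ : IsIrrCharacter G κ) (h : classInner (indFun T η) κ ≠ 0) :
    classInner (res T κ) η ≠ 0 := by
  rw [OddOrderCharacters.IndRes.classInner_indFun_left T η (isIrr_isClassFunction hκ)] at h
  exact classInner_ne_symm h

theorem ker_of_over [Fintype G] (T : Subgroup G) [Fintype T] {η : T → ℂ} {κ : G → ℂ}
    (hη : IsIrrCharacter T η) (hκ : IsIrrCharacter G κ) (h : classInner (res T κ) η ≠ 0) (t : T)
    (ht : κ t = κ 1) : η t = η 1 :=
  ker_of_constituent (Clifford.isCharacter_restrict T (isIrr_isCharacter hκ)) hη h (a := t) ht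

theorem ov_of_over [Fintype G] (T : Subgroup G) [Fintype T] {η : T → ℂ} {κ : G → ℂ}
    (hη : IsIrrCharacter T η) (hκ : IsIrrCharacter G κ) (h : classInner (res T κ) η ≠ 0)
    {M : Subgroup G} (hov : Ov (M.subgroupOf T) η) : Ov M κ := by
  obtain ⟨x, hx, hne⟩ := hov
  exact ⟨x, hx, fun h1 => hne (ker_of_over T hη hκ h x h1)⟩

theorem dvd_ind [Fintype G] {M : Subgroup G} (T : Subgroup G) {η : T → ℂ}
    (hη : IsIrrCharacter T η) (hov : Ov (M.subgroupOf T) η) {d : ℕ}
    (h : ∀ κ : G → ℂ, IsIrrCharacter G κ → Ov M κ → d ∣ charDegree κ) :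
    d ∣ T.index * charDegree η := by
  classical
  have := Fintype.ofFinite T
  refine dvd_of_forall (CharDeep.CliffordCorr.isCharacter_indFun T (isIrr_isCharacter hη))
    (n := T.index * charDegree η) ?_ fun κ hκ hc => ?_
  · rw [OddOrderCharacters.IndRes.indFun_apply_one, irr_one_eq_charDegree hη]
    push_cast
    rfl
  · exact h κ hκ (ov_of_over T hη hκ (over_of_ind T hκ hc) hov)

theorem le_ind [Fintype G] {M : Subgroup G} (T : Subgroup G) {η : T → ℂ}
    (hη : IsIrrCharacter T η) (hov : Ov (M.subgroupOf T) η) {d : ℕ}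
    (h : ∀ κ : G → ℂ, IsIrrCharacter G κ → Ov M κ → d ≤ charDegree κ) :
    d ≤ T.index * charDegree η := by
  classical
  have := Fintype.ofFinite T
  have hchar := CharDeep.CliffordCorr.isCharacter_indFun T (isIrr_isCharacter hη)
  have h1 : indFun T η 1 = ((T.index * charDegree η : ℕ) : ℂ) := by
    rw [OddOrderCharacters.IndRes.indFun_apply_one, irr_one_eq_charDegree hη]
    push_cast
    rfl
  have h0 : T.index * charDegree η ≠ 0 :=
    mul_ne_zero (Subgroup.index_ne_zero_of_finite) (charDegree_pos hη).ne'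
  obtain ⟨κ, hκ, hc⟩ := exists_constituent hchar (by rw [h1]; exact_mod_cast h0)
  exact (h κ hκ (ov_of_over T hη hκ (over_of_ind T hκ hc) hov)).trans
    (degree_le_of_constituent hchar hκ h1 hc)

/-- An irreducible character of minimal degree among those nontrivial on `M` is induced only from
subgroups containing `M`. -/
theorem le_of_indFun [Fintype G] (M : Subgroup G) {χ : G → ℂ}
    (hmin : ∀ κ : G → ℂ, IsIrrCharacter G κ → charDegree κ < charDegree χ → ¬ Ov M κ)
    (T : Subgroup G) {η : T → ℂ} (hη : IsIrrCharacter T η) (hind : indFun T η = χ) : M ≤ T := by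
  classical
  by_cases hT : T.index = 1
  · rw [Subgroup.index_eq_one] at hT
    rw [hT]
    exact le_top
  have := Fintype.ofFinite T
  have := finite_irr (G := G)
  have := Fintype.ofFinite (IrrCharacter G)
  have hdeg : T.index ≤ charDegree χ := by
    have h1 : charDegree χ = T.index * charDegree η := by
      apply charDegree_of_eq
      rw [← hind, OddOrderCharacters.IndRes.indFun_apply_one, irr_one_eq_charDegree hη]
      push_cast
      rfl
    rw [h1]
    exact Nat.le_mul_of_pos_right _ (charDegree_pos hη)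
  have h1char : IsCharacter T (fun _ => (1 : ℂ)) := isCharacter_one
  obtain ⟨c, hc, hc'⟩ := CharDeep.CliffordCorr.exists_nat_coeffs_indFun T h1char
  have hπ : IsCharacter G (indFun T fun _ => (1 : ℂ)) :=
    CharDeep.CliffordCorr.isCharacter_indFun T h1char
  have hπ1 : indFun T (fun _ => (1 : ℂ)) 1 = ((T.index : ℕ) : ℂ) := by
    rw [OddOrderCharacters.IndRes.indFun_apply_one, mul_one]
  have hone : classInner (indFun T fun _ => (1 : ℂ)) (1 : G → ℂ) = 1 := by
    rw [Cfsg.Agent.S0146.result T _ _ (isIrr_isClassFunction isIrr_one)]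
    exact classInner_irr_self isIrr_one
  have hlt : ∀ η : IrrCharacter G, c η ≠ 0 → charDegree (η : G → ℂ) < charDegree χ := by
    intro η hη
    have h2 : classInner (indFun T fun _ => (1 : ℂ)) (η : G → ℂ) ≠ 0 := by
      rw [Cfsg.Agent.S0146.result T _ _ (isIrr_isClassFunction η.2), hc']
      exact_mod_cast hη
    have h3 := degree_le_of_constituent hπ η.2 hπ1 h2
    refine lt_of_lt_of_le (lt_of_le_of_ne h3 fun heq => ?_) hdeg
    have h4 := eq_of_degree_eq hπ η.2 h2 (by
      rw [hπ1, irr_one_eq_charDegree η.2, heq])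
    rw [h4] at hone
    have h5 : (η : G → ℂ) = 1 := by
      by_contra hne
      rw [classInner_irr_ne η.2 isIrr_one hne] at hone
      exact zero_ne_one hone
    apply hT
    rw [← heq, h5]
    exact charDegree_of_eq (by simp)
  intro k hk
  apply H597.Taketa.mem_of_indFun_one_eq
  rw [apply_eq_sum hc k, apply_eq_sum hc 1]
  refine Finset.sum_congr rfl fun η _ => ?_
  by_cases h0 : c η = 0
  · rw [h0]; simp
  · have h1 := hmin η η.2 (hlt η h0)
    have h2 : (η : G → ℂ) k = (η : G → ℂ) 1 := by
      by_contra hne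
      exact h1 ⟨k, hk, hne⟩
    rw [h2]

/-- Induction in stages, for a subgroup of a subgroup. -/
theorem ind_trans_exists [Fintype G] (J : Subgroup G) (T : Subgroup J) [Fintype J] {β : T → ℂ}
    (hβ : IsIrrCharacter T β) : ∃ (T' : Subgroup G) (β' : T' → ℂ), IsIrrCharacter T' β' ∧
      T'.subgroupOf J = T ∧ T' ≤ J ∧ indFun T' β' = indFun J (indFun T β) := by
  obtain ⟨T', hT', rfl⟩ : ∃ T' : Subgroup G, T' ≤ J ∧ T'.subgroupOf J = T :=
    ⟨T.map J.subtype, map_subtype_le T, comap_map_eq_self_of_injective J.subtype_injective T⟩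
  refine ⟨T', H591.Cliff.up hT' β, H591.Cliff.isIrr_up hT' hβ, rfl, hT', ?_⟩
  rw [← OddOrderCharacters.PF9.CliffGen.indFun_down hT', H591.Cliff.down_up]

/-- The value of an induced character on a normal subgroup in the kernel. -/
theorem indFun_eq_of_ker [Fintype G] (J : Subgroup G) {ψ : J → ℂ} (X : Subgroup G) [hX : X.Normal]
    (hXJ : X ≤ J) (hψ : ∀ x : J, (x : G) ∈ X → ψ x = ψ 1) {k : G} (hk : k ∈ X) :
    indFun J ψ k = indFun J ψ 1 := by
  classical
  rw [OddOrderCharacters.IndRes.indFun_apply_one, indFun_apply]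
  have h4 : ∀ x : G, extendByZero J ψ (x⁻¹ * k * x) = ψ 1 := by
    intro x
    have hx : x⁻¹ * k * x ∈ X := by
      have := hX.conj_mem k hk x⁻¹
      rwa [inv_inv] at this
    rw [extendByZero_of_mem J _ (hXJ hx), hψ ⟨_, hXJ hx⟩ hx]
  rw [Finset.sum_congr rfl fun x _ => h4 x, Finset.sum_const, nsmul_eq_mul, Finset.card_univ,
    ← Nat.card_eq_fintype_card, ← J.index_mul_card]
  have h0 : (Nat.card J : ℂ) ≠ 0 := Nat.cast_ne_zero.2 Nat.card_pos.ne'
  push_cast
  field_simp

/-- Transitivity of lying over. -/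
theorem over_trans [Fintype G] {N T : Subgroup G} [Fintype N] [Fintype T] (h : N ≤ T)
    {X : T → ℂ} (hX : IsCharacter T X) {ξ : T → ℂ} (hξ : IsIrrCharacter T ξ)
    (h1 : classInner X ξ ≠ 0) {θ : N → ℂ} (hθ : IsCharacter N θ)
    (h2 : classInner (resTo h ξ) θ ≠ 0) : classInner (resTo h X) θ ≠ 0 := by
  have h3 := OddOrderCharacters.Clifford.isCharacter_sub_irr hX hξ h1
  have h4 : resTo h X = resTo h (X - ξ) + resTo h ξ := by
    funext n
    show X _ = (X _ - ξ _) + ξ _
    ring
  obtain ⟨a, ha⟩ := classInner_isNat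
    (OddOrderCharacters.PF9.CliffGen.isCharacter_resTo h h3) hθ
  obtain ⟨b, hb⟩ := classInner_isNat
    (OddOrderCharacters.PF9.CliffGen.isCharacter_resTo h (isIrr_isCharacter hξ)) hθ
  rw [h4, classInner_add_left, ha, hb]
  rw [hb] at h2
  have : b ≠ 0 := by exact_mod_cast h2
  exact_mod_cast (by omega : a + b ≠ 0)

end Cfsg.Agent.H598.FourUtil
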