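import Mathlib
import Cfsg.Agent.H598.FourUtil

/-!
# Relative degrees: one degree
-/

set_option autoImplicit false

namespace Cfsg.Agent.H598.FourRel

open Cfsg Cfsg.Agent Cfsg.Agent.Characters Cfsg.Agent.Characters.Core
open Cfsg.Agent.H597.Base Cfsg.Agent.H598.FourCore Cfsg.Agent.H598.FourUtil Subgroup
open Cfsg.Agent.OddOrderCharacters.IndRes (res)
open Cfsg.Agent.OddOrderCharacters.NormalInduced (conjFn)
open Cfsg.Agent.OddOrderCharacters.PF9.CliffGen (inertia mem_inertia le_inertia resTo down)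
open Cfsg.Agent.Blocks.Basic (charDegree_of_eq irr_one_eq_charDegree charDegree_pos)
open scoped ComplexConjugate

universe u

variable {G : Type u} [Group G]

/-- An irreducible character over an invariant irreducible character is proportional to it. -/
theorem prop_of_invariant [Fintype G] {L J : Subgroup G} [hL : L.Normal] (hLJ : L ≤ J)
    [Fintype L] [Fintype J] {φ : L → ℂ} (hφ : IsIrrCharacter L φ) (hinv : ∀ g ∈ J, conjFn L φ g = φ)
    {ψ : J → ℂ} (hψ : IsIrrCharacter J ψ) (h : classInner (resTo hLJ ψ) φ ≠ 0) (n : L) :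
    ψ ⟨n, hLJ n.2⟩ * φ 1 = ψ 1 * φ n := by
  classical
  have := Fintype.ofFinite (L.subgroupOf J)
  have h1 := OddOrderCharacters.PF9.CliffGen.res_of_invariant (K := J) (N := L.subgroupOf J)
    (θ := down L J φ) (H591.Cliff.isIrr_down hLJ hφ)
    (fun g => (H591.Cliff.conjFn_down hLJ φ g).2 (hinv g g.2)) hψ
    (by rw [H591.Cliff.classInner_down_res hLJ]; exact h) ⟨⟨n, hLJ n.2⟩, mem_subgroupOf.2 n.2⟩
  exact h1

/-- The pair attached to an irreducible character of minimal degree. -/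
theorem exists_pair [Fintype G] (M L : Subgroup G) [hLn : L.Normal] (hLM : L ≤ M)
    [Fintype L] {χ : G → ℂ} (hχ : IsIrrCharacter G χ)
    (hmin : ∀ κ : G → ℂ, IsIrrCharacter G κ → charDegree κ < charDegree χ → ¬ Ov M κ) :
    ∃ (J : Subgroup G) (hMJ : M ≤ J) (ψ : J → ℂ) (φ : L → ℂ), IsIrrCharacter J ψ ∧
      indFun J ψ = χ ∧ IsIrrCharacter L φ ∧ (∀ g, conjFn L φ g = φ → g ∈ J) ∧
      (∀ g ∈ J, conjFn L φ g = φ) ∧ classInner (resTo (hLM.trans hMJ) ψ) φ ≠ 0 ∧
      (∀ A : Subgroup J, A.Normal → A ≤ L.subgroupOf J →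
        (∀ a ∈ A, ∀ b ∈ A, ψ (a * b * a⁻¹ * b⁻¹) = ψ 1) → ∀ a ∈ A, Cen ψ a) := by
  classical
  obtain ⟨φ, hφ, hne⟩ := exists_constituent (Clifford.isCharacter_restrict L (isIrr_isCharacter hχ))
    (isIrr_apply_one_ne_zero hχ)
  set J := inertia L φ with hJ
  have := Fintype.ofFinite J
  have hLJ : L ≤ J := le_inertia (isIrr_isClassFunction hφ)
  obtain ⟨ψ, hψ, h1, h2⟩ := H591.Cliff.exists_ind hφ (T := J) (fun g hg => hg) hLJ hχ hne
  have hMJ : M ≤ J := le_of_indFun M hmin J hψ h2.symm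
  have hinv : ∀ g ∈ J, conjFn L φ g = φ := fun g hg => hg
  refine ⟨J, hMJ, ψ, φ, hψ, h2.symm, hφ, fun g hg => hg, hinv, h1, ?_⟩
  intro A hA hAL hab a ha
  have := Fintype.ofFinite A
  -- a linear constituent
  obtain ⟨lam, hlam, hc⟩ := exists_constituent
    (Clifford.isCharacter_restrict A (isIrr_isCharacter hψ)) (isIrr_apply_one_ne_zero hψ)
  have hlam1 : charDegree lam = 1 := by
    refine H597.RelThompson.charDegree_eq_one hlam fun k hk => ?_
    refine ker_of_constituent (Clifford.isCharacter_restrict A (isIrr_isCharacter hψ)) hlam hc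
      (a := k) ?_
    have h3 : commutator A ≤ (ker (isIrr_isCharacter hψ)).comap A.subtype := by
      rw [_root_.commutator_def, commutator_le]
      intro x _ y _
      exact hab x x.2 y y.2
    exact h3 hk
  set T := inertia A lam with hT
  have := Fintype.ofFinite T
  have hAT : A ≤ T := le_inertia (isIrr_isClassFunction hlam)
  obtain ⟨β, hβ, h4, h5⟩ := H591.Cliff.exists_ind hlam (T := T) (fun g hg => hg) hAT hψ hc
  obtain ⟨T', β', hβ', hT', hTJ, hind⟩ := ind_trans_exists J T hβ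
  have hMT : M ≤ T' := le_of_indFun M hmin T' hβ' (by rw [hind, ← h5, ← h2])
  -- restriction to `A`, seen in `L`
  let ι : L →* J := Subgroup.inclusion hLJ
  set A' : Subgroup L := A.comap ι with hA'
  have hA'n : A'.Normal := hA.comap ι
  have := Fintype.ofFinite A'
  let e₀ : A' →* A :=
    { toFun := fun x : A' => (⟨ι x, x.2⟩ : A), map_one' := rfl, map_mul' := fun _ _ => rfl }
  have hbij : Function.Bijective e₀ := by
    constructor
    · intro x y h
      have h6 := congrArg (fun z : A => ((z : J) : G)) h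
      exact Subtype.ext (Subtype.ext h6)
    · rintro ⟨x, hx⟩
      exact ⟨⟨⟨x, mem_subgroupOf.1 (hAL hx)⟩, hx⟩, rfl⟩
  let e : A' ≃* A := MulEquiv.ofBijective e₀ hbij
  have he : ∀ x : A', ((e x : A) : J) = ι x := fun x => rfl
  have hlam' : IsIrrCharacter A' (lam ∘ e) := isIrr_comp (e : A' →* A) e.surjective hlam
  have hprop := prop_of_invariant hLJ hφ hinv hψ h1
  have hφ0 := isIrr_apply_one_ne_zero hφ
  have hψ0 := isIrr_apply_one_ne_zero hψ
  have hlam0 := isIrr_apply_one_ne_zero hlam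
  have h7 : classInner (fun x : A' => φ x) (lam ∘ e) ≠ 0 := by
    have h8 : (fun x : A' => φ x) = (φ 1 / ψ 1) • ((fun x : A => ψ x) ∘ e) := by
      funext x
      have h9 := hprop (x : L)
      rw [Pi.smul_apply, smul_eq_mul]
      show φ x = φ 1 / ψ 1 * ψ (ι x)
      have h10 : ψ (ι x) * φ 1 = ψ 1 * φ x := h9
      field_simp
      rw [mul_comm, ← h10]
      ring
    rw [h8, classInner_smul_left, Clifford.classInner_comp_mulEquiv e]
    exact mul_ne_zero (div_ne_zero hφ0 hψ0) hc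
  have hinv' : ∀ g : L, conjFn A' (lam ∘ e) g = lam ∘ e := by
    intro g
    have h8 : ι g ∈ T := by
      rw [← hT', mem_subgroupOf]
      exact hMT (hLM g.2)
    have h9 : conjFn A lam (ι g) = lam := h8
    funext x
    have h10 := congrFun h9 (e x)
    exact h10
  have h11 := OddOrderCharacters.PF9.CliffGen.res_of_invariant hlam' hinv' hφ h7
  -- conclusion
  have haL : ((a : J) : G) ∈ L := mem_subgroupOf.1 (hAL ha)
  have h12 := h11 ⟨⟨a, haL⟩, ha⟩
  have h13 := hprop ⟨a, haL⟩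
  have h14 : ψ a * lam 1 = ψ 1 * lam ⟨a, ha⟩ := by
    have e1 : φ ⟨a, haL⟩ * lam 1 = φ 1 * lam ⟨a, ha⟩ := by
      have e2 : (lam ∘ e) 1 = lam 1 := by
        show lam (e 1) = lam 1
        rw [map_one]
      rw [e2] at h12
      exact h12
    have e3 : ψ a * φ 1 = ψ 1 * φ ⟨a, haL⟩ := h13
    have e4 : φ 1 * (ψ a * lam 1) = φ 1 * (ψ 1 * lam ⟨a, ha⟩) := by
      calc φ 1 * (ψ a * lam 1) = (ψ a * φ 1) * lam 1 := by ring
        _ = ψ 1 * (φ ⟨a, haL⟩ * lam 1) := by rw [e3]; ring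
        _ = φ 1 * (ψ 1 * lam ⟨a, ha⟩) := by rw [e1]; ring
    exact mul_left_cancel₀ hφ0 e4
  obtain ⟨f, rfl⟩ := Linear.exists_hom_of_isIrrCharacter hlam
    (by rw [irr_one_eq_charDegree hlam, hlam1, Nat.cast_one])
  intro g
  apply H597.Norm.central_of_normSq_eq hψ
  have h15 : ψ a = ψ 1 * f ⟨a, ha⟩ := by
    have h16 : ((fun g => ((f g : ℂˣ) : ℂ)) : A → ℂ) 1 = 1 := by
      show ((f 1 : ℂˣ) : ℂ) = 1
      rw [map_one, Units.val_one]
    rw [h16, mul_one] at h14
    exact h14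
  have h16 : ‖((f ⟨a, ha⟩ : ℂˣ) : ℂ)‖ = 1 := by
    have h17 : IsOfFinOrder (f ⟨a, ha⟩) := f.isOfFinOrder (isOfFinOrder_of_finite (⟨a, ha⟩ : A))
    exact Complex.norm_eq_one_of_pow_eq_one (n := orderOf (f ⟨a, ha⟩))
      (by rw [← Units.val_pow_eq_pow_val, pow_orderOf_eq_one, Units.val_one]) h17.orderOf_pos.ne'
  rw [h15, Complex.normSq_mul, Complex.normSq_eq_norm_sq (f ⟨a, ha⟩ : ℂ), h16, one_pow, mul_one,
    irr_one_eq_charDegree hψ, Complex.normSq_natCast]
  ring

theorem commutator_subgroupOf {L J : Subgroup G} (hLJ : L ≤ J) :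
    ⁅L, L⁆.subgroupOf J = ⁅L.subgroupOf J, L.subgroupOf J⁆ := by
  have h1 : (⁅L.subgroupOf J, L.subgroupOf J⁆).map J.subtype = ⁅L, L⁆ := by
    rw [map_commutator, subgroupOf_map_subtype, inf_eq_left.2 hLJ]
  rw [← h1, subgroupOf, comap_map_eq_self_of_injective J.subtype_injective]

/-- Noncentrality. -/
theorem exists_not_cen [Fintype G] {X L J : Subgroup G} [X.Normal] [L.Normal] (hXL : X ≤ ⁅L, L⁆)
    (hLJ : L ≤ J)
    {χ : G → ℂ} {ψ : J → ℂ} (hψ : IsIrrCharacter J ψ) (hind : indFun J ψ = χ) (hov : Ov X χ) :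
    ∃ n ∈ L.subgroupOf J, ¬ Cen ψ n := by
  by_contra hcon
  push Not at hcon
  obtain ⟨k, hk, hne⟩ := hov
  apply hne
  have hXJ : X ≤ J := hXL.trans ((commutator_le_left L L).trans hLJ)
  have h1 : ⁅L.subgroupOf J, L.subgroupOf J⁆ ≤ ker (isIrr_isCharacter hψ) := by
    rw [commutator_le]
    intro a ha b hb
    exact hcon b hb a
  have h2 := commutator_subgroupOf hLJ
  rw [← hind]
  refine indFun_eq_of_ker J X hXJ (fun x hx => ?_) hk
  have h3 : x ∈ ⁅L.subgroupOf J, L.subgroupOf J⁆ := by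
    rw [← h2, mem_subgroupOf]
    exact hXL hx
  exact h1 h3

/-- **T1.** If all irreducible characters nontrivial on `M` have the same degree, then `M` is
abelian. -/
theorem one_degree [Finite G] [Group.IsSolvable G] (M : Subgroup G) [hM : M.Normal] {f : ℕ}
    (h : ∀ χ : G → ℂ, IsIrrCharacter G χ → Ov M χ → charDegree χ = f) : ⁅M, M⁆ = ⊥ := by
  classical
  have := Fintype.ofFinite G
  by_contra hne
  obtain ⟨x, hx, hx1⟩ : ∃ x ∈ ⁅M, M⁆, x ≠ 1 := by
    by_contra hcon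
    push Not at hcon
    exact hne ((Subgroup.eq_bot_iff_forall _).2 hcon)
  obtain ⟨χ, hχ, hχx⟩ : ∃ χ : G → ℂ, IsIrrCharacter G χ ∧ χ x ≠ χ 1 := by
    by_contra hcon
    push Not at hcon
    exact hx1 (eq_one_of_forall hcon)
  have hM' : ⁅M, M⁆ ≤ M := commutator_le_left M M
  have hov : Ov M χ := ⟨x, hM' hx, hχx⟩
  have hf := h χ hχ hov
  have := Fintype.ofFinite M
  obtain ⟨J, hMJ, ψ, φ, hψ, hind, hφ, -, -, -, hab⟩ := exists_pair M M le_rfl hχ (fun κ hκ hlt hk => by
    rw [h κ hκ hk, hf] at hlt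
    exact lt_irrefl _ hlt)
  have := Fintype.ofFinite J
  have hnc := exists_not_cen (X := ⁅M, M⁆) le_rfl hMJ hψ hind ⟨x, hx, hχx⟩
  obtain ⟨q, D, η, hq, hqD, hη, hηov, hηq, -, hprop, -⟩ := core hψ hab hnc
  have h1 := (hprop ψ ψ hψ hψ (fun n _ => mul_comm _ _) (fun n _ => mul_comm _ _)).1
  have h2 : q ∣ charDegree ψ := by
    rcases hq.dvd_mul.1 (hqD.trans h1) with h | h <;> exact h
  have h3 : f ∣ J.index * charDegree η := dvd_ind J hη hηov fun κ hκ hk => (h κ hκ hk).symm.dvd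
  have h4 : f = J.index * charDegree ψ := by
    rw [← hf]
    apply charDegree_of_eq
    rw [← hind, OddOrderCharacters.IndRes.indFun_apply_one, irr_one_eq_charDegree hψ]
    push_cast
    rfl
  rw [h4] at h3
  have h5 := Nat.dvd_of_mul_dvd_mul_left (Nat.pos_of_ne_zero index_ne_zero_of_finite) h3
  exact hηq (h2.trans h5)

end Cfsg.Agent.H598.FourRel
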