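import Mathlib
import Cfsg.Agent.H598.FourRel

/-!
# Relative degrees: two degrees
-/

set_option autoImplicit false

namespace Cfsg.Agent.H598.FourTwo

open Cfsg Cfsg.Agent Cfsg.Agent.Characters Cfsg.Agent.Characters.Core
open Cfsg.Agent.H597.Base Cfsg.Agent.H598.FourCore Cfsg.Agent.H598.FourUtil
open Cfsg.Agent.H598.FourRel Subgroup
open Cfsg.Agent.OddOrderCharacters.IndRes (res)
open Cfsg.Agent.OddOrderCharacters.NormalInduced (conjFn)
open Cfsg.Agent.OddOrderCharacters.PF9.CliffGen (inertia mem_inertia le_inertia resTo down)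
open Cfsg.Agent.Blocks.Basic (charDegree_of_eq irr_one_eq_charDegree charDegree_pos)
open scoped ComplexConjugate

universe u

variable {G : Type u} [Group G]

theorem charDegree_ind [Fintype G] (J : Subgroup G) {ψ : J → ℂ} (hψ : IsIrrCharacter J ψ) :
    charDegree (indFun J ψ) = J.index * charDegree ψ := by
  apply charDegree_of_eq
  rw [OddOrderCharacters.IndRes.indFun_apply_one, irr_one_eq_charDegree hψ]
  push_cast
  rfl

/-- The exact power of a prime. -/
theorem exists_exact {q n : ℕ} (hq : q.Prime) (hn : n ≠ 0) :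
    ∃ a, q ^ a ∣ n ∧ ¬ q ^ (a + 1) ∣ n :=
  ⟨n.factorization q, Nat.ordProj_dvd n q, Nat.pow_succ_factorization_not_dvd hn hq⟩

/-- There is an irreducible character trivial on `N` and not on `x ∉ N`. -/
theorem exists_irr_quot [Finite G] (N : Subgroup G) [N.Normal] {x : G} (hx : x ∉ N) :
    ∃ β : G → ℂ, IsIrrCharacter G β ∧ (∀ n ∈ N, β n = β 1) ∧ β x ≠ β 1 := by
  have h1 : (x : G ⧸ N) ≠ 1 := fun h => hx ((QuotientGroup.eq_one_iff x).1 h)
  obtain ⟨β, hβ, hβx⟩ : ∃ χ : G ⧸ N → ℂ, IsIrrCharacter (G ⧸ N) χ ∧ χ x ≠ χ 1 := by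
    by_contra hcon
    push Not at hcon
    exact h1 (eq_one_of_forall hcon)
  refine ⟨β ∘ QuotientGroup.mk' N, isIrr_comp _ (QuotientGroup.mk'_surjective N) hβ, ?_, ?_⟩
  · intro n hn
    show β (n : G ⧸ N) = β ((1 : G) : G ⧸ N)
    rw [(QuotientGroup.eq_one_iff n).2 hn]
    rfl
  · exact hβx

/-- The step on prime powers. -/
theorem not_dvd_of_eta [Fintype G] {M J : Subgroup G} {f g q : ℕ}
    (h : ∀ κ : G → ℂ, IsIrrCharacter G κ → Ov M κ → charDegree κ = f ∨ charDegree κ = g)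
    (hq : q.Prime) {η : J → ℂ} (hη : IsIrrCharacter J η) (hov : Ov (M.subgroupOf J) η)
    (hηq : ¬ q ∣ charDegree η) {a : ℕ} (ha : ¬ q ^ (a + 1) ∣ J.index) (hf : q ^ (a + 1) ∣ f) :
    ¬ q ^ (a + 1) ∣ g := by
  intro hg
  have h1 : q ^ (a + 1) ∣ J.index * charDegree η := dvd_ind J hη hov fun κ hκ hk => by
    rcases h κ hκ hk with h | h <;> rw [h] <;> assumption
  apply ha
  exact (Nat.Coprime.pow_left _ ((hq.coprime_iff_not_dvd).2 hηq)).dvd_of_dvd_mul_right h1

/-- **S1.** -/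
theorem step_one [Fintype G] [Group.IsSolvable G] (M : Subgroup G) [hM : M.Normal] {f g : ℕ}
    (h : ∀ κ : G → ℂ, IsIrrCharacter G κ → Ov M κ → charDegree κ = f ∨ charDegree κ = g)
    (hfg : f ≤ g) {χ : G → ℂ} (hχ : IsIrrCharacter G χ) (hov : Ov ⁅⁅M, M⁆, ⁅M, M⁆⁆ χ) :
    charDegree χ ≠ f := by
  classical
  intro hf
  set L := ⁅M, M⁆ with hL
  have hLM : L ≤ M := commutator_le_left M M
  have := Fintype.ofFinite L
  have hge : ∀ κ : G → ℂ, IsIrrCharacter G κ → Ov M κ → f ≤ charDegree κ := fun κ hκ hk => by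
    rcases h κ hκ hk with h | h <;> omega
  obtain ⟨J, hMJ, ψ, φ, hψ, hind, hφ, hin, hinv, hover, hab⟩ := exists_pair M L hLM hχ
    (fun κ hκ hlt hk => by
      have := hge κ hκ hk
      omega)
  have := Fintype.ofFinite J
  have hLJ : L ≤ J := hLM.trans hMJ
  have hnc := exists_not_cen (X := ⁅L, L⁆) le_rfl hLJ hψ hind hov
  obtain ⟨q, D, η, hq, hqD, hη, hηov, hηq, hηD, hprop, -⟩ := core hψ hab hnc
  have hm : 0 < J.index := Nat.pos_of_ne_zero index_ne_zero_of_finite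
  have hpos := charDegree_pos hψ
  have hfm : f = J.index * charDegree ψ := by rw [← hf, ← hind, charDegree_ind J hψ]
  have hηovM : Ov (M.subgroupOf J) η := by
    obtain ⟨x, hx, hne⟩ := hηov
    exact ⟨x, mem_subgroupOf.2 (hLM (mem_subgroupOf.1 hx)), hne⟩
  -- (i)
  have h1 := (hprop ψ ψ hψ hψ (fun n _ => mul_comm _ _) (fun n _ => mul_comm _ _)).1
  have h2 : q ∣ charDegree ψ := by
    rcases hq.dvd_mul.1 (hqD.trans h1) with h | h <;> exact h
  obtain ⟨a, ha1, ha2⟩ := exists_exact hq hm.ne'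
  have hqf : q ^ (a + 1) ∣ f := by
    rw [hfm, pow_succ]
    exact mul_dvd_mul ha1 h2
  have hqg : ¬ q ^ (a + 1) ∣ g := not_dvd_of_eta h hq hη hηovM hηq ha2 hqf
  -- (ii)
  have hML : ∃ x ∈ M, x ∉ L := by
    by_contra hcon
    push Not at hcon
    have h3 : M = L := le_antisymm hcon hLM
    obtain ⟨x, hx, hne⟩ := hov
    have h4 : M = ⊥ := by
      by_contra hMb
      have h5 := Group.IsSolvable.commutator_lt_of_ne_bot hMb
      rw [← hL, ← h3] at h5
      exact lt_irrefl _ h5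
    have h5 : x ∈ M := hLM ((commutator_le_left L L) hx)
    rw [h4, mem_bot] at h5
    exact hne (by rw [h5])
  obtain ⟨x, hxM, hxL⟩ := hML
  obtain ⟨β, hβ, hβL, hβx⟩ := exists_irr_quot (L.subgroupOf J) (x := ⟨x, hMJ hxM⟩)
    (fun h => hxL (mem_subgroupOf.1 h))
  have hβov : Ov (M.subgroupOf J) β := ⟨⟨x, hMJ hxM⟩, mem_subgroupOf.2 hxM, hβx⟩
  have h3 : charDegree ψ ≤ charDegree β := by
    have h4 : f ≤ J.index * charDegree β := le_ind J hβ hβov hge
    rw [hfm] at h4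
    exact Nat.le_of_mul_le_mul_left h4 hm
  have hchar : IsCharacter J (ψ * β) := isCharacter_mul (isIrr_isCharacter hψ) (isIrr_isCharacter hβ)
  have h4 : classInner (resTo hLJ (ψ * β)) φ ≠ 0 := by
    have h5 : resTo hLJ (ψ * β) = (β 1) • resTo hLJ ψ := by
      funext n
      show ψ _ * β _ = β 1 * ψ _
      rw [hβL ⟨n, hLJ n.2⟩ (mem_subgroupOf.2 n.2), mul_comm]
    rw [h5, classInner_smul_left]
    exact mul_ne_zero (isIrr_apply_one_ne_zero hβ) hover
  obtain ⟨χ', hχ', h5, h6⟩ := OddOrderCharacters.PF9.CliffGen.exists_constituent hLJ hchar h4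
  have hirr : IsIrrCharacter G (indFun J χ') := H591.Cliff.irr_ind hφ hin hLJ hχ' h6
  have hφ0 := isIrr_apply_one_ne_zero hφ
  have hψ0 := isIrr_apply_one_ne_zero hψ
  have hχ'0 := isIrr_apply_one_ne_zero hχ'
  have hp : ∀ n ∈ L.subgroupOf J, χ' n * ψ 1 = χ' 1 * ψ n := by
    intro n hn
    have e1 := prop_of_invariant hLJ hφ hinv hψ hover ⟨n, mem_subgroupOf.1 hn⟩
    have e2 := prop_of_invariant hLJ hφ hinv hχ' h6 ⟨n, mem_subgroupOf.1 hn⟩
    have e1' : ψ n * φ 1 = ψ 1 * φ ⟨n, mem_subgroupOf.1 hn⟩ := e1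
    have e2' : χ' n * φ 1 = χ' 1 * φ ⟨n, mem_subgroupOf.1 hn⟩ := e2
    apply mul_right_cancel₀ hφ0
    calc χ' n * ψ 1 * φ 1 = (χ' n * φ 1) * ψ 1 := by ring
      _ = χ' 1 * (ψ 1 * φ ⟨n, mem_subgroupOf.1 hn⟩) := by rw [e2']; ring
      _ = χ' 1 * ψ n * φ 1 := by rw [← e1']; ring
  have hov' : Ov M (indFun J χ') := by
    by_contra hcon
    unfold Ov at hcon
    push Not at hcon
    obtain ⟨n, hn, hnc'⟩ := hnc
    apply hnc'
    intro g
    have h7 := ker_of_indFun J hχ' hirr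
    have h8 : (g * n * g⁻¹ * n⁻¹ : J) ∈ L.subgroupOf J := by
      have := (inferInstance : (L.subgroupOf J).Normal)
      exact (L.subgroupOf J).mul_mem (this.conj_mem n hn g) ((L.subgroupOf J).inv_mem hn)
    have h9 := h7 (g * n * g⁻¹ * n⁻¹) (hcon _ (hLM (mem_subgroupOf.1 h8)))
    have h10 := hp _ h8
    rw [h9] at h10
    exact (mul_left_cancel₀ hχ'0 h10).symm
  have h7 := hprop χ' χ' hχ' hχ' hp hp
  have h8 : q ∣ charDegree χ' := by
    rcases hq.dvd_mul.1 (hqD.trans h7.1) with h | h <;> exact h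
  have h9 : charDegree (indFun J χ') = f := by
    rcases h _ hirr hov' with h | h
    · exact h
    · exfalso
      apply hqg
      rw [← h, charDegree_ind J hχ', pow_succ]
      exact mul_dvd_mul ha1 h8
  have h10 : charDegree χ' = charDegree ψ := by
    rw [charDegree_ind J hχ', hfm] at h9
    exact Nat.eq_of_mul_eq_mul_left hm h9
  have h11 := (hprop χ' ψ hχ' hψ hp (fun n _ => mul_comm _ _)).2 β hβ hβL (classInner_ne_symm h5)
  rw [h10] at h11
  have h12 : D ≤ charDegree ψ := by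
    have : charDegree ψ * D ≤ charDegree ψ * charDegree ψ :=
      (Nat.mul_le_mul_right D h3).trans h11
    exact Nat.le_of_mul_le_mul_left this hpos
  -- (iii)
  have h13 : f ≤ J.index * charDegree η := le_ind J hη hηovM hge
  rw [hfm] at h13
  have h14 := Nat.le_of_mul_le_mul_left h13 hm
  omega

/-- In a finite nilpotent group, `O^q` has no element of order `q`. -/
theorem eq_one_of_nilpotent {H : Type*} [Group H] [Finite H] (hH : Group.IsNilpotent H) {q : ℕ}
    (hq : q.Prime) {c : H} (hc : c ∈ pResidual q H) (hcq : c ^ q = 1) : c = 1 := by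
  have := Fact.mk hq
  obtain ⟨e⟩ := ((Group.isNilpotent_of_finite_tfae (G := H)).out 0 4).1 hH
  have h1 : e.symm c = 1 := by
    funext p P
    have hp : Fact (p : ℕ).Prime := ⟨Nat.prime_of_mem_primeFactors p.2⟩
    let φ : H →* (P : Subgroup H) :=
      ((Pi.evalMonoidHom _ P).comp (Pi.evalMonoidHom _ p)).comp e.symm.toMonoidHom
    have hφ : φ c = e.symm c p P := rfl
    rw [← hφ]
    show φ c = 1
    by_cases hpq : (p : ℕ) = q
    · have h2 : IsPGroup q (P : Subgroup H) := hpq ▸ P.2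
      exact Transfer.Residual.pResidual_le_ker h2 φ hc
    · have h2 : φ c ^ q = 1 := by rw [← map_pow, hcq, map_one]
      obtain ⟨k, hk⟩ := P.2 (φ c)
      have h3 : orderOf (φ c) ∣ q := orderOf_dvd_of_pow_eq_one h2
      have h4 : orderOf (φ c) ∣ (p : ℕ) ^ k := orderOf_dvd_of_pow_eq_one hk
      have h5 : Nat.Coprime q ((p : ℕ) ^ k) :=
        Nat.Coprime.pow_right _ ((Nat.coprime_primes hq hp.out).2 (Ne.symm hpq))
      exact orderOf_eq_one_iff.1 (Nat.eq_one_of_dvd_coprimes h5 h3 h4)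
  have h2 := congrArg e h1
  rwa [MulEquiv.apply_symm_apply, map_one] at h2

/-- **S2.** -/
theorem step_two [Fintype G] [Group.IsSolvable G] (M : Subgroup G) [hM : M.Normal] {f g : ℕ}
    (h : ∀ κ : G → ℂ, IsIrrCharacter G κ → Ov M κ → charDegree κ = f ∨ charDegree κ = g)
    (hfg : f < g) (hb : ⁅⁅M, M⁆, ⁅M, M⁆⁆ ≠ ⊥)
    (hg : ∀ χ : G → ℂ, IsIrrCharacter G χ → Ov ⁅⁅M, M⁆, ⁅M, M⁆⁆ χ → charDegree χ = g) :
    ∃ q a : ℕ, q.Prime ∧ q ^ (a + 1) ∣ f ∧ ¬ q ^ (a + 1) ∣ g ∧
      ¬ ⁅M, M⁆ ≤ H597.RelThompson.Op q M := by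
  classical
  set L := ⁅M, M⁆ with hL
  have hLM : L ≤ M := commutator_le_left M M
  have := Fintype.ofFinite M
  obtain ⟨χ, hχ, hovL, hχg⟩ : ∃ χ : G → ℂ, IsIrrCharacter G χ ∧ Ov L χ ∧ charDegree χ ≠ g := by
    by_contra hcon
    push Not at hcon
    exact hb (one_degree L hcon)
  have hov : Ov M χ := by
    obtain ⟨x, hx, hne⟩ := hovL
    exact ⟨x, hLM hx, hne⟩
  have hf : charDegree χ = f := (h χ hχ hov).resolve_right hχg
  have hχL : ∀ x ∈ ⁅L, L⁆, χ x = χ 1 := by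
    intro x hx
    by_contra hne
    exact hχg (hg χ hχ ⟨x, hx, hne⟩)
  obtain ⟨J, hMJ, ψ, φ, hψ, hind, hφ, hin, hinv, hover, hab⟩ := exists_pair M M le_rfl hχ
    (fun κ hκ hlt hk => by
      rcases h κ hκ hk with h | h <;> omega)
  have := Fintype.ofFinite J
  have hnc := exists_not_cen (X := L) hL.le hMJ hψ hind hovL
  obtain ⟨q, D, η, hq, hqD, hη, hηov, hηq, hηD, hprop, x, hx, y, hy, hxy, hxyq⟩ := core hψ hab hnc
  have hm : 0 < J.index := Nat.pos_of_ne_zero index_ne_zero_of_finite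
  have hfm : f = J.index * charDegree ψ := by rw [← hf, ← hind, charDegree_ind J hψ]
  have h1 := (hprop ψ ψ hψ hψ (fun n _ => mul_comm _ _) (fun n _ => mul_comm _ _)).1
  have h2 : q ∣ charDegree ψ := by
    rcases hq.dvd_mul.1 (hqD.trans h1) with h | h <;> exact h
  obtain ⟨a, ha1, ha2⟩ := exists_exact hq hm.ne'
  have hqf : q ^ (a + 1) ∣ f := by
    rw [hfm, pow_succ]
    exact mul_dvd_mul ha1 h2
  refine ⟨q, a, hq, hqf, not_dvd_of_eta h hq hη hηov hηq ha2 hqf, fun hcon => ?_⟩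
  -- `M'` is central modulo the kernel
  have hirr : IsIrrCharacter G (indFun J ψ) := hind ▸ hχ
  have hψL : ∀ z : J, (z : G) ∈ ⁅L, L⁆ → ψ z = ψ 1 := fun z hz =>
    ker_of_indFun J hψ hirr z (by rw [hind]; exact hχL z hz)
  have hcen : ∀ a ∈ L.subgroupOf J, Cen ψ a := by
    refine hab (L.subgroupOf J) inferInstance (fun z hz => mem_subgroupOf.2 (hLM hz)) ?_
    intro a ha b hb
    exact hψL _ (commutator_mem_commutator (mem_subgroupOf.1 ha) (mem_subgroupOf.1 hb))
  -- the quotient of `M` by the kernel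
  let ι : M →* J := Subgroup.inclusion hMJ
  let K : Subgroup M := (ker (isIrr_isCharacter hψ)).comap ι
  have hK : ∀ m : M, m ∈ K ↔ ψ (ι m) = ψ 1 := fun m => Iff.rfl
  have hKn : K.Normal := (ker_normal (isIrr_isCharacter hψ)).comap ι
  have hnil : Group.IsNilpotent (M ⧸ K) := by
    refine Subgroup.isNilpotent_of_ker_le_center (Abelianization.of (G := M ⧸ K)) ?_
    rw [Abelianization.ker_of, _root_.commutator_def, commutator_le]
    intro u _ v _
    induction u using QuotientGroup.induction_on with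
    | H u =>
    induction v using QuotientGroup.induction_on with
    | H v =>
    rw [mem_center_iff]
    intro w
    induction w using QuotientGroup.induction_on with
    | H w =>
    have h3 : (ι (u * v * u⁻¹ * v⁻¹) : J) ∈ L.subgroupOf J := by
      rw [mem_subgroupOf]
      exact commutator_mem_commutator u.2 v.2
    have h4 := hcen _ h3 (ι w)
    have h5 : w * (u * v * u⁻¹ * v⁻¹) * w⁻¹ * (u * v * u⁻¹ * v⁻¹)⁻¹ ∈ K := by
      rw [hK, map_mul, map_mul, map_mul, map_inv, map_inv]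
      exact h4
    have h6 := (QuotientGroup.eq_one_iff _).2 h5
    rw [QuotientGroup.mk_mul, QuotientGroup.mk_mul, QuotientGroup.mk_mul, QuotientGroup.mk_inv,
      QuotientGroup.mk_inv, mul_inv_eq_one, mul_inv_eq_iff_eq_mul] at h6
    exact h6
  set c : J := x * y * x⁻¹ * y⁻¹ with hc
  have hcL : (c : G) ∈ L := commutator_mem_commutator (mem_subgroupOf.1 hx) (mem_subgroupOf.1 hy)
  have h3 := hcon hcL
  rw [H597.RelThompson.Op_eq_map] at h3
  obtain ⟨cM, hcM, hcM'⟩ := h3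
  have hιc : ι cM = c := Subtype.ext hcM'
  have h4 : (cM : M ⧸ K) ∈ pResidual q (M ⧸ K) :=
    Transfer.Residual.map_pResidual_le q (QuotientGroup.mk' K) ⟨cM, hcM, rfl⟩
  have h5 : (cM : M ⧸ K) ^ q = 1 := by
    rw [← QuotientGroup.mk_pow, QuotientGroup.eq_one_iff, hK, map_pow, hιc]
    exact hxyq
  have h6 := eq_one_of_nilpotent hnil hq h4 h5
  rw [QuotientGroup.eq_one_iff, hK, hιc] at h6
  exact hxy h6

end Cfsg.Agent.H598.FourTwo
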