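import Mathlib
import Cfsg.Agent.H598.FourTwo

/-!
# Relative degrees: two degrees, third step
-/

set_option autoImplicit false

namespace Cfsg.Agent.H598.FourThree

open Cfsg Cfsg.Agent Cfsg.Agent.Characters Cfsg.Agent.Characters.Core
open Cfsg.Agent.H597.Base Cfsg.Agent.H598.FourCore Cfsg.Agent.H598.FourUtil
open Cfsg.Agent.H598.FourRel Cfsg.Agent.H598.FourTwo Subgroup
open Cfsg.Agent.OddOrderCharacters.IndRes (res)
open Cfsg.Agent.OddOrderCharacters.NormalInduced (conjFn)
open Cfsg.Agent.OddOrderCharacters.PF9.CliffGen (inertia mem_inertia le_inertia resTo down)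
open Cfsg.Agent.Blocks.Basic (charDegree_of_eq irr_one_eq_charDegree charDegree_pos)
open Cfsg.Agent.H597.RelThompson (Op Op_le Op_normal)
open scoped ComplexConjugate

universe u

variable {G : Type u} [Group G]

/-- **S3.** -/
theorem step_three [Fintype G] (M : Subgroup G) [hM : M.Normal] {g q : ℕ} (hq : q.Prime)
    (X : Subgroup G) (hX : X ≤ Op q M)
    (hg : ∀ χ : G → ℂ, IsIrrCharacter G χ → Ov X χ → charDegree χ = g)
    (hab : ¬ ⁅M, M⁆ ≤ Op q M) {α : M → ℂ} (hα : IsIrrCharacter M α)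
    (hov : Ov (X.subgroupOf M) α) : q ∣ charDegree α := by
  classical
  by_contra hd
  have := Fact.mk hq
  set K := Op q M with hK
  have hKn : K.Normal := Op_normal q M
  have hKM : K ≤ M := Op_le q M
  have := Fintype.ofFinite K
  have := Fintype.ofFinite M
  obtain ⟨k, hk⟩ := H597.RelThompson.relIndex_Op q M
  have hk' : (K.subgroupOf M).index = q ^ k := hk
  -- the restriction
  set α₁ : K → ℂ := resTo hKM α with hα₁
  have hαN : IsIrrCharacter (K.subgroupOf M) (fun n : K.subgroupOf M => α n) := by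
    refine H597.Degrees.isIrr_restrict_of_coprime _ hα ?_
    rw [hk']
    exact Nat.Coprime.pow_left _ ((hq.coprime_iff_not_dvd).2 hd)
  have hα₁i : IsIrrCharacter K α₁ := H591.Cliff.isIrr_up hKM hαN
  have hα₁d : charDegree α₁ = charDegree α := by
    apply charDegree_of_eq
    rw [← irr_one_eq_charDegree hα]
    rfl
  set Y := inertia K α₁ with hY
  have := Fintype.ofFinite Y
  have hKY : K ≤ Y := le_inertia (isIrr_isClassFunction hα₁i)
  have hinv : ∀ y ∈ Y, conjFn K α₁ y = α₁ := fun y hy => hy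
  have hMY : M ≤ Y := by
    intro m hm
    show conjFn K α₁ m = α₁
    funext n
    exact isIrr_isClassFunction hα ⟨n, hKM n.2⟩ ⟨m, hm⟩
  -- characters of `Y` over `α₁`
  have key : ∀ ζ : Y → ℂ, IsIrrCharacter Y ζ → classInner (resTo hKY ζ) α₁ ≠ 0 →
      Y.index * charDegree ζ = g := by
    intro ζ hζ h0
    have hirr : IsIrrCharacter G (indFun Y ζ) :=
      H591.Cliff.irr_ind hα₁i (fun y hy => hy) hKY hζ h0
    rw [← charDegree_ind Y hζ]
    refine hg _ hirr ?_
    by_contra hcon
    unfold Ov at hcon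
    push Not at hcon
    obtain ⟨x, hx, hne⟩ := hov
    apply hne
    have hxX : (x : G) ∈ X := mem_subgroupOf.1 hx
    have hxK : (x : G) ∈ K := hX hxX
    have h1 := ker_of_indFun Y hζ hirr ⟨x, hKY hxK⟩ (hcon x hxX)
    have h2 := prop_of_invariant hKY hα₁i hinv hζ h0 ⟨x, hxK⟩
    have h3 : ζ 1 * α₁ 1 = ζ 1 * α₁ ⟨x, hxK⟩ := by
      rw [← h2, ← h1]
    exact (mul_left_cancel₀ (isIrr_apply_one_ne_zero hζ) h3).symm
  -- the group `Y`
  set K' : Subgroup Y := K.subgroupOf Y with hK'
  have := Fintype.ofFinite K'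
  set θ' : K' → ℂ := down K Y α₁ with hθ'
  have hθ'i : IsIrrCharacter K' θ' := H591.Cliff.isIrr_down hKY hα₁i
  have hθ'd : charDegree θ' = charDegree α₁ := by
    apply charDegree_of_eq
    rw [← irr_one_eq_charDegree hα₁i]
    rfl
  have htrans : ∀ (ζ : Y → ℂ), classInner (res K' ζ) θ' ≠ 0 → classInner (resTo hKY ζ) α₁ ≠ 0 := by
    intro ζ h
    rwa [← H591.Cliff.classInner_down_res hKY]
  -- a character of degree prime to `q`
  obtain ⟨ζ, hζ, hζ1, hζq⟩ : ∃ ζ : Y → ℂ, IsIrrCharacter Y ζ ∧ classInner (resTo hKY ζ) α₁ ≠ 0 ∧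
      ¬ q ∣ charDegree ζ := by
    obtain ⟨S⟩ : Nonempty (Sylow q Y) := inferInstance
    set W : Subgroup Y := (S : Subgroup Y) ⊔ K' with hW
    have := Fintype.ofFinite W
    have hK'W : K' ≤ W := le_sup_right
    have hWi : ¬ q ∣ W.index := fun h => S.not_dvd_index (h.trans (index_dvd_of_le le_sup_left))
    have hrel : ∃ j, K'.relIndex W = q ^ j := by
      obtain ⟨n, hn⟩ := IsPGroup.iff_card.1 S.2
      have h1 : K'.relIndex W = K'.relIndex (S : Subgroup Y) := relIndex_sup_right _ _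
      have h2 : K'.relIndex (S : Subgroup Y) ∣ Nat.card S := by
        rw [relIndex]
        exact index_dvd_card _
      rw [hn] at h2
      obtain ⟨j, -, hj⟩ := (Nat.dvd_prime_pow hq).1 h2
      exact ⟨j, h1.trans hj⟩
    have hres : pResidual q K' = ⊤ := by
      let e : K' ≃* K := subgroupOfEquivOfLe hKY
      have h1 := Transfer.Residual.map_pResidual_equiv q e
      rw [H597.RelThompson.pResidual_Op] at h1
      rw [eq_top_iff]
      intro x _
      have h2 : e x ∈ (pResidual q K').map e.toMonoidHom := by rw [h1]; exact mem_top _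
      obtain ⟨y, hy, hyx⟩ := h2
      have h3 : y = x := e.injective hyx
      rwa [← h3]
    obtain ⟨ξ, hξ, hξ'⟩ := H597.RelThompson.exists_extension q K' W hK'W hrel hres hθ'i
      (by rw [hθ'd, hα₁d]; exact hd) (fun y _ n => by
        have h1 := (H591.Cliff.conjFn_down hKY α₁ y).2 (hinv y y.2)
        exact congrFun h1 n)
    have hξd : charDegree ξ = charDegree θ' := by
      apply charDegree_of_eq
      rw [← irr_one_eq_charDegree hθ'i, ← hξ' 1]
      rfl
    obtain ⟨ζ, hζ, h1, h2⟩ := H597.RelThompson.exists_over_not_dvd q W hWi hξ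
      (by rw [hξd, hθ'd, hα₁d]; exact hd)
    refine ⟨ζ, hζ, htrans ζ ?_, h2⟩
    refine over_trans hK'W (X := res W ζ) (Clifford.isCharacter_restrict W (isIrr_isCharacter hζ))
      hξ h1 (isIrr_isCharacter hθ'i) ?_
    have h3 : resTo hK'W ξ = θ' := by
      funext n
      exact hξ' n
    rw [h3, classInner_irr_self hθ'i]
    exact one_ne_zero
  -- a character of degree divisible by `q`
  obtain ⟨z, hz, hzK⟩ : ∃ z ∈ ⁅M, M⁆, z ∉ K := by
    by_contra hcon
    push Not at hcon
    exact hab hcon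
  have hzM : z ∈ M := (commutator_le_left M M) hz
  obtain ⟨β, hβ, hβN, hβz⟩ := exists_irr_quot (K.subgroupOf M) (x := ⟨z, hzM⟩)
    (fun h => hzK (mem_subgroupOf.1 h))
  have hβ1 : charDegree β ≠ 1 := by
    intro h1
    apply hβz
    exact H597.Taketa.commutator_le_ker_of_linear hβ h1 _ ((H597.IndexP.mem_commutator_iff M).2 hz)
  have hβq : q ∣ charDegree β := by
    obtain ⟨ψ, hψ, ⟨c, hc, hc'⟩, hψ'⟩ := H597.ThreeDegB.exists_under (K.subgroupOf M) hβ
    have h1 : charDegree ψ = 1 :=
      H597.RelThompson.charDegree_eq_one hψ fun k _ => hψ' k (hβN k k.2)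
    rw [h1, one_mul] at hc
    rw [hk'] at hc'
    obtain ⟨j, -, hj⟩ := (Nat.dvd_prime_pow hq).1 hc'
    rw [hc, hj]
    refine dvd_pow_self q ?_
    rintro rfl
    exact hβ1 (by rw [hc, hj, pow_zero])
  have hβα : IsIrrCharacter M (β * α) := H597.FrobC.isIrr_mul_of_restrict (K.subgroupOf M) hα hαN
    hβ hβN
  have hβαd : charDegree (β * α) = charDegree β * charDegree α := H597.FrobC.charDegree_mul hα hβ
  set M' : Subgroup Y := M.subgroupOf Y with hM'
  have := Fintype.ofFinite M'
  have hdown : IsIrrCharacter M' (down M Y (β * α)) := H591.Cliff.isIrr_down hMY hβα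
  obtain ⟨ζ', hζ', h1⟩ := CharDeep.PowerDegrees.exists_irr_over M' hdown
  obtain ⟨c, hc, -⟩ := H597.Degrees.degree_over M' hζ' hdown h1
  have hζ'q : q ∣ charDegree ζ' := by
    have h2 : charDegree (down M Y (β * α)) = charDegree (β * α) := by
      apply charDegree_of_eq
      rw [← irr_one_eq_charDegree hβα]
      rfl
    rw [hc, h2, hβαd, mul_assoc]
    exact Dvd.dvd.mul_right hβq _
  have hK'M' : K' ≤ M' := comap_mono hKM
  have hζ'1 : classInner (resTo hKY ζ') α₁ ≠ 0 := by
    apply htrans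
    refine over_trans hK'M' (X := res M' ζ')
      (Clifford.isCharacter_restrict M' (isIrr_isCharacter hζ')) hdown h1 (isIrr_isCharacter hθ'i) ?_
    have h3 : resTo hK'M' (down M Y (β * α)) = (β 1) • θ' := by
      funext n
      have h4 := hβN ⟨(n : Y), hKM (mem_subgroupOf.1 n.2)⟩ (mem_subgroupOf.2 (mem_subgroupOf.1 n.2))
      show β _ * α _ = β 1 * α _
      rw [← h4]
    rw [h3, classInner_smul_left, classInner_irr_self hθ'i, mul_one]
    exact isIrr_apply_one_ne_zero hβ
  have h2 := key ζ hζ hζ1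
  have h3 := key ζ' hζ' hζ'1
  rw [← h2] at h3
  have h4 := Nat.eq_of_mul_eq_mul_left (Nat.pos_of_ne_zero index_ne_zero_of_finite) h3
  exact hζq (h4 ▸ hζ'q)

end Cfsg.Agent.H598.FourThree
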