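import Mathlib
import Cfsg.Agent.H598.FourThree

/-!
# Relative degrees: two degrees, fourth step
-/

set_option autoImplicit false

namespace Cfsg.Agent.H598.FourFour

open Cfsg Cfsg.Agent Cfsg.Agent.Characters Cfsg.Agent.Characters.Core
open Cfsg.Agent.H597.Base Cfsg.Agent.H598.FourCore Cfsg.Agent.H598.FourUtil
open Cfsg.Agent.H598.FourRel Cfsg.Agent.H598.FourTwo Subgroup
open Cfsg.Agent.OddOrderCharacters.IndRes (res)
open Cfsg.Agent.OddOrderCharacters.NormalInduced (conjFn)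
open Cfsg.Agent.OddOrderCharacters.PF9.CliffGen (inertia mem_inertia le_inertia resTo down)
open Cfsg.Agent.Blocks.Basic (charDegree_of_eq irr_one_eq_charDegree charDegree_pos)
open Cfsg.Agent.H597.RelThompson (Op Op_le Op_normal)
open scoped ComplexConjugate

universe u

variable {G : Type u} [Group G]

theorem dvd_of_sylow [Fintype G] {M : Subgroup G} {q b : ℕ} (hq : q.Prime)
    (Q : Subgroup G) (hQ : ¬ q ∣ Q.index)
    (h : ∀ χ : G → ℂ, IsIrrCharacter G χ → Ov M χ → q ^ b ∣ charDegree χ)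
    {κ : Q → ℂ} (hκ : IsIrrCharacter Q κ)
    (hov : Ov (M.subgroupOf Q) κ) : q ^ b ∣ charDegree κ := by
  have h1 := dvd_ind (M := M) Q hκ hov h
  exact (Nat.Coprime.pow_left _ ((hq.coprime_iff_not_dvd).2 hQ)).dvd_of_dvd_mul_left h1

theorem degree_pow {q : ℕ} (hq : q.Prime) {P : Type*} [Group P] [Finite P] (hP : IsPGroup q P)
    {κ : P → ℂ} (hκ : IsIrrCharacter P κ) : ∃ j, charDegree κ = q ^ j := by
  have := Fact.mk hq
  obtain ⟨n, hn⟩ := IsPGroup.iff_card.1 hP
  have h1 := H597.Degrees.charDegree_dvd_card hκ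
  rw [hn] at h1
  obtain ⟨j, -, hj⟩ := (Nat.dvd_prime_pow hq).1 h1
  exact ⟨j, hj⟩

/-- **S4a.** -/
theorem step_four_a [Fintype G] (M X : Subgroup G) [hMn : M.Normal] [hXn : X.Normal]
    (hXM : X ≤ ⁅M, M⁆) (hX : X ≠ ⊥) {q b g : ℕ} (hq : q.Prime) (hM : IsPGroup q M)
    (h : ∀ χ : G → ℂ, IsIrrCharacter G χ → Ov M χ → q ^ b ∣ charDegree χ)
    (hg : ∀ χ : G → ℂ, IsIrrCharacter G χ → Ov X χ → charDegree χ = g)
    (hgb : ¬ q ^ (b + 1) ∣ g) : False := by
  classical
  have := Fact.mk hq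
  obtain ⟨Q, hQp, hQi, hMQ⟩ : ∃ Q : Subgroup G, IsPGroup q Q ∧ ¬ q ∣ Q.index ∧ M ≤ Q := by
    obtain ⟨Q, hMQ⟩ := hM.exists_le_sylow
    exact ⟨Q, Q.2, Q.not_dvd_index, hMQ⟩
  have := Fintype.ofFinite Q
  have := Fintype.ofFinite X
  have hM' : ⁅M, M⁆ ≤ M := commutator_le_left M M
  obtain ⟨x, hx, hx1⟩ : ∃ x ∈ X, x ≠ 1 := by
    by_contra hcon
    push Not at hcon
    exact hX ((Subgroup.eq_bot_iff_forall _).2 hcon)
  obtain ⟨χ, hχ, hχx⟩ : ∃ χ : G → ℂ, IsIrrCharacter G χ ∧ χ x ≠ χ 1 := by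
    by_contra hcon
    push Not at hcon
    exact hx1 (eq_one_of_forall hcon)
  have hχg := hg χ hχ ⟨x, hx, hχx⟩
  have hXQ : X ≤ Q := hXM.trans (hM'.trans hMQ)
  have hres := Clifford.isCharacter_restrict Q (isIrr_isCharacter hχ)
  obtain ⟨τ, hτ, hτc, hτd⟩ : ∃ τ : Q → ℂ, IsIrrCharacter Q τ ∧
      classInner (res Q χ) τ ≠ 0 ∧ ¬ q ^ (b + 1) ∣ charDegree τ := by
    by_contra hcon
    push Not at hcon
    apply hgb
    refine dvd_of_forall (X := res Q χ) hres (n := g) ?_ hcon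
    show χ 1 = g
    rw [irr_one_eq_charDegree hχ, hχg]
  have hτov : Ov (X.subgroupOf Q) τ := by
    by_contra hcon
    unfold Ov at hcon
    push Not at hcon
    have h1 : classInner (resTo hXQ (res Q χ)) (1 : X → ℂ) ≠ 0 := by
      refine over_trans hXQ hres hτ hτc (isIrr_isCharacter isIrr_one) ?_
      have h2 : resTo hXQ τ = (τ 1) • (1 : X → ℂ) := by
        funext n
        show τ _ = τ 1 * 1
        rw [mul_one]
        exact hcon _ (mem_subgroupOf.2 n.2)
      rw [h2, classInner_smul_left, classInner_irr_self isIrr_one, mul_one]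
      exact isIrr_apply_one_ne_zero hτ
    apply h1
    have h3 := H597.Base.sum_apply_eq_zero X hχ ⟨x, hx, hχx⟩
    rw [classInner_def]
    have h4 : ∑ k : X, resTo hXQ (res Q χ) k * conj ((1 : X → ℂ) k) =
        ∑ k : X, χ k := by
      refine Finset.sum_congr rfl fun k _ => ?_
      rw [Pi.one_apply, map_one, mul_one]
      rfl
    rw [h4, h3, mul_zero]
  have hovM : ∀ κ : Q → ℂ, Ov (X.subgroupOf Q) κ → Ov (M.subgroupOf Q) κ := by
    rintro κ ⟨y, hy, hne⟩
    exact ⟨y, mem_subgroupOf.2 (hM' (hXM (mem_subgroupOf.1 hy))), hne⟩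
  obtain ⟨j, hj⟩ := degree_pow hq hQp hτ
  have hτb : charDegree τ = q ^ b := by
    have h1 := dvd_of_sylow hq Q hQi h hτ (hovM τ hτov)
    rw [hj] at h1 hτd ⊢
    have h2 := (Nat.pow_dvd_pow_iff_le_right hq.one_lt).1 h1
    have h3 : ¬ b + 1 ≤ j := fun h => hτd (pow_dvd_pow q h)
    rw [show j = b by omega]
  have hnil : Group.IsNilpotent (Q ⧸ (⊥ : Subgroup Q)) := by
    have : Group.IsNilpotent Q := hQp.isNilpotent
    infer_instance
  obtain ⟨H, f, -, hind⟩ := H597.Taketa.exists_linear_of_abelian_nilpotent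
    (⊥ : Subgroup Q) (fun a ha b hb => by
      rw [mem_bot.1 ha, mem_bot.1 hb]) hnil hτ
  have hMH : M.subgroupOf Q ≤ H := by
    refine le_of_indFun (M.subgroupOf Q) (χ := τ) (fun κ hκ hlt hov => ?_) H
      (Linear.isIrrCharacter_hom f) hind
    have h1 := Nat.le_of_dvd (charDegree_pos hκ) (dvd_of_sylow hq Q hQi h hκ hov)
    rw [hτb] at hlt
    omega
  obtain ⟨y, hy, hne⟩ := hτov
  apply hne
  have hyc : y ∈ ⁅M.subgroupOf Q, M.subgroupOf Q⁆ := by
    rw [← commutator_subgroupOf hMQ, mem_subgroupOf]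
    exact hXM (mem_subgroupOf.1 hy)
  have h1 := H597.ThreeDegA.indFun_eq_of_commutator H f (M.subgroupOf Q) hMH hyc
  rwa [hind] at h1

/-- Irreducible characters over a nontrivial character are nontrivial. -/
theorem ov_ind [Fintype G] {X K Y : Subgroup G} [K.Normal] [Fintype K] [Fintype Y]
    (hKY : K ≤ Y) {θ : K → ℂ} (hθ : IsIrrCharacter K θ) (hinv : ∀ y ∈ Y, conjFn K θ y = θ)
    (hov : ∃ x : K, (x : G) ∈ X ∧ θ x ≠ θ 1) {ζ : Y → ℂ} (hζ : IsIrrCharacter Y ζ)
    (h0 : classInner (resTo hKY ζ) θ ≠ 0) (hirr : IsIrrCharacter G (indFun Y ζ)) :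
    Ov X (indFun Y ζ) := by
  by_contra hcon
  unfold Ov at hcon
  push Not at hcon
  obtain ⟨x, hx, hne⟩ := hov
  apply hne
  have h1 := ker_of_indFun Y hζ hirr ⟨x, hKY x.2⟩ (hcon x hx)
  have h2 := prop_of_invariant hKY hθ hinv hζ h0 x
  have h3 : ζ 1 * θ 1 = ζ 1 * θ x := by
    rw [← h2, ← h1]
  exact (mul_left_cancel₀ (isIrr_apply_one_ne_zero hζ) h3).symm

/-- A complement for a minimal normal subgroup. -/
theorem exists_complement [Finite G] (L X K : Subgroup G) [hL : L.Normal] [hX : X.Normal]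
    (hXL : ⁅L, L⁆ ≤ X) (hXL' : X ≤ L) (hXab : ⁅X, X⁆ = ⊥) (hXb : X ≠ ⊥)
    (hmin : ∀ R : Subgroup G, R.Normal → R ≠ ⊥ → X ≤ R) {q : ℕ} (hq : q.Prime)
    (hcop : (Nat.card X).Coprime q) (hK : ∀ x ∈ L, (orderOf x).Coprime q → x ∈ K) (hLK : ¬ L ≤ K) :
    ∃ W : Subgroup G, X ⊓ W = ⊥ ∧ X ⊔ W = ⊤ := by
  classical
  have := Fact.mk hq
  obtain ⟨l, hl, hlK⟩ : ∃ l ∈ L, l ∉ K := by
    by_contra hcon
    push Not at hcon
    exact hLK hcon
  set π := QuotientGroup.mk' X with hπ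
  have hcomm : ∀ a ∈ L, ∀ b ∈ L, Commute (π a) (π b) := by
    intro a ha b hb
    have h1 : π (a * b * a⁻¹ * b⁻¹) = 1 :=
      (QuotientGroup.eq_one_iff _).2 (hXL (commutator_mem_commutator ha hb))
    rw [map_mul, map_mul, map_mul, map_inv, map_inv, mul_inv_eq_one, mul_inv_eq_iff_eq_mul] at h1
    exact h1
  -- the `q`-part of `L` modulo `X`
  let R : Subgroup G :=
    { carrier := {a | a ∈ L ∧ ∃ k : ℕ, a ^ q ^ k ∈ X}
      mul_mem' := by
        rintro a b ⟨ha, i, hi⟩ ⟨hb, j, hj⟩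
        refine ⟨L.mul_mem ha hb, i + j, ?_⟩
        have h2 : π (a ^ q ^ i) = 1 := (QuotientGroup.eq_one_iff _).2 hi
        have h3 : π (b ^ q ^ j) = 1 := (QuotientGroup.eq_one_iff _).2 hj
        have h1 : π ((a * b) ^ q ^ (i + j)) = 1 := by
          rw [map_pow, map_mul, (hcomm a ha b hb).mul_pow, pow_add, pow_mul, mul_comm (q ^ i),
            pow_mul (π b), ← map_pow, ← map_pow π b, h2, h3, one_pow, one_pow, one_mul]
        exact (QuotientGroup.eq_one_iff _).1 h1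
      one_mem' := ⟨L.one_mem, 0, by rw [one_pow]; exact X.one_mem⟩
      inv_mem' := by
        rintro a ⟨ha, i, hi⟩
        exact ⟨L.inv_mem ha, i, by rw [inv_pow]; exact X.inv_mem hi⟩ }
  have hRn : R.Normal := by
    refine ⟨?_⟩
    rintro a ⟨ha, i, hi⟩ g
    exact ⟨hL.conj_mem a ha g, i, by rw [conj_pow]; exact hX.conj_mem _ hi g⟩
  have hXR : X ≤ R := fun x hx => ⟨hXL' hx, 0, by rw [pow_zero, pow_one]; exact hx⟩
  obtain ⟨S⟩ : Nonempty (Sylow q R) := inferInstance
  set P : Subgroup G := (S : Subgroup R).map R.subtype with hP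
  have hPp : IsPGroup q P := S.2.map R.subtype
  have hFr : normalizer (P : Set G) ⊔ R = ⊤ := S.normalizer_sup_eq_top
  -- `P ≠ 1`
  have hPb : P ≠ ⊥ := by
    intro hPb
    have h1 : (S : Subgroup R) = ⊥ := by
      rw [hP, Subgroup.map_eq_bot_iff_of_injective _ R.subtype_injective] at hPb
      exact hPb
    have h2 : ¬ q ∣ Nat.card R := by
      have h3 := S.not_dvd_index
      rwa [h1, index_bot] at h3
    apply hlK
    apply hK l hl
    obtain ⟨k, m, hm, hk⟩ := Nat.exists_eq_pow_mul_and_not_dvd (orderOf_pos l).ne' q hq.ne_one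
    have h4 : l ^ m ∈ R := by
      refine ⟨L.pow_mem hl m, k, ?_⟩
      rw [← pow_mul, mul_comm, ← hk, pow_orderOf_eq_one]
      exact X.one_mem
    have h5 : orderOf (l ^ m) = q ^ k := by
      have hm0 : m ≠ 0 := by
        rintro rfl
        exact hm (dvd_zero q)
      rw [orderOf_pow' l hm0, hk, Nat.gcd_mul_left_left, Nat.mul_div_cancel _ (Nat.pos_of_ne_zero hm0)]
    have h6 : orderOf (l ^ m) ∣ Nat.card R := Subgroup.orderOf_dvd_natCard R h4
    have h7 : k = 0 := by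
      by_contra hk0
      exact h2 ((dvd_pow_self q hk0).trans (h5 ▸ h6))
    rw [hk, h7, pow_zero, one_mul]
    exact ((hq.coprime_iff_not_dvd).2 hm).symm
  -- `R = P X`
  have hRPX : R ≤ P ⊔ X := by
    have h1 : (S : Subgroup R) ⊔ X.subgroupOf R = ⊤ := by
      have h2 : ¬ q ∣ ((S : Subgroup R) ⊔ X.subgroupOf R).index := fun h =>
        S.not_dvd_index (h.trans (index_dvd_of_le le_sup_left))
      have h3 : IsPGroup q (R ⧸ X.subgroupOf R) := by
        intro y
        induction y using QuotientGroup.induction_on with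
        | H y =>
        obtain ⟨-, k, hk⟩ := y.2
        refine ⟨k, ?_⟩
        rw [← QuotientGroup.mk_pow, QuotientGroup.eq_one_iff, mem_subgroupOf]
        exact hk
      obtain ⟨n, hn⟩ := IsPGroup.iff_card.1 h3
      have h4 : ((S : Subgroup R) ⊔ X.subgroupOf R).index ∣ q ^ n := by
        rw [← hn]
        exact index_dvd_of_le le_sup_right
      obtain ⟨j, -, hj⟩ := (Nat.dvd_prime_pow hq).1 h4
      have h5 : j = 0 := by
        by_contra hj0
        exact h2 (hj ▸ dvd_pow_self q hj0)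
      rw [h5, pow_zero, index_eq_one] at hj
      exact hj
    intro r hr
    have h2 : (⟨r, hr⟩ : R) ∈ (S : Subgroup R) ⊔ X.subgroupOf R := by rw [h1]; exact mem_top _
    have h3 : ((S : Subgroup R) ⊔ X.subgroupOf R).map R.subtype ≤ P ⊔ X := by
      rw [Subgroup.map_sup]
      exact sup_le_sup le_rfl (map_le_iff_le_comap.2 le_rfl)
    exact h3 ⟨_, h2, rfl⟩
  have hsup : X ⊔ normalizer (P : Set G) = ⊤ := by
    rw [eq_top_iff, ← hFr]
    exact sup_le le_sup_right (hRPX.trans (sup_le (le_normalizer.trans le_sup_right) le_sup_left))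
  refine ⟨normalizer (P : Set G), ?_, hsup⟩
  by_contra hne
  have hn : (X ⊓ normalizer (P : Set G)).Normal := by
    rw [← normalizer_eq_top_iff, eq_top_iff, ← hsup]
    refine sup_le ?_ ?_
    · intro x hx
      rw [mem_normalizer_iff]
      intro y
      have hxy : ∀ y ∈ X, x * y * x⁻¹ = y := by
        intro y hy
        have h1 : x * y * x⁻¹ * y⁻¹ ∈ ⁅X, X⁆ := commutator_mem_commutator hx hy
        rw [hXab, mem_bot, mul_inv_eq_one] at h1
        exact h1
      constructor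
      · intro hy
        rw [hxy y hy.1]
        exact hy
      · intro hy
        have h1 : y ∈ X := by
          have := X.mul_mem (X.mul_mem (X.inv_mem hx) hy.1) hx
          have e : x⁻¹ * (x * y * x⁻¹) * x = y := by group
          rwa [e] at this
        rw [hxy y h1] at hy
        exact hy
    · intro w hw
      rw [mem_normalizer_iff]
      intro y
      refine and_congr ?_ ?_
      · constructor
        · intro hy
          exact hX.conj_mem y hy w
        · intro hy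
          have := hX.conj_mem _ hy w⁻¹
          have e : w⁻¹ * (w * y * w⁻¹) * w⁻¹⁻¹ = y := by group
          rwa [e] at this
      · constructor
        · intro hy
          exact (normalizer (P : Set G)).mul_mem ((normalizer (P : Set G)).mul_mem hw hy)
            ((normalizer (P : Set G)).inv_mem hw)
        · intro hy
          have := (normalizer (P : Set G)).mul_mem ((normalizer (P : Set G)).mul_mem
            ((normalizer (P : Set G)).inv_mem hw) hy) hw
          have e : w⁻¹ * (w * y * w⁻¹) * w = y := by group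
          rwa [e] at this
  have h1 : X ≤ normalizer (P : Set G) := (hmin _ hn hne).trans inf_le_right
  have h2 : normalizer (P : Set G) = ⊤ := by
    rw [← hsup]
    exact (sup_eq_right.2 h1).symm
  have h3 : P.Normal := normalizer_eq_top_iff.1 h2
  have h4 := hmin P h3 hPb
  apply hXb
  have h5 : IsPGroup q X := hPp.to_le h4
  obtain ⟨n, hn'⟩ := IsPGroup.iff_card.1 h5
  rw [hn'] at hcop
  have h6 : n = 0 := by
    by_contra hn0
    exact hq.one_lt.ne' (Nat.Coprime.eq_one_of_dvd hcop.symm (dvd_pow_self q hn0))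
  rw [h6, pow_zero] at hn'
  exact Subgroup.card_eq_one.1 hn'

/-- **S4b.** -/
theorem step_four_b [Fintype G] [Group.IsSolvable G] (M X : Subgroup G) [hMn : M.Normal]
    [hXn : X.Normal] (hX : X = ⁅⁅M, M⁆, ⁅M, M⁆⁆) (hXb : X ≠ ⊥)
    (hmin : ∀ R : Subgroup G, R.Normal → R ≠ ⊥ → X ≤ R) {q b g : ℕ} (hq : q.Prime)
    (h : ∀ χ : G → ℂ, IsIrrCharacter G χ → Ov M χ → q ^ b ∣ charDegree χ)
    (hg : ∀ χ : G → ℂ, IsIrrCharacter G χ → Ov X χ → charDegree χ = g)
    (hgb : ¬ q ^ (b + 1) ∣ g) (hcop : (Nat.card (Op q M)).Coprime q) (hXK : X ≤ Op q M)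
    (hnab : ¬ ⁅M, M⁆ ≤ Op q M) : False := by
  classical
  have := Fact.mk hq
  have := Fintype.ofFinite X
  set L := ⁅M, M⁆ with hL
  set K := Op q M with hK
  have hKn : K.Normal := Op_normal q M
  have hLM : L ≤ M := commutator_le_left M M
  have hXL : X ≤ L := by rw [hX]; exact commutator_le_left L L
  have hXab : ⁅X, X⁆ = ⊥ := one_degree X hg
  have hXcop : (Nat.card X).Coprime q := Nat.Coprime.coprime_dvd_left (card_dvd_of_le hXK) hcop
  obtain ⟨W, hW1, hW2⟩ := exists_complement L X K hX.ge hXL hXab hXb hmin hq hXcop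
    (fun x hx hxo => subset_closure ⟨hLM hx, hxo⟩) hnab
  -- a nonprincipal linear character
  obtain ⟨x, hx, hx1⟩ : ∃ x ∈ X, x ≠ 1 := by
    by_contra hcon
    push Not at hcon
    exact hXb ((Subgroup.eq_bot_iff_forall _).2 hcon)
  obtain ⟨χ, hχ, hχx⟩ : ∃ χ : G → ℂ, IsIrrCharacter G χ ∧ χ x ≠ χ 1 := by
    by_contra hcon
    push Not at hcon
    exact hx1 (eq_one_of_forall hcon)
  obtain ⟨lam, hlam, -, hlamx⟩ := H597.ThreeDegB.exists_under_ne X hχ (x := ⟨x, hx⟩) hχx
  have hlam1 : charDegree lam = 1 := by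
    refine H597.RelThompson.charDegree_eq_one hlam fun k hk => ?_
    have h1 := (H597.IndexP.mem_commutator_iff X).1 hk
    rw [hXab, mem_bot] at h1
    have h2 : k = 1 := Subtype.ext h1
    rw [h2]
  obtain ⟨f, rfl⟩ := Linear.exists_hom_of_isIrrCharacter hlam
    (by rw [irr_one_eq_charDegree hlam, hlam1, Nat.cast_one])
  set lam : X → ℂ := fun y => ((f y : ℂˣ) : ℂ) with hlamdef
  set T := inertia X lam with hT
  have := Fintype.ofFinite T
  have hXT : X ≤ T := le_inertia (isIrr_isClassFunction hlam)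
  have hinv : ∀ y ∈ T, conjFn X lam y = lam := fun y hy => hy
  -- extension to `T`
  obtain ⟨F, hF1, -⟩ := OddOrderCharacters.SplitExtension.exists_hom_of_complement (G := T) (U := ℂˣ)
    (X.subgroupOf T) (W.subgroupOf T)
    (by
      rw [eq_bot_iff]
      intro y hy
      have h1 : (y : G) ∈ X ⊓ W := ⟨mem_subgroupOf.1 hy.1, mem_subgroupOf.1 hy.2⟩
      rw [hW1, mem_bot] at h1
      exact Subtype.ext h1)
    (by
      rw [eq_top_iff]
      rintro ⟨y, hy⟩ -
      have h1 : y ∈ X ⊔ W := by rw [hW2]; exact mem_top y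
      obtain ⟨a, ha, w, hw, rfl⟩ := mem_sup_of_normal_left.1 h1
      have hwT : w ∈ T := by
        have := T.mul_mem (T.inv_mem (hXT ha)) hy
        rwa [inv_mul_cancel_left] at this
      have h2 : (⟨a * w, hy⟩ : T) = ⟨a, hXT ha⟩ * ⟨w, hwT⟩ := rfl
      rw [h2]
      exact Subgroup.mul_mem_sup (mem_subgroupOf.2 ha) (mem_subgroupOf.2 hw))
    (f.comp (subgroupOfEquivOfLe hXT).toMonoidHom) 1
    (by
      intro w n
      have h1 := congrFun (hinv _ w.1.2) ⟨(n : T), mem_subgroupOf.1 n.2⟩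
      rw [MonoidHom.one_apply, one_mul, inv_one, mul_one]
      exact Units.ext h1)
  have hF : ∀ n : X, F ⟨n, hXT n.2⟩ = f n := fun n => hF1 ⟨⟨n, hXT n.2⟩, mem_subgroupOf.2 n.2⟩
  have key : ∀ β : T → ℂ, IsIrrCharacter T β → (∀ n ∈ X.subgroupOf T, β n = β 1) →
      T.index * charDegree β = g := by
    intro β hβ hβX
    have h1 := H597.IndexP.isIrr_mul_hom hβ F
    have h2 : classInner (resTo hXT (fun t => (F t : ℂ) * β t)) lam ≠ 0 := by
      have h3 : resTo hXT (fun t => (F t : ℂ) * β t) = (β 1) • lam := by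
        funext n
        show (F ⟨n, _⟩ : ℂ) * β ⟨n, _⟩ = β 1 * (f n : ℂ)
        rw [hF, hβX _ (mem_subgroupOf.2 n.2), mul_comm]
      rw [h3, classInner_smul_left, classInner_irr_self hlam, mul_one]
      exact isIrr_apply_one_ne_zero hβ
    have hirr : IsIrrCharacter G (indFun T (fun t => (F t : ℂ) * β t)) :=
      H591.Cliff.irr_ind hlam (fun y hy => hy) hXT h1 h2
    have h3 := hg _ hirr (ov_ind hXT hlam hinv ⟨⟨x, hx⟩, hx, hlamx⟩ h1 h2 hirr)
    have h4 : charDegree (fun t => (F t : ℂ) * β t) = charDegree β := by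
      apply charDegree_of_eq
      show ((F 1 : ℂˣ) : ℂ) * β 1 = _
      rw [map_one, Units.val_one, one_mul, irr_one_eq_charDegree hβ]
    rwa [charDegree_ind T h1, h4] at h3
  have hT1 : T.index = g := by
    have h1 := key 1 isIrr_one (fun _ _ => rfl)
    have h2 : charDegree (1 : T → ℂ) = 1 := charDegree_of_eq (by simp)
    rwa [h2, mul_one] at h1
  have hTpos : 0 < T.index := Nat.pos_of_ne_zero index_ne_zero_of_finite
  have hTab : ∀ a ∈ T, ∀ b ∈ T, a * b * a⁻¹ * b⁻¹ ∈ X := by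
    have h1 : ∀ χ : T ⧸ (X.subgroupOf T) → ℂ, IsIrrCharacter (T ⧸ (X.subgroupOf T)) χ →
        charDegree χ = 1 := by
      intro χ hχ
      have h2 := isIrr_comp (QuotientGroup.mk' (X.subgroupOf T)) (QuotientGroup.mk'_surjective _) hχ
      have h3 := key _ h2 (fun n hn => by
        show χ (n : T ⧸ (X.subgroupOf T)) = χ ((1 : T) : T ⧸ (X.subgroupOf T))
        rw [(QuotientGroup.eq_one_iff n).2 hn]
        rfl)
      have h4 : charDegree (χ ∘ QuotientGroup.mk' (X.subgroupOf T)) = charDegree χ := by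
        apply charDegree_of_eq
        rw [← irr_one_eq_charDegree hχ]
        rfl
      rw [h4] at h3
      exact Nat.eq_of_mul_eq_mul_left hTpos (by rw [h3, mul_one, hT1])
    intro a ha b hb
    have h2 := H597.Degrees.comm_of_forall_one h1 ((⟨a, ha⟩ : T) : T ⧸ (X.subgroupOf T))
      ((⟨b, hb⟩ : T) : T ⧸ (X.subgroupOf T))
    have h3 : (((⟨a, ha⟩ : T) * ⟨b, hb⟩ * (⟨a, ha⟩ : T)⁻¹ * (⟨b, hb⟩ : T)⁻¹ : T) :
        T ⧸ (X.subgroupOf T)) = 1 := by
      rw [QuotientGroup.mk_mul, QuotientGroup.mk_mul, QuotientGroup.mk_mul, QuotientGroup.mk_inv,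
        QuotientGroup.mk_inv, mul_inv_eq_one, mul_inv_eq_iff_eq_mul]
      exact h2
    exact mem_subgroupOf.1 ((QuotientGroup.eq_one_iff _).1 h3)
  -- a Sylow subgroup of `T`
  obtain ⟨S⟩ : Nonempty (Sylow q T) := inferInstance
  set B : Subgroup G := (S : Subgroup T).map T.subtype with hB
  have hBp : IsPGroup q B := S.2.map _
  have hBT : B ≤ T := map_subtype_le _
  have hBab : ∀ a ∈ B, ∀ b ∈ B, a * b * a⁻¹ * b⁻¹ = 1 := by
    intro a ha b hb
    have h1 := hTab a (hBT ha) b (hBT hb)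
    have h2 : a * b * a⁻¹ * b⁻¹ ∈ B :=
      B.mul_mem (B.mul_mem (B.mul_mem ha hb) (B.inv_mem ha)) (B.inv_mem hb)
    exact PElem.PE.eq_one (PElem.PE.of_isPGroup hBp h2) h1 hXcop
  set π := QuotientGroup.mk' K with hπ
  have hMp : IsPGroup q (M.map π) := by
    rintro ⟨_, m, hm, rfl⟩
    obtain ⟨k, hk⟩ := Transfer.Residual.exists_pow_mem_pResidual q (⟨m, hm⟩ : M)
    refine ⟨k, Subtype.ext ?_⟩
    rw [Subgroup.coe_pow, OneMemClass.coe_one, ← map_pow]
    refine (QuotientGroup.eq_one_iff _).2 ?_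
    rw [hK, H597.RelThompson.Op_eq_map]
    exact ⟨_, hk, rfl⟩
  obtain ⟨Q, hQp, hQi, hBQ, hMQ⟩ : ∃ Q : Subgroup G, IsPGroup q Q ∧ ¬ q ∣ Q.index ∧ B ≤ Q ∧
      M.map π ≤ Q.map π := by
    obtain ⟨Q, hBQ⟩ := hBp.exists_le_sylow
    refine ⟨Q, Q.2, Q.not_dvd_index, hBQ, ?_⟩
    set Q2 : Sylow q (G ⧸ K) := Q.mapSurjective (QuotientGroup.mk'_surjective K) with hQ2
    have hn : (M.map π).Normal := hMn.map π (QuotientGroup.mk'_surjective K)
    have h1 : IsPGroup q (M.map π ⊔ (Q2 : Subgroup (G ⧸ K)) : Subgroup (G ⧸ K)) :=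
      hMp.to_sup_of_normal_left Q2.2
    have h2 := Q2.3 h1 le_sup_right
    have h3 : M.map π ≤ M.map π ⊔ (Q2 : Subgroup (G ⧸ K)) := le_sup_left
    rw [h2] at h3
    exact h3
  have := Fintype.ofFinite Q
  have hBQ' : B.relIndex Q ≤ q ^ b := by
    obtain ⟨n, hn⟩ := IsPGroup.iff_card.1 hQp
    have h1 : B.relIndex Q ∣ q ^ n := by
      rw [← hn, relIndex]
      exact index_dvd_card _
    obtain ⟨j, -, hj⟩ := (Nat.dvd_prime_pow hq).1 h1
    have h2 : B.relIndex Q * Q.index = B.relIndex T * T.index := by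
      rw [relIndex_mul_index hBQ, relIndex_mul_index hBT]
    have h3 : ¬ q ∣ B.relIndex T := by
      have h4 : B.subgroupOf T = (S : Subgroup T) :=
        comap_map_eq_self_of_injective T.subtype_injective _
      rw [relIndex, h4]
      exact S.not_dvd_index
    have h4 : q ^ j ∣ B.relIndex T * g := by
      rw [← hT1, ← h2, hj]
      exact dvd_mul_right _ _
    have h5 : q ^ j ∣ g :=
      (Nat.Coprime.pow_left _ ((hq.coprime_iff_not_dvd).2 h3)).dvd_of_dvd_mul_left h4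
    have h6 : j ≤ b := by
      by_contra hjb
      exact hgb ((pow_dvd_pow q (by omega)).trans h5)
    rw [hj]
    exact Nat.pow_le_pow_right hq.pos h6
  have hMQab : ⁅M.subgroupOf Q, M.subgroupOf Q⁆ = ⊥ := by
    refine one_degree (G := Q) (M.subgroupOf Q) (f := q ^ b) fun κ hκ hov => ?_
    have h1 := Nat.le_of_dvd (charDegree_pos hκ) (dvd_of_sylow hq Q hQi h hκ hov)
    obtain ⟨k, hk, hk'⟩ := OddOrderCharacters.PF9.CliffGen.degree_le_index (B.subgroupOf Q) hκ
      (by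
        have h2 : ⁅B.subgroupOf Q, B.subgroupOf Q⁆ = ⊥ := by
          rw [eq_bot_iff, commutator_le]
          intro a ha b hb
          exact Subtype.ext (hBab a (mem_subgroupOf.1 ha) b (mem_subgroupOf.1 hb))
        intro y hy
        rw [h2, mem_bot] at hy
        rw [hy])
    have h3 : charDegree κ = k := charDegree_of_eq hk
    have h4 : (B.subgroupOf Q).index = B.relIndex Q := rfl
    rw [h3] at h1 ⊢
    omega
  apply hnab
  rw [hL, commutator_le]
  intro a ha b hb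
  obtain ⟨x', hx', hxa⟩ := hMQ ⟨a, ha, rfl⟩
  obtain ⟨y', hy', hyb⟩ := hMQ ⟨b, hb, rfl⟩
  have hKM : K ≤ M := Op_le q M
  have hxM : x' ∈ M := by
    have h1 : x'⁻¹ * a ∈ K := QuotientGroup.eq.1 hxa
    have h2 := M.mul_mem ha (M.inv_mem (hKM h1))
    have e : a * (x'⁻¹ * a)⁻¹ = x' := by group
    rwa [e] at h2
  have hyM : y' ∈ M := by
    have h1 : y'⁻¹ * b ∈ K := QuotientGroup.eq.1 hyb
    have h2 := M.mul_mem hb (M.inv_mem (hKM h1))
    have e : b * (y'⁻¹ * b)⁻¹ = y' := by group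
    rwa [e] at h2
  have h1 : (⟨x', hx'⟩ : Q) * ⟨y', hy'⟩ * (⟨x', hx'⟩ : Q)⁻¹ * (⟨y', hy'⟩ : Q)⁻¹ ∈
      ⁅M.subgroupOf Q, M.subgroupOf Q⁆ :=
    commutator_mem_commutator (mem_subgroupOf.2 hxM) (mem_subgroupOf.2 hyM)
  rw [hMQab, mem_bot] at h1
  have h2 : x' * y' * x'⁻¹ * y'⁻¹ = 1 := congrArg Subtype.val h1
  have h3 : π (a * b * a⁻¹ * b⁻¹) = 1 := by
    rw [map_mul, map_mul, map_mul, map_inv, map_inv, ← hxa, ← hyb, ← map_inv, ← map_inv,
      ← map_mul, ← map_mul, ← map_mul, h2, map_one]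
  exact (QuotientGroup.eq_one_iff _).1 h3

end Cfsg.Agent.H598.FourFour
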