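import Mathlib
import Cfsg.Agent.H598.FourFour

/-!
# Relative degrees: two degrees

If the irreducible characters of the finite solvable group `G` that are nontrivial on the normal
subgroup `M` have at most two degrees, then `M'' = 1`.
-/

set_option autoImplicit false

namespace Cfsg.Agent.H598.FourT2

open Cfsg Cfsg.Agent Cfsg.Agent.Characters Cfsg.Agent.Characters.Core
open Cfsg.Agent.H597.Base Cfsg.Agent.H598.FourCore Cfsg.Agent.H598.FourUtil
open Cfsg.Agent.H598.FourRel Cfsg.Agent.H598.FourTwo Cfsg.Agent.H598.FourThree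
open Cfsg.Agent.H598.FourFour Subgroup
open Cfsg.Agent.Blocks.Basic (charDegree_of_eq irr_one_eq_charDegree charDegree_pos)
open Cfsg.Agent.H597.RelThompson (Op Op_le Op_normal)
open scoped ComplexConjugate

universe u

theorem charDegree_comp_mk {G : Type u} [Group G] [Finite G] (R : Subgroup G) [R.Normal]
    {χ : G ⧸ R → ℂ} (hχ : IsIrrCharacter (G ⧸ R) χ) :
    charDegree (χ ∘ QuotientGroup.mk' R) = charDegree χ := by
  apply charDegree_of_eq
  rw [← irr_one_eq_charDegree hχ]
  rfl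

theorem two_degrees_aux (n : ℕ) : ∀ (G : Type u) [Group G] [Finite G] [Group.IsSolvable G],
    Nat.card G = n → ∀ (M : Subgroup G) [M.Normal] (f g : ℕ), f ≤ g →
      (∀ χ : G → ℂ, IsIrrCharacter G χ → Ov M χ → charDegree χ = f ∨ charDegree χ = g) →
      ⁅⁅M, M⁆, ⁅M, M⁆⁆ = ⊥ := by
  classical
  induction n using Nat.strong_induction_on with
  | _ n ih =>
  intro G _ _ _ hn M hM f g hfg h
  by_contra hXb
  have := Fintype.ofFinite G
  set X := ⁅⁅M, M⁆, ⁅M, M⁆⁆ with hX
  have hLM : ⁅M, M⁆ ≤ M := commutator_le_left M M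
  have hXL : X ≤ ⁅M, M⁆ := commutator_le_left _ _
  have hXM : X ≤ M := hXL.trans hLM
  have hovM : ∀ χ : G → ℂ, Ov X χ → Ov M χ := by
    rintro χ ⟨x, hx, hne⟩
    exact ⟨x, hXM hx, hne⟩
  have hmin : ∀ R : Subgroup G, R.Normal → R ≠ ⊥ → X ≤ R := by
    intro R hR hRb
    have hcard : Nat.card (G ⧸ R) < n := by
      rw [← hn, ← R.index_mul_card, ← Subgroup.index]
      have h1 : 1 < Nat.card R := by
        rw [Subgroup.one_lt_card_iff_ne_bot]
        exact hRb
      have h2 : 0 < R.index := Nat.pos_of_ne_zero index_ne_zero_of_finite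
      nlinarith
    have h1 := ih _ hcard (G ⧸ R) rfl (M.map (QuotientGroup.mk' R)) f g hfg (by
      intro χ hχ hov
      have h2 := isIrr_comp (QuotientGroup.mk' R) (QuotientGroup.mk'_surjective R) hχ
      rw [← charDegree_comp_mk R hχ]
      refine h _ h2 ?_
      obtain ⟨_, ⟨x, hx, rfl⟩, hne⟩ := hov
      exact ⟨x, hx, hne⟩)
    rw [← map_commutator, ← map_commutator, Subgroup.map_eq_bot_iff, QuotientGroup.ker_mk'] at h1
    exact h1
  have hfg' : f < g := by
    refine lt_of_le_of_ne hfg fun heq => hXb ?_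
    have h1 : ⁅M, M⁆ = ⊥ := one_degree M (f := g) fun χ hχ hov => by
      rcases h χ hχ hov with h | h
      · rw [h, heq]
      · exact h
    rw [hX, h1]
    simp
  have hg : ∀ χ : G → ℂ, IsIrrCharacter G χ → Ov X χ → charDegree χ = g := fun χ hχ hov =>
    (h χ hχ (hovM χ hov)).resolve_left (step_one M h hfg hχ hov)
  obtain ⟨q, a, hq, hqf, hqg, hnab⟩ := step_two M h hfg' hXb hg
  have := Fact.mk hq
  -- `g` is a degree
  have hg0 : g ≠ 0 := by
    omega
  obtain ⟨b, hb1, hb2⟩ := exists_exact hq hg0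
  have hba : b ≤ a := by
    by_contra hcon
    exact hqg ((pow_dvd_pow q (by omega)).trans hb1)
  have hdiv : ∀ χ : G → ℂ, IsIrrCharacter G χ → Ov M χ → q ^ b ∣ charDegree χ := by
    intro χ hχ hov
    rcases h χ hχ hov with h | h
    · rw [h]
      exact (pow_dvd_pow q (by omega)).trans hqf
    · rw [h]
      exact hb1
  set K := Op q M with hK
  have hKn : K.Normal := Op_normal q M
  by_cases hKb : K = ⊥
  · have hMp : IsPGroup q M := by
      obtain ⟨k, hk⟩ := H597.RelThompson.relIndex_Op q M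
      rw [← hK, hKb, relIndex_bot_left] at hk
      exact IsPGroup.of_card hk
    exact step_four_a M X hXL hXb hq hMp hdiv hg hb2
  · have hXK : X ≤ K := hmin K hKn hKb
    have h3 : ∀ α : M → ℂ, IsIrrCharacter M α → Ov (X.subgroupOf M) α → q ∣ charDegree α :=
      fun α hα hov => step_three M hq X hXK hg hnab hα hov
    obtain ⟨x, hx, hx1⟩ : ∃ x ∈ X, x ≠ 1 := by
      by_contra hcon
      push Not at hcon
      exact hXb ((Subgroup.eq_bot_iff_forall _).2 hcon)
    obtain ⟨χ, hχ, hχx⟩ : ∃ χ : G → ℂ, IsIrrCharacter G χ ∧ χ x ≠ χ 1 := by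
      by_contra hcon
      push Not at hcon
      exact hx1 (eq_one_of_forall hcon)
    have hqg' : q ∣ g := by
      rw [← hg χ hχ ⟨x, hx, hχx⟩]
      obtain ⟨α, hα, ⟨c, hc, -⟩, hαx⟩ := H597.ThreeDegB.exists_under_ne M hχ
        (x := ⟨x, hXM hx⟩) hχx
      rw [hc]
      exact Dvd.dvd.mul_right (h3 α hα ⟨⟨x, hXM hx⟩, mem_subgroupOf.2 hx, hαx⟩) _
    have hqf' : q ∣ f := (dvd_pow_self q (Nat.succ_ne_zero a)).trans hqf
    have hcop := H597.RelThompson.card_Op_coprime q hq M (fun χ hχ hov => by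
      obtain ⟨y, hy, hne⟩ := hov
      rcases h χ hχ ⟨y, hLM hy, hne⟩ with h | h <;> rw [h] <;> assumption)
    exact step_four_b M X hX hXb hmin hq hdiv hg hb2 hcop hXK hnab

/-- **T2.** -/
theorem two_degrees {G : Type u} [Group G] [Finite G] [Group.IsSolvable G] (M : Subgroup G)
    [M.Normal] {f g : ℕ}
    (h : ∀ χ : G → ℂ, IsIrrCharacter G χ → Ov M χ → charDegree χ = f ∨ charDegree χ = g) :
    ⁅⁅M, M⁆, ⁅M, M⁆⁆ = ⊥ := by
  rcases le_total f g with hfg | hfg
  · exact two_degrees_aux _ G rfl M f g hfg h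
  · exact two_degrees_aux _ G rfl M g f hfg fun χ hχ hov => (h χ hχ hov).symm

end Cfsg.Agent.H598.FourT2
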