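import Mathlib
import Cfsg.Agent.H598.FourT2

/-!
# Four character degrees: the Frobenius case
-/

set_option autoImplicit false

namespace Cfsg.Agent.H598.FourFrob

open Cfsg Cfsg.Agent Cfsg.Agent.Characters Cfsg.Agent.Characters.Core
open Cfsg.Agent.H597.Base Cfsg.Agent.H598.FourCore Cfsg.Agent.H598.FourRel Subgroup
open Cfsg.Agent.H598.FourT2 Cfsg.Agent.H597.FrobA
open Cfsg.Agent.Blocks.Basic (charDegree_of_eq irr_one_eq_charDegree charDegree_pos)
open scoped ComplexConjugate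

universe u

variable {G : Type u} [Group G]

theorem derivedSeries_le_map (N : Subgroup G) (hN : commutator G ≤ N) (k : ℕ) :
    derivedSeries G (k + 1) ≤ (derivedSeries N k).map N.subtype := by
  induction k with
  | zero =>
    rw [derivedSeries_zero, ← MonoidHom.range_eq_map, range_subtype, zero_add, derivedSeries_one]
    exact hN
  | succ k ih =>
    show ⁅derivedSeries G (k + 1), derivedSeries G (k + 1)⁆ ≤
      (⁅derivedSeries N k, derivedSeries N k⁆).map N.subtype
    rw [map_commutator]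
    exact commutator_mono ih ih

theorem derived_four_of_le (N : Subgroup G) (hN : commutator G ≤ N) (h : derivedSeries N 3 = ⊥) :
    derivedSeries G 4 = ⊥ := by
  have h1 := derivedSeries_le_map N hN 3
  rw [h, Subgroup.map_bot] at h1
  exact le_bot_iff.1 h1

theorem derived_four_of_comm (N : Subgroup G) (hN : commutator G ≤ N)
    (h : ⁅⁅⁅N, N⁆, ⁅N, N⁆⁆, ⁅⁅N, N⁆, ⁅N, N⁆⁆⁆ = ⊥) : derivedSeries G 4 = ⊥ := by
  have h1 : derivedSeries G 1 ≤ N := by rw [derivedSeries_one]; exact hN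
  have h2 : derivedSeries G 2 ≤ ⁅N, N⁆ := by
    rw [derivedSeries_succ]; exact commutator_mono h1 h1
  have h3 : derivedSeries G 3 ≤ ⁅⁅N, N⁆, ⁅N, N⁆⁆ := by
    rw [derivedSeries_succ]; exact commutator_mono h2 h2
  rw [eq_bot_iff, ← h, derivedSeries_succ]
  exact commutator_mono h3 h3

/-- The Frobenius case. -/
theorem case_frob_aux [Finite G] [Group.IsSolvable G] {r x y : ℕ} (hr : r.Prime)
    (K N : Subgroup G) [K.Normal] [N.Normal] (hF : FrobQ K N r)
    (hcd : ∀ χ : G → ℂ, IsIrrCharacter G χ →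
      charDegree χ = 1 ∨ charDegree χ = N.index ∨ charDegree χ = x ∨ charDegree χ = y)
    (hP : ∀ p : ℕ, p.Prime → ∃ χ : G → ℂ, IsIrrCharacter G χ ∧ charDegree χ ≠ 1 ∧
      ¬ p ∣ charDegree χ) (hxy : r ∣ x → r ∣ y) : derivedSeries G 4 = ⊥ := by
  classical
  have := Fintype.ofFinite G
  have := Fintype.ofFinite N
  have hf1 : 1 < N.index := by
    have h1 : N.index ≠ 0 := index_ne_zero_of_finite
    have h2 : N.index ≠ 1 := fun h => hF.ne_top (index_eq_one.1 h)
    omega
  obtain ⟨k, hk⟩ := hF.rel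
  have hKN : K.subgroupOf N ≠ ⊤ := by
    rw [Ne, subgroupOf_eq_top]
    exact hF.lt.not_ge
  -- multiplication by the index
  have hmul : ∀ ψ : N → ℂ, IsIrrCharacter N ψ → ¬ r ∣ charDegree ψ →
      ∃ χ : G → ℂ, IsIrrCharacter G χ ∧ charDegree χ = N.index * charDegree ψ := by
    intro ψ hψ hrd
    have h1 : ∃ n : N, (n : G) ∉ K ∧ ψ n ≠ 0 := by
      by_contra hcon
      push Not at hcon
      exact hrd (H597.FrobC.dvd_of_vanish hr (K.subgroupOf N) hk hKN hψ
        (fun n hn => hcon n (fun h => hn (mem_subgroupOf.2 h))))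
    obtain ⟨n, hn, hne⟩ := h1
    exact H597.FrobB.exists_degree_mul hF hψ hn hne
  have hr1 : ¬ r ∣ 1 := fun h => hr.one_lt.ne' (Nat.dvd_one.1 h)
  -- the degrees of `N` prime to `r`
  have hprime : ∀ ψ : N → ℂ, IsIrrCharacter N ψ → ¬ r ∣ charDegree ψ → charDegree ψ ≠ 1 →
      N.index * charDegree ψ = x ∨ N.index * charDegree ψ = y := by
    intro ψ hψ hrd hψ1
    obtain ⟨χ, hχ, hd⟩ := hmul ψ hψ hrd
    have hpos := charDegree_pos hψ
    rcases hcd χ hχ with h | h | h | h
    · rw [hd] at h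
      nlinarith
    · exfalso
      apply hψ1
      rw [hd] at h
      exact Nat.eq_of_mul_eq_mul_left (by omega) (h.trans (mul_one _).symm)
    · exact Or.inl (hd ▸ h)
    · exact Or.inr (hd ▸ h)
  -- the characters of `G` over a character of `N` of degree divisible by `r`
  have hdiv : ∀ (ψ : N → ℂ) (χ : G → ℂ), IsIrrCharacter N ψ → IsIrrCharacter G χ →
      r ∣ charDegree ψ → (∃ c, charDegree χ = charDegree ψ * c ∧ c ∣ N.index) →
      (charDegree χ = x ∧ r ∣ x) ∨ (charDegree χ = y ∧ r ∣ y) := by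
    rintro ψ χ hψ hχ hrd ⟨c, hc, -⟩
    have h1 : r ∣ charDegree χ := hc ▸ Dvd.dvd.mul_right hrd c
    rcases hcd χ hχ with h | h | h | h
    · exact absurd (h ▸ h1) hr1
    · exact absurd (h ▸ h1) hF.idx
    · exact Or.inl ⟨h, h ▸ h1⟩
    · exact Or.inr ⟨h, h ▸ h1⟩
  have hunder : ∀ χ : G → ℂ, IsIrrCharacter G χ → Ov ⁅N, N⁆ χ → ∃ ψ : N → ℂ, IsIrrCharacter N ψ ∧
      charDegree ψ ≠ 1 ∧ ∃ c, charDegree χ = charDegree ψ * c ∧ c ∣ N.index := by
    rintro χ hχ ⟨z, hz, hne⟩
    have hzN : z ∈ N := commutator_le_left N N hz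
    obtain ⟨ψ, hψ, hc, hψz⟩ := H597.ThreeDegB.exists_under_ne N hχ (x := ⟨z, hzN⟩) hne
    refine ⟨ψ, hψ, fun h1 => hψz ?_, hc⟩
    exact H597.Taketa.commutator_le_ker_of_linear hψ h1 _ ((H597.IndexP.mem_commutator_iff N).2 hz)
  by_cases hry : r ∣ y
  swap
  · -- neither is divisible by `r`
    have hrx : ¬ r ∣ x := fun h => hry (hxy h)
    refine derived_four_of_le N hF.le (H597.ThreeDegB.solvable_case inferInstance (x / N.index)
      (y / N.index) fun ψ hψ => ?_)
    by_cases hψ1 : charDegree ψ = 1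
    · exact Or.inl hψ1
    right
    have hrd : ¬ r ∣ charDegree ψ := by
      intro hrd
      obtain ⟨χ, hχ, hc, -⟩ := H597.ThreeDegB.exists_over N hψ
      rcases hdiv ψ χ hψ hχ hrd hc with h | h
      · exact hrx h.2
      · exact hry h.2
    rcases hprime ψ hψ hrd hψ1 with h | h
    · left
      rw [← h, Nat.mul_div_cancel_left _ (by omega)]
    · right
      rw [← h, Nat.mul_div_cancel_left _ (by omega)]
  by_cases hrx : r ∣ x
  · -- both divisible by `r`
    apply derived_four_of_comm N hF.le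
    refine two_degrees ⁅N, N⁆ (f := x) (g := y) fun χ hχ hov => ?_
    obtain ⟨ψ, hψ, hψ1, hc⟩ := hunder χ hχ hov
    have hrd : r ∣ charDegree ψ := by
      by_contra hrd
      rcases hprime ψ hψ hrd hψ1 with h | h
      · rw [← h] at hrx
        rcases hr.dvd_mul.1 hrx with h | h
        · exact hF.idx h
        · exact hrd h
      · rw [← h] at hry
        rcases hr.dvd_mul.1 hry with h | h
        · exact hF.idx h
        · exact hrd h
    rcases hdiv ψ χ hψ hχ hrd hc with h | h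
    · exact Or.inl h.1
    · exact Or.inr h.1
  -- only `y` divisible by `r`
  by_cases hall : ∀ ψ : N → ℂ, IsIrrCharacter N ψ → charDegree ψ ≠ 1 → r ∣ charDegree ψ
  · apply derived_four_of_comm N hF.le
    have h1 : ⁅⁅N, N⁆, ⁅N, N⁆⁆ = ⊥ := by
      refine one_degree ⁅N, N⁆ (f := y) fun χ hχ hov => ?_
      obtain ⟨ψ, hψ, hψ1, hc⟩ := hunder χ hχ hov
      rcases hdiv ψ χ hψ hχ (hall ψ hψ hψ1) hc with h | h
      · exact absurd h.2 hrx
      · exact h.1
    rw [h1]
    simp
  push Not at hall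
  obtain ⟨ψ₀, hψ₀, hψ₀1, hψ₀r⟩ := hall
  have hnoty : ∀ ψ : N → ℂ, ¬ r ∣ charDegree ψ → N.index * charDegree ψ ≠ y := by
    intro ψ hrd h
    rw [← h] at hry
    rcases hr.dvd_mul.1 hry with h | h
    · exact hF.idx h
    · exact hrd h
  have hx : N.index * charDegree ψ₀ = x :=
    (hprime ψ₀ hψ₀ hψ₀r hψ₀1).resolve_right (hnoty ψ₀ hψ₀r)
  have hcop : Nat.Coprime N.index y := by
    by_contra hcon
    obtain ⟨p, hp, hpd⟩ := Nat.exists_prime_and_dvd (n := Nat.gcd N.index y) hcon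
    obtain ⟨χ, hχ, hχ1, hχp⟩ := hP p hp
    have hpN : p ∣ N.index := hpd.trans (Nat.gcd_dvd_left _ _)
    have hpy : p ∣ y := hpd.trans (Nat.gcd_dvd_right _ _)
    rcases hcd χ hχ with h | h | h | h
    · exact hχ1 h
    · exact hχp (h ▸ hpN)
    · exact hχp (h ▸ hx ▸ Dvd.dvd.mul_right hpN _)
    · exact hχp (h ▸ hpy)
  refine derived_four_of_le N hF.le (H597.ThreeDegB.solvable_case inferInstance (x / N.index) y
    fun ψ hψ => ?_)
  by_cases hψ1 : charDegree ψ = 1
  · exact Or.inl hψ1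
  right
  by_cases hrd : r ∣ charDegree ψ
  · right
    obtain ⟨χ, hχ, hc, -⟩ := H597.ThreeDegB.exists_over N hψ
    have h1 : charDegree χ = y := by
      rcases hdiv ψ χ hψ hχ hrd hc with h | h
      · exact absurd h.2 hrx
      · exact h.1
    obtain ⟨c, hc1, hc2⟩ := hc
    have h2 : c ∣ y := by
      rw [← h1, hc1]
      exact dvd_mul_left _ _
    have h3 : c = 1 := Nat.eq_one_of_dvd_coprimes hcop hc2 h2
    rw [← h1, hc1, h3, mul_one]
  · left
    have h1 := (hprime ψ hψ hrd hψ1).resolve_right (hnoty ψ hrd)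
    rw [← h1, Nat.mul_div_cancel_left _ (by omega)]

/-- The Frobenius case. -/
theorem case_frob [Finite G] [Group.IsSolvable G] {r x y : ℕ} (hr : r.Prime)
    (K N : Subgroup G) [K.Normal] [N.Normal] (hF : FrobQ K N r)
    (hcd : ∀ χ : G → ℂ, IsIrrCharacter G χ →
      charDegree χ = 1 ∨ charDegree χ = N.index ∨ charDegree χ = x ∨ charDegree χ = y)
    (hP : ∀ p : ℕ, p.Prime → ∃ χ : G → ℂ, IsIrrCharacter G χ ∧ charDegree χ ≠ 1 ∧
      ¬ p ∣ charDegree χ) : derivedSeries G 4 = ⊥ := by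
  by_cases hy : r ∣ y
  · exact case_frob_aux hr K N hF hcd hP fun _ => hy
  · refine case_frob_aux (x := y) (y := x) hr K N hF (fun χ hχ => ?_) hP fun h => absurd h hy
    rcases hcd χ hχ with h | h | h | h
    · exact Or.inl h
    · exact Or.inr (Or.inl h)
    · exact Or.inr (Or.inr (Or.inr h))
    · exact Or.inr (Or.inr (Or.inl h))

end Cfsg.Agent.H598.FourFrob
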