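import Mathlib
import Cfsg.Agent.H598.FourFrob
import Cfsg.Agent.H597.ThreeDegA
import Cfsg.Agent.S4456
import Cfsg.Prelude.Def_DegreeGraph

/-!
# Four character degrees: a prime dividing all nonlinear degrees
-/

set_option autoImplicit false

namespace Cfsg.Agent.H598.FourPrime

open Cfsg Cfsg.Agent Cfsg.Agent.Characters Cfsg.Agent.Characters.Core
open Cfsg.Agent.H597.Base Cfsg.Agent.H598.FourCore Cfsg.Agent.H598.FourRel Subgroup
open Cfsg.Agent.H598.FourT2 Cfsg.Agent.H598.FourFrob
open Cfsg.Agent.Blocks.Basic (charDegree_of_eq irr_one_eq_charDegree charDegree_pos)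
open scoped ComplexConjugate

universe u

variable {G : Type u} [Group G]

theorem mem_cds {χ : G → ℂ} (hχ : IsIrrCharacter G χ) : charDegree χ ∈ charDegrees G :=
  ⟨⟨χ, hχ⟩, rfl⟩

theorem finite_cds [Finite G] : (charDegrees G).Finite := by
  have := finite_irr (G := G)
  exact Set.finite_range fun χ : IrrCharacter G => charDegree (χ : G → ℂ)

theorem one_mem_cds [Finite G] : 1 ∈ charDegrees G := by
  have h : charDegree (1 : G → ℂ) = 1 := charDegree_of_eq (by simp)
  rw [← h]
  exact mem_cds isIrr_one

/-- Derived length at most the number of degrees, when this number is at most three. -/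
theorem dl_le_three [Finite G] [Group.IsSolvable G] {n : ℕ} (hn : n ≤ 3)
    (h : (charDegrees G).ncard ≤ n) : derivedSeries G n = ⊥ := by
  classical
  have hpos : 0 < (charDegrees G).ncard :=
    (Set.ncard_pos finite_cds).2 ⟨1, one_mem_cds⟩
  have hrest : (charDegrees G \ {1}).ncard ≤ n - 1 := by
    have := Set.ncard_sdiff_singleton_of_mem (one_mem_cds (G := G))
    omega
  have hfin : (charDegrees G \ {1}).Finite := finite_cds.subset Set.sdiff_subset
  have hcases : n = 1 ∨ n = 2 ∨ n = 3 := by omega
  rcases hcases with rfl | rfl | rfl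
  · have h1 : charDegrees G \ {1} = ∅ := (Set.ncard_eq_zero hfin).1 (by omega)
    rw [derivedSeries_one]
    apply H597.ThreeDegA.commutator_eq_bot
    intro χ hχ
    by_contra hne
    have h2 : charDegree χ ∈ charDegrees G \ {1} := ⟨mem_cds hχ, hne⟩
    rw [h1] at h2
    exact h2
  · have h1 : ∀ a ∈ charDegrees G \ {1}, ∀ b ∈ charDegrees G \ {1}, a = b :=
      (Set.ncard_le_one hfin).1 hrest
    by_cases hex : ∃ m, m ∈ charDegrees G \ {1}
    · obtain ⟨m, hm⟩ := hex
      apply H597.ThreeDegA.derived_two m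
      intro χ hχ
      by_cases hne : charDegree χ = 1
      · exact Or.inl hne
      · exact Or.inr (h1 _ ⟨mem_cds hχ, hne⟩ _ hm)
    · push Not at hex
      apply H597.ThreeDegA.derived_two 1
      intro χ hχ
      by_contra hne
      push Not at hne
      exact hex _ ⟨mem_cds hχ, hne.1⟩
  · by_cases hex : ∃ m, m ∈ charDegrees G \ {1}
    · obtain ⟨m, hm⟩ := hex
      by_cases hex' : ∃ m', m' ∈ charDegrees G \ {1} ∧ m' ≠ m
      · obtain ⟨m', hm', hne'⟩ := hex'
        apply H597.ThreeDegB.solvable_case inferInstance m m'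
        intro χ hχ
        by_contra hne
        push Not at hne
        have h2 : ({m, m', charDegree χ} : Finset ℕ).card = 3 := by
          rw [Finset.card_eq_three]
          exact ⟨m, m', charDegree χ, hne'.symm, hne.2.1.symm, hne.2.2.symm, rfl⟩
        have h3 : (({m, m', charDegree χ} : Finset ℕ) : Set ℕ) ⊆ charDegrees G \ {1} := by
          intro z hz
          simp only [Finset.coe_insert, Finset.coe_singleton, Set.mem_insert_iff,
            Set.mem_singleton_iff] at hz
          rcases hz with rfl | rfl | rfl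
          · exact hm
          · exact hm'
          · exact ⟨mem_cds hχ, hne.1⟩
        have h4 := Set.ncard_le_ncard h3 hfin
        rw [Set.ncard_coe_finset, h2] at h4
        omega
      · push Not at hex'
        apply H597.ThreeDegB.solvable_case inferInstance m m
        intro χ hχ
        by_cases hne : charDegree χ = 1
        · exact Or.inl hne
        · exact Or.inr (Or.inl (hex' _ ⟨mem_cds hχ, hne⟩))
    · push Not at hex
      apply H597.ThreeDegB.solvable_case inferInstance 1 1
      intro χ hχ
      by_contra hne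
      push Not at hne
      exact hex _ ⟨mem_cds hχ, hne.1⟩

theorem derivedSeries_le_map' (N : Subgroup G) {s : ℕ} (hs : derivedSeries G s ≤ ⁅N, N⁆) (k : ℕ) :
    derivedSeries G (s + k) ≤ (derivedSeries N (k + 1)).map N.subtype := by
  induction k with
  | zero =>
    rw [zero_add, add_zero, derivedSeries_one, _root_.commutator_def, map_commutator,
      ← MonoidHom.range_eq_map, range_subtype]
    exact hs
  | succ k ih =>
    show ⁅derivedSeries G (s + k), derivedSeries G (s + k)⁆ ≤
      (⁅derivedSeries N (k + 1), derivedSeries N (k + 1)⁆).map N.subtype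
    rw [map_commutator]
    exact commutator_mono ih ih

/-- The case where a prime divides all nonlinear degrees. -/
theorem case_p1 [Finite G] [Group.IsSolvable G] {p : ℕ} (hp : p.Prime)
    (hdiv : ∀ χ : G → ℂ, IsIrrCharacter G χ → charDegree χ ≠ 1 → p ∣ charDegree χ)
    (hcd : (charDegrees G).ncard ≤ 4)
    (ih : ∀ N : Subgroup G, N ≠ ⊤ → (charDegrees N).ncard ≤ 4 → derivedSeries N 4 = ⊥) :
    derivedSeries G 4 = ⊥ := by
  classical
  have := Fact.mk hp
  have := Fintype.ofFinite G
  obtain ⟨N, hN, hNp, k, hk⟩ := Cfsg.Agent.S4456.result p hp (fun χ hχ => hdiv _ χ.2 hχ)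
  by_cases hNt : N = ⊤
  · -- `G` is abelian
    have h1 : commutator G = ⊥ := by
      apply H597.ThreeDegA.commutator_eq_bot
      intro χ hχ
      by_contra hne
      have h2 := (hdiv χ hχ hne).trans (H597.Degrees.charDegree_dvd_card hχ)
      rw [hNt, card_top] at hNp
      exact hp.one_lt.ne' (Nat.Coprime.eq_one_of_dvd hNp.symm h2)
    rw [eq_bot_iff, ← h1, ← derivedSeries_one]
    exact derivedSeries_antitone G (by norm_num)
  set Pp : Set ℕ := {n | n ∈ charDegrees G ∧ ∃ j, n = p ^ j} with hPp
  have hPsub : Pp ⊆ charDegrees G := fun n hn => hn.1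
  have hPfin : Pp.Finite := finite_cds.subset hPsub
  have hs1 : 1 ≤ Pp.ncard := (Set.ncard_pos hPfin).2 ⟨1, one_mem_cds, 0, by rw [pow_zero]⟩
  have hRfin : (charDegrees G \ Pp).Finite := finite_cds.subset Set.sdiff_subset
  have hsum : (charDegrees G \ Pp).ncard + Pp.ncard ≤ 4 := by
    rw [Set.ncard_sdiff_add_ncard_of_subset hPsub finite_cds]
    exact hcd
  -- the degrees of `N`
  have hNc : (charDegrees N).ncard ≤ (charDegrees G \ Pp).ncard + 1 := by
    have h1 : charDegrees N \ {1} ⊆ (fun n => n / p ^ n.factorization p) '' (charDegrees G \ Pp) := by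
      rintro d ⟨⟨ψ, rfl⟩, hd⟩
      obtain ⟨χ, hχ, ⟨c, hc, hc'⟩, -⟩ := H597.ThreeDegB.exists_over N ψ.2
      rw [hk] at hc'
      obtain ⟨i, -, rfl⟩ := (Nat.dvd_prime_pow hp).1 hc'
      have h2 : (charDegree (ψ : N → ℂ)).Coprime p :=
        Nat.Coprime.coprime_dvd_left (H597.Degrees.charDegree_dvd_card ψ.2) hNp
      have h3 : ¬ p ∣ charDegree (ψ : N → ℂ) := (hp.coprime_iff_not_dvd).1 h2.symm
      have hpos := charDegree_pos ψ.2
      refine ⟨charDegree χ, ⟨mem_cds hχ, ?_⟩, ?_⟩
      · rintro ⟨-, j, hj⟩
        apply hd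
        have h4 : charDegree (ψ : N → ℂ) ∣ p ^ j := by
          rw [← hj, hc]
          exact dvd_mul_right _ _
        exact (Nat.Coprime.pow_right j h2).eq_one_of_dvd h4
      · have h4 : (charDegree χ).factorization p = i := by
          rw [hc, Nat.factorization_mul hpos.ne' (pow_ne_zero _ hp.ne_zero), Finsupp.add_apply,
            Nat.factorization_eq_zero_of_not_dvd h3, zero_add, hp.factorization_pow,
            Finsupp.single_eq_same]
        show charDegree χ / p ^ (charDegree χ).factorization p = _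
        rw [h4, hc, Nat.mul_div_cancel _ (pow_pos hp.pos i)]
    have h2 := (Set.ncard_le_ncard h1 (hRfin.image _)).trans (Set.ncard_image_le hRfin)
    have h3 := Set.ncard_sdiff_singleton_add_one (one_mem_cds (G := N)) finite_cds
    omega
  -- the quotient
  have hG : derivedSeries G Pp.ncard ≤ ⁅N, N⁆ := by
    set π := QuotientGroup.mk' ⁅N, N⁆ with hπ
    have hπs : Function.Surjective π := QuotientGroup.mk'_surjective _
    have hNn : (N.map π).Normal := hN.map π hπs
    have hcomm : ∀ a ∈ N.map π, ∀ b ∈ N.map π, a * b = b * a := by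
      rintro _ ⟨a, ha, rfl⟩ _ ⟨b, hb, rfl⟩
      have h1 : π (a * b * a⁻¹ * b⁻¹) = 1 :=
        (QuotientGroup.eq_one_iff _).2 (commutator_mem_commutator ha hb)
      rw [map_mul, map_mul, map_mul, map_inv, map_inv, mul_inv_eq_one, mul_inv_eq_iff_eq_mul] at h1
      exact h1
    have hidx : (N.map π).index = p ^ k := by
      rw [← hk]
      apply Subgroup.index_map_eq N hπs
      rw [QuotientGroup.ker_mk']
      exact commutator_le_left N N
    have hnil : Group.IsNilpotent ((G ⧸ ⁅N, N⁆) ⧸ N.map π) :=
      (IsPGroup.of_card (p := p) (n := k) (by rw [← index_eq_card]; exact hidx)).isNilpotent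
    have := Fintype.ofFinite (G ⧸ ⁅N, N⁆)
    have h1 : derivedSeries (G ⧸ ⁅N, N⁆) Pp.ncard = ⊥ := by
      apply H597.Taketa.derivedSeries_eq_bot
      · intro χ hχ
        obtain ⟨H, f, -, hf⟩ := H597.Taketa.exists_linear_of_abelian_nilpotent (N.map π) hcomm hnil hχ
        exact ⟨H, f, hf⟩
      · have hsub : {n : ℕ | ∃ χ : IrrCharacter (G ⧸ ⁅N, N⁆),
            charDegree (χ : (G ⧸ ⁅N, N⁆) → ℂ) = n} ⊆ Pp := by
          rintro _ ⟨χ, rfl⟩
          refine ⟨?_, ?_⟩
          · rw [← charDegree_comp_mk _ χ.2]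
            exact mem_cds (isIrr_comp _ hπs χ.2)
          · obtain ⟨ψ, hψ, ⟨c, hc, hc'⟩, -⟩ := H597.ThreeDegB.exists_under (N.map π) χ.2
            have h2 : charDegree ψ = 1 := by
              apply charDegree_of_eq
              rw [H597.Taketa.irr_apply_one_of_comm hψ (fun a b =>
                Subtype.ext (hcomm a a.2 b b.2)), Nat.cast_one]
            rw [h2, one_mul] at hc
            rw [hidx] at hc'
            obtain ⟨i, -, hi⟩ := (Nat.dvd_prime_pow hp).1 hc'
            exact ⟨i, hc.trans hi⟩
        exact Set.ncard_le_ncard hsub hPfin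
    rw [← map_derivedSeries_eq hπs, Subgroup.map_eq_bot_iff, QuotientGroup.ker_mk'] at h1
    exact h1
  -- the normal complement
  have hNd : derivedSeries N (4 - Pp.ncard + 1) = ⊥ := by
    by_cases hs : Pp.ncard = 1
    · rw [hs]
      exact ih N hNt (by omega)
    · apply dl_le_three (by omega)
      omega
  have h1 := derivedSeries_le_map' N hG (4 - Pp.ncard)
  rw [hNd, Subgroup.map_bot, show Pp.ncard + (4 - Pp.ncard) = 4 by omega] at h1
  exact le_bot_iff.1 h1

end Cfsg.Agent.H598.FourPrime
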