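import Mathlib
import Cfsg.Agent.H598.FourPrime
import Cfsg.Agent.CharactersDeep.BergerGroup
import Cfsg.Agent.Characters.Ito

/-!
# Four character degrees: the minimal nonnilpotent quotient
-/

set_option autoImplicit false

namespace Cfsg.Agent.H598.FourQuot

open Cfsg Cfsg.Agent Cfsg.Agent.Characters Cfsg.Agent.Characters.Core
open Cfsg.Agent.H597.Base Cfsg.Agent.H598.FourCore Cfsg.Agent.H598.FourRel Subgroup
open Cfsg.Agent.H598.FourT2 Cfsg.Agent.H598.FourFrob Cfsg.Agent.H598.FourPrime
open Cfsg.Agent.Blocks.Basic (charDegree_of_eq irr_one_eq_charDegree charDegree_pos)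
open scoped ComplexConjugate

universe u

variable {Q : Type u} [Group Q]

/-- A nonabelian normal section over the abelian self-centralizing normal subgroup. -/
theorem commutator_le_of_degrees [Finite Q] (U M : Subgroup Q) (hU : IsCoatom U)
    (hcore : U.normalCore = ⊥) [hM : M.Normal] (hMab : ∀ x ∈ M, ∀ y ∈ M, x * y = y * x)
    (hMcard : Nat.card M = U.index) (hdec : ∀ g : Q, ∃ m ∈ M, ∃ h ∈ U, g = m * h)
    (hfaith : ∀ V : Subgroup Q, V ≤ U → (∀ h ∈ U, ∀ u ∈ V, h * u * h⁻¹ ∈ V) →
        (∀ m ∈ M, ∀ u ∈ V, m * u = u * m) → V = ⊥) :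
    (∀ g : Q, (∀ m ∈ M, g * m = m * g) → g ∈ M) ∧
      (∀ R : Subgroup Q, R.Normal → R ≠ ⊥ → M ≤ R) := by
  classical
  have h1 : ∀ g : Q, (∀ m ∈ M, g * m = m * g) → g ∈ M := by
    intro g hg
    let V : Subgroup Q :=
      { carrier := {u | u ∈ U ∧ ∀ m ∈ M, u * m = m * u}
        mul_mem' := fun {a b} ha hb => ⟨U.mul_mem ha.1 hb.1, fun m hm => by
          rw [mul_assoc, hb.2 m hm, ← mul_assoc, ha.2 m hm, mul_assoc]⟩
        one_mem' := ⟨U.one_mem, fun m _ => by rw [one_mul, mul_one]⟩
        inv_mem' := fun {a} ha => ⟨U.inv_mem ha.1, fun m hm => by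
          rw [inv_mul_eq_iff_eq_mul, ← mul_assoc, ha.2 m hm, mul_inv_cancel_right]⟩ }
    have hV : V = ⊥ := by
      refine hfaith V (fun u hu => hu.1) ?_ (fun m hm u hu => (hu.2 m hm).symm)
      intro h hh u hu
      refine ⟨U.mul_mem (U.mul_mem hh hu.1) (U.inv_mem hh), fun m hm => ?_⟩
      have h2 : h⁻¹ * m * h ∈ M := by
        have := hM.conj_mem m hm h⁻¹
        rwa [inv_inv] at this
      have h3 := hu.2 _ h2
      calc h * u * h⁻¹ * m = h * (u * (h⁻¹ * m * h)) * h⁻¹ := by group
        _ = h * ((h⁻¹ * m * h) * u) * h⁻¹ := by rw [h3]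
        _ = m * (h * u * h⁻¹) := by group
    obtain ⟨m, hm, h, hh, rfl⟩ := hdec g
    have h2 : h ∈ V := by
      refine ⟨hh, fun n hn => ?_⟩
      have h3 := hg n hn
      have h4 := hMab m hm n hn
      have h5 : m * (h * n) = m * (n * h) := by
        calc m * (h * n) = m * h * n := by group
          _ = n * (m * h) := h3
          _ = n * m * h := by group
          _ = m * n * h := by rw [h4]
          _ = m * (n * h) := by group
      exact mul_left_cancel h5
    rw [hV, mem_bot] at h2
    rw [h2, mul_one]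
    exact hm
  refine ⟨h1, fun R hR hRb => ?_⟩
  -- `R ∩ M ≠ 1`
  have hI : R ⊓ M ≠ ⊥ := by
    intro hI
    apply hRb
    rw [Subgroup.eq_bot_iff_forall]
    intro r hr
    have h2 : r ∈ M := by
      apply h1
      intro m hm
      have h3 : r * m * r⁻¹ * m⁻¹ ∈ R ⊓ M := by
        constructor
        · have := R.mul_mem hr (hR.conj_mem _ (R.inv_mem hr) m)
          have e : r * (m * r⁻¹ * m⁻¹) = r * m * r⁻¹ * m⁻¹ := by group
          rwa [e] at this
        · exact M.mul_mem (hM.conj_mem m hm r) (M.inv_mem hm)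
      rw [hI, mem_bot, mul_inv_eq_one, mul_inv_eq_iff_eq_mul] at h3
      exact h3
    have h3 : r ∈ R ⊓ M := ⟨hr, h2⟩
    rw [hI, mem_bot] at h3
    exact h3
  set R' := R ⊓ M with hR'
  have hR'n : R'.Normal := inferInstance
  have hnot : ¬ R' ≤ U := by
    intro hle
    have h2 : R' ≤ U.normalCore := (Subgroup.normal_le_normalCore).2 hle
    rw [hcore] at h2
    exact hI (le_bot_iff.1 h2)
  have hsup : U ⊔ R' = ⊤ := by
    rcases hU.le_iff.1 (le_sup_left : U ≤ U ⊔ R') with h | h
    · exact h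
    · exact absurd (h ▸ le_sup_right) hnot
  have h2 : U.index ≤ Nat.card R' := by
    have h3 : R'.relIndex (U ⊔ R') = R'.relIndex U := relIndex_sup_right _ _
    rw [hsup, relIndex_top_right] at h3
    have h4 := R'.index_mul_card
    have h5 := U.index_mul_card
    have h6 : R'.relIndex U ∣ Nat.card U := by
      rw [relIndex]
      exact index_dvd_card _
    have h7 := Nat.le_of_dvd Nat.card_pos h6
    rw [h3] at h4
    have h8 : 0 < Nat.card U := Nat.card_pos
    nlinarith
  have h3 : Nat.card R' = Nat.card M := by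
    apply le_antisymm
    · exact Nat.le_of_dvd Nat.card_pos (card_dvd_of_le inf_le_right)
    · rw [hMcard]; exact h2
  have h4 : R' = M := Subgroup.eq_of_le_of_card_ge inf_le_right h3.ge
  rw [← h4]
  exact inf_le_left

/-- The commutator of a normal subgroup with `v`-power index over `M`. -/
theorem comm_le_of_prime [Finite Q] (M : Subgroup Q) [hM : M.Normal]
    (hMab : ∀ x ∈ M, ∀ y ∈ M, x * y = y * x) (hcent : ∀ g : Q, (∀ m ∈ M, g * m = m * g) → g ∈ M)
    (hmin : ∀ R : Subgroup Q, R.Normal → R ≠ ⊥ → M ≤ R) {v k b : ℕ} (hv : v.Prime)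
    (hvb : ¬ v ∣ b)
    (hcd : ∀ χ : Q → ℂ, IsIrrCharacter Q χ → charDegree χ = 1 ∨ charDegree χ = v ^ k ∨
      charDegree χ = b ∨ charDegree χ = b * v ^ k) (H : Subgroup Q) [hH : H.Normal]
    (hHi : ¬ v ∣ H.index) (hrel : ∃ j, M.relIndex H = v ^ j) : ⁅H, H⁆ ≤ M := by
  classical
  obtain ⟨j, hj⟩ := hrel
  have h1 : derivedSeries H 2 = ⊥ := by
    apply H597.ThreeDegA.derived_two (v ^ k)
    intro ζ hζ
    obtain ⟨i, hi⟩ : ∃ i, charDegree ζ = v ^ i := by
      obtain ⟨ψ, hψ, ⟨c, hc, hc'⟩, -⟩ := H597.ThreeDegB.exists_under (M.subgroupOf H) hζ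
      have h2 : charDegree ψ = 1 := by
        apply charDegree_of_eq
        rw [H597.Taketa.irr_apply_one_of_comm hψ (fun a b =>
          Subtype.ext (Subtype.ext (hMab _ (mem_subgroupOf.1 a.2) _ (mem_subgroupOf.1 b.2)))),
          Nat.cast_one]
      rw [h2, one_mul] at hc
      have hc2 : c ∣ v ^ j := by
        rw [← hj]
        exact hc'
      obtain ⟨i, -, hi⟩ := (Nat.dvd_prime_pow hv).1 hc2
      exact ⟨i, hc.trans hi⟩
    obtain ⟨χ, hχ, ⟨c, hc, hc'⟩, -⟩ := H597.ThreeDegB.exists_over H hζ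
    have hvc : ¬ v ∣ c := fun h => hHi (h.trans hc')
    have hcop : ∀ i : ℕ, Nat.Coprime (v ^ i) c := fun i =>
      Nat.Coprime.pow_left _ ((hv.coprime_iff_not_dvd).2 hvc)
    have hcopb : ∀ i : ℕ, Nat.Coprime (v ^ i) b := fun i =>
      Nat.Coprime.pow_left _ ((hv.coprime_iff_not_dvd).2 hvb)
    rcases hcd χ hχ with h | h | h | h
    · left
      rw [hc] at h
      exact Nat.eq_one_of_mul_eq_one_right h
    · right
      rw [hc, hi] at h
      have h2 : c = 1 := by
        have h3 : c ∣ v ^ k := by rw [← h]; exact dvd_mul_left _ _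
        exact Nat.Coprime.eq_one_of_dvd (hcop k).symm h3
      rw [hi, ← h, h2, mul_one]
    · left
      rw [hc, hi] at h
      have h2 : v ^ i ∣ b := by rw [← h]; exact dvd_mul_right _ _
      rw [hi]
      exact Nat.Coprime.eq_one_of_dvd (hcopb i) h2
    · right
      rw [hc, hi] at h
      rw [hi]
      apply Nat.dvd_antisymm
      · have h2 : v ^ i ∣ b * v ^ k := by rw [← h]; exact dvd_mul_right _ _
        exact (hcopb i).dvd_of_dvd_mul_left h2
      · have h2 : v ^ k ∣ v ^ i * c := by rw [h]; exact dvd_mul_left _ _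
        exact (hcop k).dvd_of_dvd_mul_right h2
  have h2 := H597.ThreeDegB.bot_of_derived H h1
  by_cases hA : ⁅H, H⁆ = ⊥
  · rw [hA]; exact bot_le
  have h3 := hmin ⁅H, H⁆ inferInstance hA
  intro a ha
  apply hcent
  intro m hm
  have h4 : a * m * a⁻¹ * m⁻¹ ∈ ⁅⁅H, H⁆, ⁅H, H⁆⁆ := commutator_mem_commutator ha (h3 hm)
  rw [h2, mem_bot, mul_inv_eq_one, mul_inv_eq_iff_eq_mul] at h4
  exact h4

/-- A nonabelian Sylow subgroup of a nilpotent group, as a quotient. -/
theorem exists_nonabelian_sylow {Y : Type u} [Group Y] [Finite Y] (hY : Group.IsNilpotent Y)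
    (hna : ∃ a b : Y, a * b ≠ b * a) : ∃ (v : ℕ) (_ : v.Prime) (P : Subgroup Y), IsPGroup v P ∧
      ¬ v ∣ P.index ∧ P.Normal ∧ (∃ a ∈ P, ∃ b ∈ P, a * b ≠ b * a) ∧
      ∃ φ : Y →* P, Function.Surjective φ := by
  classical
  obtain ⟨e⟩ := ((Group.isNilpotent_of_finite_tfae (G := Y)).out 0 4).1 hY
  have hn := ((Group.isNilpotent_of_finite_tfae (G := Y)).out 0 3).1 hY
  by_contra hcon
  push Not at hcon
  obtain ⟨a, b, hab⟩ := hna
  apply hab
  apply e.symm.injective
  rw [map_mul, map_mul]
  funext p P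
  have hp : Fact (p : ℕ).Prime := ⟨Nat.prime_of_mem_primeFactors p.2⟩
  by_contra hne
  have hsurj : ∀ y : (P : Subgroup Y), ∃ x : Y, e.symm x p P = y := by
    intro y
    refine ⟨e (Function.update 1 p (Function.update 1 P y)), ?_⟩
    rw [MulEquiv.symm_apply_apply, Function.update_self, Function.update_self]
  let φ : Y →* (P : Subgroup Y) :=
    ((Pi.evalMonoidHom _ P).comp (Pi.evalMonoidHom _ p)).comp e.symm.toMonoidHom
  have h1 := hcon p hp.out (P : Subgroup Y) P.2 P.not_dvd_index (hn p hp P)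
  by_cases h2 : ∃ a ∈ (P : Subgroup Y), ∃ b ∈ (P : Subgroup Y), a * b ≠ b * a
  · exact h1 h2 φ (fun y => hsurj y)
  · push Not at h2
    apply hne
    exact Subtype.ext (h2 _ (e.symm a p P).2 _ (e.symm b p P).2)

/-- A core-free maximal subgroup of a minimal nonnilpotent group. -/
theorem exists_coreFree [Finite Q] (hQ : ¬ Group.IsNilpotent Q)
    (hmax : ∀ (R : Subgroup Q) [R.Normal], R ≠ ⊥ → Group.IsNilpotent (Q ⧸ R)) :
    ∃ U : Subgroup Q, IsCoatom U ∧ U.normalCore = ⊥ := by
  obtain ⟨U, hU, hUn⟩ : ∃ U : Subgroup Q, IsCoatom U ∧ ¬ U.Normal := by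
    by_contra hcon
    push Not at hcon
    exact hQ (((Group.isNilpotent_of_finite_tfae (G := Q)).out 0 2).2 hcon)
  refine ⟨U, hU, ?_⟩
  by_contra hcore
  apply hUn
  set R := U.normalCore with hR
  have hRU : R ≤ U := U.normalCore_le
  have h1 := ((Group.isNilpotent_of_finite_tfae (G := Q ⧸ R)).out 0 2).1 (hmax R hcore)
  have hcm : (U.map (QuotientGroup.mk' R)).comap (QuotientGroup.mk' R) = U := by
    rw [comap_map_eq, QuotientGroup.ker_mk', sup_eq_left.2 hRU]
  have h2 : IsCoatom (U.map (QuotientGroup.mk' R)) := by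
    constructor
    · intro h
      rw [h, comap_top] at hcm
      exact hU.1 hcm.symm
    · intro W hW
      have h3 : U < W.comap (QuotientGroup.mk' R) := by
        refine lt_of_le_of_ne ?_ ?_
        · rw [← map_le_iff_le_comap]
          exact hW.le
        · intro h
          have h4 := congrArg (Subgroup.map (QuotientGroup.mk' R)) h
          rw [map_comap_eq_self_of_surjective (QuotientGroup.mk'_surjective R)] at h4
          exact hW.ne h4
      have h4 := hU.2 _ h3
      rw [← map_comap_eq_self_of_surjective (QuotientGroup.mk'_surjective R) W, h4,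
        Subgroup.map_top_of_surjective _ (QuotientGroup.mk'_surjective R)]
  have h3 := (h1 _ h2).comap (QuotientGroup.mk' R)
  rwa [hcm] at h3

/-- The quotient structure. -/
theorem quot_comm {G : Type u} [Group G] [Finite G] [Group.IsSolvable G] (K : Subgroup G)
    [hKn : K.Normal] (hK : ¬ Group.IsNilpotent (G ⧸ K))
    (hmax : ∀ (L : Subgroup G) [L.Normal], K < L → Group.IsNilpotent (G ⧸ L))
    (hP : ∀ p : ℕ, p.Prime → ∃ χ : G → ℂ, IsIrrCharacter G χ ∧ charDegree χ ≠ 1 ∧
      ¬ p ∣ charDegree χ) (hcd : (charDegrees G).ncard ≤ 4) (L : Subgroup G) (hL : L.Normal)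
    (hKL : K < L) : commutator G ≤ L := by
  classical
  have := Fintype.ofFinite G
  set π := QuotientGroup.mk' K with hπ
  have hπs : Function.Surjective π := QuotientGroup.mk'_surjective K
  have hker : π.ker = K := QuotientGroup.ker_mk' K
  have hQmax : ∀ (R : Subgroup (G ⧸ K)) [R.Normal], R ≠ ⊥ → Group.IsNilpotent ((G ⧸ K) ⧸ R) := by
    intro R hR hRb
    have h1 : K < R.comap π := by
      refine lt_of_le_of_ne ?_ ?_
      · intro x hx
        rw [mem_comap]
        have h2 : π x = 1 := (QuotientGroup.eq_one_iff x).2 hx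
        rw [h2]
        exact R.one_mem
      · intro h
        apply hRb
        rw [← map_comap_eq_self_of_surjective hπs R, ← h, Subgroup.map_eq_bot_iff, hker]
    have h2 := hmax (R.comap π) h1
    refine Group.nilpotent_of_surjective (QuotientGroup.map (R.comap π) R π le_rfl) ?_
    intro y
    induction y using QuotientGroup.induction_on with
    | H y =>
    obtain ⟨x, rfl⟩ := hπs y
    exact ⟨(x : G ⧸ R.comap π), rfl⟩
  obtain ⟨U, hU, hcore⟩ := exists_coreFree hK hQmax
  obtain ⟨r, M, hr, hM, hMb, hMab, hMr, hMcard, hdec, hfaith, -⟩ :=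
    CharactersDeep.BergerGroup.exists_setup_coreFree U hU hcore
  obtain ⟨hcent, hmin⟩ := commutator_le_of_degrees U M hU hcore hMab hMcard hdec hfaith
  have hkey : ∀ a b : G ⧸ K, a * b * a⁻¹ * b⁻¹ ∈ M := by
    by_contra hcon
    push Not at hcon
    obtain ⟨a, b, hab⟩ := hcon
    obtain ⟨v, hv, P, hPp, hPi, hPn, ⟨s, hs, t, ht, hst⟩, φ, hφ⟩ := exists_nonabelian_sylow
      (hQmax M hMb) ⟨(a : (G ⧸ K) ⧸ M), b, fun h => hab (by
        rw [← QuotientGroup.eq_one_iff (N := M), QuotientGroup.mk_mul, QuotientGroup.mk_mul,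
          QuotientGroup.mk_mul, QuotientGroup.mk_inv, QuotientGroup.mk_inv, mul_inv_eq_one,
          mul_inv_eq_iff_eq_mul]
        exact h)⟩
    have := Fact.mk hv
    obtain ⟨n, hn⟩ := IsPGroup.iff_card.1 hPp
    -- the characters
    obtain ⟨θ, hθ, hθ1⟩ : ∃ θ : P → ℂ, IsIrrCharacter P θ ∧ charDegree θ ≠ 1 := by
      by_contra hcon
      push Not at hcon
      exact hst (congrArg Subtype.val (H597.Degrees.comm_of_forall_one hcon ⟨s, hs⟩ ⟨t, ht⟩))
    obtain ⟨k, hk⟩ := FourFour.degree_pow hv hPp hθ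
    let f : G →* P := (φ.comp (QuotientGroup.mk' M)).comp π
    have hf : Function.Surjective f :=
      (hφ.comp (QuotientGroup.mk'_surjective M)).comp hπs
    have hθf : IsIrrCharacter G (θ ∘ f) := isIrr_comp f hf hθ
    have hθfd : charDegree (θ ∘ f) = v ^ k := by
      rw [← hk]
      apply charDegree_of_eq
      rw [← irr_one_eq_charDegree hθ, Function.comp_apply, map_one]
    have hfi : f.ker.index = v ^ n := by
      rw [← hn, index_ker, MonoidHom.range_eq_top.2 hf, card_top]
    obtain ⟨χ, hχ, hχ1, hχv⟩ := hP v hv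
    have hres : IsIrrCharacter f.ker (fun x : f.ker => χ x) := by
      apply H597.Degrees.isIrr_restrict_of_coprime f.ker hχ
      rw [hfi]
      exact Nat.Coprime.pow_left _ ((hv.coprime_iff_not_dvd).2 hχv)
    have hprod : IsIrrCharacter G ((θ ∘ f) * χ) :=
      H597.FrobC.isIrr_mul_of_restrict f.ker hχ hres hθf (fun x hx => by
        rw [Function.comp_apply, Function.comp_apply, map_one, (show f x = 1 from hx)])
    have hprodd : charDegree ((θ ∘ f) * χ) = v ^ k * charDegree χ := by
      rw [H597.FrobC.charDegree_mul hχ hθf, hθfd]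
    set b₀ := charDegree χ with hb₀
    have hb₀pos : 0 < b₀ := charDegree_pos hχ
    have hk0 : k ≠ 0 := by
      rintro rfl
      exact hθ1 (by rw [hk, pow_zero])
    have hvk : 1 < v ^ k := Nat.one_lt_pow hk0 hv.one_lt
    have hall : charDegrees G = {1, v ^ k, b₀, b₀ * v ^ k} := by
      symm
      apply Set.eq_of_subset_of_ncard_le
      · intro z hz
        simp only [Set.mem_insert_iff, Set.mem_singleton_iff] at hz
        rcases hz with rfl | rfl | rfl | rfl
        · exact one_mem_cds
        · rw [← hθfd]; exact mem_cds hθf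
        · exact mem_cds hχ
        · rw [mul_comm, ← hprodd]; exact mem_cds hprod
      · refine hcd.trans ?_
        have h1 : b₀ ≠ v ^ k := by
          intro h
          apply hχv
          rw [h]
          exact dvd_pow_self v hk0
        have h2 : b₀ < b₀ * v ^ k := by nlinarith
        have h3 : v ^ k < b₀ * v ^ k := by
          have : 1 < b₀ := by omega
          nlinarith
        have h4 : ({1, v ^ k, b₀, b₀ * v ^ k} : Finset ℕ).card = 4 := by
          rw [Finset.card_insert_of_notMem, Finset.card_insert_of_notMem,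
            Finset.card_insert_of_notMem, Finset.card_singleton]
          · simp only [Finset.mem_singleton]; omega
          · simp only [Finset.mem_insert, Finset.mem_singleton]; omega
          · simp only [Finset.mem_insert, Finset.mem_singleton]; omega
        have h5 : ({1, v ^ k, b₀, b₀ * v ^ k} : Set ℕ) =
            (({1, v ^ k, b₀, b₀ * v ^ k} : Finset ℕ) : Set ℕ) := by
          simp
        rw [h5, Set.ncard_coe_finset, h4]
      · exact finite_cds
    -- the normal subgroup
    set H : Subgroup (G ⧸ K) := P.comap (QuotientGroup.mk' M) with hH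
    have hHn : H.Normal := hPn.comap _
    have hHi : ¬ v ∣ H.index := by
      rw [hH, index_comap_of_surjective _ (QuotientGroup.mk'_surjective M)]
      exact hPi
    have hrel : M.relIndex H = v ^ n := by
      have h1 := relIndex_ker H (QuotientGroup.mk' M)
      rw [hH, map_comap_eq_self_of_surjective (QuotientGroup.mk'_surjective M), hn] at h1
      have h2 : (QuotientGroup.mk' M).ker = M := QuotientGroup.ker_mk' M
      rw [← h1, hH]
      exact (congrArg (fun A : Subgroup (G ⧸ K) => A.relIndex (P.comap (QuotientGroup.mk' M)))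
        h2).symm
    have h1 := comm_le_of_prime M hMab hcent hmin hv hχv (k := k) (fun ζ hζ => by
      have h2 := mem_cds (isIrr_comp π hπs hζ)
      rw [charDegree_comp_mk K hζ, hall] at h2
      exact h2) H hHi ⟨n, hrel⟩
    apply hst
    obtain ⟨s', hs'⟩ := QuotientGroup.mk'_surjective M s
    obtain ⟨t', ht'⟩ := QuotientGroup.mk'_surjective M t
    have h2 : s' * t' * s'⁻¹ * t'⁻¹ ∈ ⁅H, H⁆ := commutator_mem_commutator
      (show QuotientGroup.mk' M s' ∈ P by rw [hs']; exact hs)
      (show QuotientGroup.mk' M t' ∈ P by rw [ht']; exact ht)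
    have h3 := (QuotientGroup.eq_one_iff (N := M) _).2 (h1 h2)
    rw [QuotientGroup.mk_mul, QuotientGroup.mk_mul, QuotientGroup.mk_mul, QuotientGroup.mk_inv,
      QuotientGroup.mk_inv, mul_inv_eq_one, mul_inv_eq_iff_eq_mul] at h3
    rw [← hs', ← ht']
    exact h3
  -- conclusion
  have hLn : (L.map π).Normal := hL.map π hπs
  have hLb : L.map π ≠ ⊥ := by
    rw [Ne, Subgroup.map_eq_bot_iff, hker]
    exact hKL.not_ge
  have h1 := hmin _ hLn hLb
  have h2 : (L.map π).comap π = L := by
    rw [comap_map_eq, hker, sup_eq_left.2 hKL.le]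
  rw [← h2, _root_.commutator_def, commutator_le]
  intro a _ b _
  rw [mem_comap]
  apply h1
  have h3 := hkey (π a) (π b)
  rwa [← map_inv, ← map_inv, ← map_mul, ← map_mul, ← map_mul] at h3

end Cfsg.Agent.H598.FourQuot
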