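import Mathlib
import Cfsg.Agent.H598.FourQuot

/-!
# Garrison's theorem: solvable groups with four character degrees have derived length at most four
-/

set_option autoImplicit false

namespace Cfsg.Agent.H598.FourMain

open Cfsg Cfsg.Agent Cfsg.Agent.Characters Cfsg.Agent.Characters.Core
open Cfsg.Agent.H597.Base Cfsg.Agent.H598.FourCore Cfsg.Agent.H598.FourRel Subgroup
open Cfsg.Agent.H598.FourT2 Cfsg.Agent.H598.FourFrob Cfsg.Agent.H598.FourPrime
open Cfsg.Agent.H598.FourQuot Cfsg.Agent.H597.FrobA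
open Cfsg.Agent.Blocks.Basic (charDegree_of_eq irr_one_eq_charDegree charDegree_pos)
open scoped ComplexConjugate

universe u

/-- A nilpotent group. -/
theorem case_nilpotent {G : Type u} [Group G] [Finite G] (hG : Group.IsNilpotent G)
    (hcd : (charDegrees G).ncard ≤ 4) : derivedSeries G 4 = ⊥ := by
  have := Fintype.ofFinite G
  apply H597.Taketa.derivedSeries_eq_bot
  · intro χ hχ
    have hnil : Group.IsNilpotent (G ⧸ (⊥ : Subgroup G)) := inferInstance
    obtain ⟨H, f, -, hf⟩ := H597.Taketa.exists_linear_of_abelian_nilpotent (⊥ : Subgroup G)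
      (fun a ha b hb => by rw [mem_bot.1 ha, mem_bot.1 hb]) hnil hχ
    exact ⟨H, f, hf⟩
  · exact hcd

/-- Two further labels for the degrees. -/
theorem exists_labels {S : Set ℕ} (hS : S.Finite) (hcard : S.ncard ≤ 4) {a b : ℕ} (ha : a ∈ S)
    (hb : b ∈ S) (hab : a ≠ b) : ∃ x y : ℕ, ∀ s ∈ S, s = a ∨ s = b ∨ s = x ∨ s = y := by
  classical
  have h1 : (S \ {a, b}).ncard ≤ 2 := by
    have h2 : ({a, b} : Set ℕ) ⊆ S := by
      intro z hz
      simp only [Set.mem_insert_iff, Set.mem_singleton_iff] at hz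
      rcases hz with rfl | rfl
      · exact ha
      · exact hb
    have h3 := Set.ncard_sdiff_add_ncard_of_subset h2 hS
    rw [Set.ncard_pair hab] at h3
    omega
  have hfin : (S \ {a, b}).Finite := hS.subset Set.sdiff_subset
  by_cases hx : ∃ x, x ∈ S \ {a, b}
  · obtain ⟨x, hx⟩ := hx
    by_cases hy : ∃ y, y ∈ S \ {a, b} ∧ y ≠ x
    · obtain ⟨y, hy, hyx⟩ := hy
      refine ⟨x, y, fun s hs => ?_⟩
      by_contra hcon
      push Not at hcon
      have h2 : (({x, y, s} : Finset ℕ) : Set ℕ) ⊆ S \ {a, b} := by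
        intro z hz
        simp only [Finset.coe_insert, Finset.coe_singleton, Set.mem_insert_iff,
          Set.mem_singleton_iff] at hz
        rcases hz with rfl | rfl | rfl
        · exact hx
        · exact hy
        · refine ⟨hs, ?_⟩
          simp only [Set.mem_insert_iff, Set.mem_singleton_iff]
          exact fun h => h.elim hcon.1 hcon.2.1
      have h3 := Set.ncard_le_ncard h2 hfin
      have h4 : ({x, y, s} : Finset ℕ).card = 3 := by
        rw [Finset.card_eq_three]
        exact ⟨x, y, s, hyx.symm, hcon.2.2.1.symm, hcon.2.2.2.symm, rfl⟩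
      rw [Set.ncard_coe_finset, h4] at h3
      omega
    · push Not at hy
      refine ⟨x, x, fun s hs => ?_⟩
      by_contra hcon
      push Not at hcon
      refine hcon.2.2.1 (hy s ⟨hs, ?_⟩)
      simp only [Set.mem_insert_iff, Set.mem_singleton_iff]
      exact fun h => h.elim hcon.1 hcon.2.1
  · push Not at hx
    refine ⟨a, a, fun s hs => ?_⟩
    by_contra hcon
    push Not at hcon
    refine hx s ⟨hs, ?_⟩
    simp only [Set.mem_insert_iff, Set.mem_singleton_iff]
    exact fun h => h.elim hcon.1 hcon.2.1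

theorem main_aux (n : ℕ) : ∀ (G : Type u) [Group G] [Finite G] [Group.IsSolvable G],
    Nat.card G = n → (charDegrees G).ncard ≤ 4 → derivedSeries G 4 = ⊥ := by
  classical
  induction n using Nat.strong_induction_on with
  | _ n ih =>
  intro G _ _ _ hn hcd
  have := Fintype.ofFinite G
  by_cases hG : Group.IsNilpotent G
  · exact case_nilpotent hG hcd
  by_cases hP : ∀ p : ℕ, p.Prime → ∃ χ : G → ℂ, IsIrrCharacter G χ ∧ charDegree χ ≠ 1 ∧
      ¬ p ∣ charDegree χ
  swap
  · push Not at hP
    obtain ⟨p, hp, hdiv⟩ := hP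
    refine case_p1 hp hdiv hcd fun N hN hNcd => ih (Nat.card N) ?_ N rfl hNcd
    rw [← hn]
    exact lt_of_le_of_ne (card_le_card_group N) fun h => hN ((card_eq_iff_eq_top N).1 h)
  -- the minimal nonnilpotent quotient
  obtain ⟨K, hKmax⟩ := (Set.toFinite {K : Subgroup G | ∃ _ : K.Normal,
    ¬ Group.IsNilpotent (G ⧸ K)}).exists_maximal ⟨⊥, inferInstance, fun h => hG
      (Group.nilpotent_of_mulEquiv (QuotientGroup.quotientBot (G := G)))⟩
  obtain ⟨hKn, hKnil⟩ := hKmax.prop
  have hmax : ∀ (L : Subgroup G) [L.Normal], K < L → Group.IsNilpotent (G ⧸ L) := by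
    intro L hL hKL
    by_contra hcon
    exact hKL.not_ge (hKmax.le_of_ge (y := L) ⟨hL, hcon⟩ hKL.le)
  have hq := quot_comm K hKnil hmax hP hcd
  have hne : ¬ commutator G ≤ K := by
    intro hle
    apply hKnil
    have hc : ∀ a b : G ⧸ K, a * b = b * a := by
      intro a b
      induction a using QuotientGroup.induction_on with
      | H a =>
      induction b using QuotientGroup.induction_on with
      | H b =>
      have h1 : a * b * a⁻¹ * b⁻¹ ∈ K := hle (by
        rw [_root_.commutator_def]
        exact commutator_mem_commutator (mem_top a) (mem_top b))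
      have h2 := (QuotientGroup.eq_one_iff _).2 h1
      rw [QuotientGroup.mk_mul, QuotientGroup.mk_mul, QuotientGroup.mk_mul, QuotientGroup.mk_inv,
        QuotientGroup.mk_inv, mul_inv_eq_one, mul_inv_eq_iff_eq_mul] at h2
      exact h2
    let _ : CommGroup (G ⧸ K) := { (inferInstance : Group (G ⧸ K)) with mul_comm := hc }
    exact CommGroup.isNilpotent
  obtain ⟨r, hr, ⟨k, hk⟩ | ⟨N, hN, hF⟩⟩ := dichotomy_quot K inferInstance hne
    (fun L hL hKL => hq L hL hKL)
  · exfalso
    have := Fact.mk hr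
    apply hKnil
    exact (IsPGroup.of_card (p := r) (n := k) (by rw [← index_eq_card]; exact hk)).isNilpotent
  · obtain ⟨x, hxN, hxK⟩ := SetLike.exists_of_lt hF.lt
    obtain ⟨χ, hχ, hd⟩ := H597.FrobB.exists_degree_mul hF (ψ := 1) isIrr_one (n₀ := ⟨x, hxN⟩)
      hxK one_ne_zero
    have h1 : charDegree (1 : N → ℂ) = 1 := charDegree_of_eq (by simp)
    rw [h1, mul_one] at hd
    obtain ⟨a, b, hab⟩ := exists_labels finite_cds hcd (one_mem_cds (G := G))
      (hd ▸ mem_cds hχ : N.index ∈ charDegrees G)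
      (fun h => hF.ne_top (index_eq_one.1 h.symm))
    exact case_frob hr K N hF (fun χ hχ => hab _ (mem_cds hχ)) hP

/-- **Garrison's theorem.** -/
theorem main {G : Type u} [Group G] [Finite G] [Group.IsSolvable G]
    (hcd : (charDegrees G).ncard ≤ 4) : derivedSeries G 4 = ⊥ :=
  main_aux _ G rfl hcd

end Cfsg.Agent.H598.FourMain
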