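import Mathlib
import Cfsg.Agent.H598.MinNon
import Cfsg.Agent.H686.CharKit

/-!
# A small conjugacy class
-/

set_option autoImplicit false

namespace Cfsg.Agent.H598.MinNon

open Cfsg Cfsg.Agent Cfsg.Agent.Characters Cfsg.Agent.Characters.Core
open Cfsg.Agent.H597.Base Cfsg.Agent.H598.MaxDeg
open scoped ComplexConjugate commutatorElement

universe u

variable {Q : Type u} [Group Q] [Finite Q]

/-- There is a nontrivial conjugacy class of size at most `b²`. -/
theorem exists_small_class [Nontrivial Q] {b : ℕ} (h : Bd Q b) :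
    ∃ x : Q, x ≠ 1 ∧ (Subgroup.centralizer ({x} : Set Q)).index ≤ b ^ 2 := by
  classical
  have := Fintype.ofFinite Q
  have := finite_irr (G := Q)
  have := Fintype.ofFinite (IrrCharacter Q)
  by_contra hc
  push Not at hc
  set k := Fintype.card (IrrCharacter Q) with hk
  have h1 : ∑ x : Q, Nat.card (Subgroup.centralizer ({x} : Set Q)) = k * Nat.card Q := by
    have h2 : ∑ x : Q, (Nat.card (Subgroup.centralizer ({x} : Set Q)) : ℝ) = k * Nat.card Q := by
      rw [Finset.sum_congr rfl fun x _ => (H686.CharKit.sum_normSq x).symm, Finset.sum_comm,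
        Finset.sum_congr rfl fun χ _ => (card_eq_sum_normSq χ.2).symm, Finset.sum_const,
        Finset.card_univ, nsmul_eq_mul]
    exact_mod_cast h2
  have h2 := H686.CharKit.sum_deg_sq (G := Q)
  have hone : Nat.card (Subgroup.centralizer ({(1 : Q)} : Set Q)) = Nat.card Q := by
    have : Subgroup.centralizer ({(1 : Q)} : Set Q) = ⊤ := by
      rw [Subgroup.eq_top_iff']
      intro x
      rw [Subgroup.mem_centralizer_singleton_iff, mul_one, one_mul]
    rw [this, Subgroup.card_top]
  rw [← Finset.add_sum_erase _ _ (Finset.mem_univ (1 : Q)), hone] at h1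
  have h3 : (∑ x ∈ Finset.univ.erase (1 : Q), Nat.card (Subgroup.centralizer ({x} : Set Q)))
      * (b ^ 2 + 1) ≤ (Nat.card Q - 1) * Nat.card Q := by
    rw [Finset.sum_mul]
    refine (Finset.sum_le_card_nsmul _ _ (Nat.card Q) fun x hx => ?_).trans ?_
    · have h4 := hc x (Finset.ne_of_mem_erase hx)
      rw [← (Subgroup.centralizer ({x} : Set Q)).card_mul_index]
      exact Nat.mul_le_mul_left _ h4
    · rw [Finset.card_erase_of_mem (Finset.mem_univ _), Finset.card_univ, smul_eq_mul,
        Nat.card_eq_fintype_card]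
  have h4 : Nat.card Q ≤ 1 + (k - 1) * b ^ 2 := by
    rw [← h2, ← Finset.add_sum_erase _ _ (Finset.mem_univ (⟨1, isIrr_one⟩ : IrrCharacter Q))]
    have h5 : charDegree ((⟨1, isIrr_one⟩ : IrrCharacter Q) : Q → ℂ) = 1 := by
      have h6 := apply_one (isIrr_one (G := Q))
      have h7 : charDegree (1 : Q → ℂ) = 1 := by
        rw [Pi.one_apply] at h6
        exact_mod_cast h6.symm
      exact h7
    rw [h5, one_pow]
    refine Nat.add_le_add_left ?_ 1
    refine (Finset.sum_le_card_nsmul _ _ (b ^ 2) fun χ _ => ?_).trans ?_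
    · exact Nat.pow_le_pow_left (h χ χ.2) 2
    · rw [Finset.card_erase_of_mem (Finset.mem_univ _), Finset.card_univ, smul_eq_mul]
  have hQ1 : 1 < Nat.card Q := Finite.one_lt_card
  have hk1 : 1 ≤ k := Fintype.card_pos_iff.2 ⟨⟨1, isIrr_one⟩⟩
  set S := ∑ x ∈ Finset.univ.erase (1 : Q), Nat.card (Subgroup.centralizer ({x} : Set Q)) with hS
  obtain ⟨k', hk'⟩ : ∃ k', k = k' + 1 := ⟨k - 1, by omega⟩
  obtain ⟨n, hn⟩ : ∃ n, Nat.card Q = n + 1 := ⟨Nat.card Q - 1, by omega⟩
  rw [hk', hn] at h1 h4
  rw [hn] at h3 hQ1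
  simp only [Nat.add_sub_cancel] at h3 h4
  -- `S = k' (n + 1)`
  have h5 : S = k' * (n + 1) := by linarith
  rw [h5] at h3
  have h6 : k' * (b ^ 2 + 1) ≤ n := by
    have h7 : (k' * (b ^ 2 + 1)) * (n + 1) ≤ n * (n + 1) := by nlinarith
    exact Nat.le_of_mul_le_mul_right h7 (by omega)
  nlinarith

omit [Finite Q] in
/-- The centralizer of a nontrivial element has trivial core, if `Q'` is not abelian and lies in all
nontrivial normal subgroups. -/
theorem normalCore_eq_bot (hQ : ∀ N : Subgroup Q, N.Normal → N ≠ ⊥ → commutator Q ≤ N)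
    (hnab : ¬ ∀ x ∈ commutator Q, ∀ y ∈ commutator Q, x * y = y * x) {x : Q} (hx : x ≠ 1) :
    (Subgroup.centralizer ({x} : Set Q)).normalCore = ⊥ := by
  by_contra hne
  have h1 := hQ _ inferInstance hne
  have h2 : x ∈ Subgroup.centralizer (commutator Q : Set Q) := by
    rw [Subgroup.mem_centralizer_iff]
    intro w hw
    exact Subgroup.mem_centralizer_singleton_iff.1 (Subgroup.normalCore_le _ (h1 hw))
  have h3 : Subgroup.centralizer (commutator Q : Set Q) ≠ ⊥ := by
    intro h4
    rw [h4, Subgroup.mem_bot] at h2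
    exact hx h2
  have h4 := hQ _ inferInstance h3
  apply hnab
  intro a ha c hc
  exact (Subgroup.mem_centralizer_iff.1 (h4 ha) c hc).symm

omit [Finite Q] in
/-- If `Q'` is not abelian and lies in all nontrivial normal subgroups then `Q` is not solvable. -/
theorem not_solvable (hQ : ∀ N : Subgroup Q, N.Normal → N ≠ ⊥ → commutator Q ≤ N)
    (hnab : ¬ ∀ x ∈ commutator Q, ∀ y ∈ commutator Q, x * y = y * x) :
    ¬ Group.IsSolvable Q := by
  intro hs
  have hne : commutator Q ≠ ⊥ := by
    intro h
    apply hnab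
    intro x hx y hy
    rw [h, Subgroup.mem_bot] at hx hy
    rw [hx, hy]
  have h1 : ⁅commutator Q, commutator Q⁆ ≠ ⊥ := by
    intro h2
    apply hnab
    intro x hx y hy
    have h3 := Subgroup.commutator_mem_commutator hx hy
    rw [h2, Subgroup.mem_bot, commutatorElement_eq_one_iff_mul_comm] at h3
    exact h3
  have h2 := hQ _ (Subgroup.commutator_normal _ _) h1
  have h3 : ⁅commutator Q, commutator Q⁆ = commutator Q :=
    le_antisymm (Subgroup.commutator_le_left _ _) h2
  have h4 : ∀ n : ℕ, commutator Q ≤ derivedSeries Q n := by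
    intro n
    induction n with
    | zero => exact le_top
    | succ n ih =>
      rw [derivedSeries_succ, ← h3]
      exact Subgroup.commutator_mono ih ih
  obtain ⟨n, hn⟩ := hs.solvable
  have h5 := h4 n
  rw [hn] at h5
  exact hne (le_bot_iff.1 h5)

end Cfsg.Agent.H598.MinNon
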